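import Cfsg.Agent.Lib.SectThree.Movers

/-!
Small group-theoretic lemmas.
-/

set_option autoImplicit false
set_option linter.unusedSectionVars false
set_option linter.style.haveILetI false

namespace CfsgLib.SectThree

open Subgroup

variable {p : ℕ} [hpf : Fact p.Prime] {G : Type*} [Group G]

/-- A `p`-th power of a product in a class two situation. -/
theorem mul_pow_class_two (hp : p ≠ 2) {g h w : G} (hw : w ^ p = 1) (hg : Commute g w) (hh : Commute h w)
    (hhg : h * g = w * (g * h)) : (g * h) ^ p = g ^ p * h ^ p := by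
  have hsw : ∀ n : ℕ, h ^ n * g = w ^ n * (g * h ^ n) := by
    intro n
    induction n with
    | zero => simp
    | succ n ih =>
      rw [pow_succ', mul_assoc, ih, ← mul_assoc, (hh.pow_right n).eq, mul_assoc, ← mul_assoc h g, hhg, pow_succ w n]
      simp [mul_assoc]
  have hn : ∀ n : ℕ, (g * h) ^ n = w ^ (n.choose 2) * (g ^ n * h ^ n) := by
    intro n
    induction n with
    | zero => simp
    | succ n ih =>
      rw [pow_succ, ih, mul_assoc, mul_assoc (g ^ n), ← mul_assoc (h ^ n) g, hsw, Nat.choose_succ_succ,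
        Nat.choose_one_right, add_comm n (Nat.choose n 2), pow_add, pow_succ g, pow_succ h,
        mul_assoc (w ^ n) (g * h ^ n) h, ← mul_assoc (g ^ n) (w ^ n), ((hg.pow_pow n n)).eq]
      simp [mul_assoc]
  obtain ⟨m, hm⟩ : p ∣ p.choose 2 := hpf.out.dvd_choose_self two_ne_zero (lt_of_le_of_ne hpf.out.two_le (Ne.symm hp))
  rw [hn, hm, pow_mul, hw, one_pow, one_mul]

/-- An element of `p`-power order cannot act by a nontrivial scalar on a cyclic group of order `p`. -/
theorem cyclic_fix {M : Subgroup G} [M.Normal] {q : G} (hq : q ^ p ∈ M) {f : MulAut G}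
    (hfM : ∀ x ∈ M, f x ∈ M) {k : ℕ} (hk : (q ^ k)⁻¹ * f q ∈ M) {n : ℕ} (hn : f ^ p ^ n = 1) : q⁻¹ * f q ∈ M := by
  let π := QuotientGroup.mk' M
  have hπM : ∀ {x}, x ∈ M → π x = 1 := fun hx => (QuotientGroup.eq_one_iff _).mpr hx
  have hstep : ∀ j : ℕ, π ((f ^ j) q) = π q ^ (k ^ j) := by
    intro j
    induction j with
    | zero => simp
    | succ j ih =>
      obtain ⟨w, hw, hwe⟩ : ∃ w ∈ M, (f ^ j) q = q ^ (k ^ j) * w :=
        ⟨(q ^ (k ^ j))⁻¹ * (f ^ j) q, (QuotientGroup.eq).mp (by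
          show π (q ^ (k ^ j)) = π ((f ^ j) q)
          rw [ih, map_pow]), by rw [mul_inv_cancel_left]⟩
      rw [pow_succ', MulAut.mul_apply, hwe, map_mul, map_mul, hπM (hfM w hw), mul_one, map_pow, map_pow,
        show π (f q) = π q ^ k from by
          rw [show f q = q ^ k * ((q ^ k)⁻¹ * f q) by group, map_mul, hπM hk, mul_one, map_pow], ← pow_mul,
        ← pow_succ']
  have hqp : π q ^ p = 1 := by rw [← map_pow, hπM hq]
  by_cases hq1 : π q = 1
  · have hqM : q ∈ M := (QuotientGroup.eq_one_iff _).mp hq1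
    exact mul_mem (inv_mem hqM) (hfM q hqM)
  have h := hstep (p ^ n)
  rw [hn, MulAut.one_apply] at h
  have hord : orderOf (π q) = p := orderOf_eq_prime hqp hq1
  have hmod : (k ^ (p ^ n)) % p = 1 % p := by
    have h1 : π q ^ (k ^ (p ^ n)) = π q ^ 1 := by rw [pow_one]; exact h.symm
    rw [pow_eq_pow_iff_modEq, hord] at h1
    exact h1
  have hk1 : (k : ZMod p) = 1 := by
    have h1 : ((k ^ (p ^ n) : ℕ) : ZMod p) = ((1 : ℕ) : ZMod p) := (ZMod.natCast_eq_natCast_iff' _ _ _).mpr hmod
    push_cast at h1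
    rwa [ZMod.pow_card_pow] at h1
  refine (QuotientGroup.eq).mp ?_
  show π q = π (f q)
  rw [show f q = q ^ k * ((q ^ k)⁻¹ * f q) by group, map_mul, hπM hk, mul_one, map_pow]
  conv_lhs => rw [← pow_one (π q)]
  rw [pow_eq_pow_iff_modEq, hord]
  exact ((ZMod.natCast_eq_natCast_iff 1 k p).mp (by rw [hk1, Nat.cast_one]))

end CfsgLib.SectThree
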