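import Cfsg.Agent.Lib.SectThree.Third

/-!
The case of commuting translates is impossible.
-/

set_option autoImplicit false
set_option linter.unusedSectionVars false
set_option linter.style.haveILetI false

namespace CfsgLib.SectThree

open Subgroup
open scoped commutatorElement

variable {p : ℕ} [hpf : Fact p.Prime] {P : Type*} [Group P] [Finite P]

/-- A translate not commuting with the large orbit. -/
structure Nc (D : Sys p P) (E₁ E₂ E₃ : Subgroup P) where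
  base : Third D E₁ E₂ E₃
  α : MulAut E₃
  a : E₃
  b : P
  hα : α ∈ D.A E₃
  ha : (a : P) ∈ D.orbit E₂ (D.mov E₁)
  hb : b ∈ D.orbit E₂ (D.mov E₁)
  hne : ((α a : E₃) : P) * b ≠ b * ((α a : E₃) : P)

namespace Nc

variable {D : Sys p P} {E₁ E₂ E₃ : Subgroup P} (N : Nc D E₁ E₂ E₃)

local notation "V" => D.mov E₁
local notation "Wd" => D.orbit E₂ (D.mov E₁)
local notation "R" => D.orbit E₃ (D.orbit E₂ (D.mov E₁))

/-- The translate. -/
def u : P := ((N.α N.a : E₃) : P)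

/-- The elements of the intersection centralising all translates. -/
def Q (_N : Nc D E₁ E₂ E₃) : Subgroup P := E₁ ⊓ E₃ ⊓ centralizer (R : Set P)

include N

theorem u_mem : N.u ∈ R := subset_closure ⟨N.α, N.hα, N.a, N.ha, rfl⟩

theorem b_mem : N.b ∈ R := D.le_orbit N.base.W_le N.hb

theorem b_notMem : N.b ∉ V := fun h => N.hne (D.mov_comm h (N.base.R_le_E₁ N.u_mem))

theorem z_normal : (zOne p P).Normal := zOne_normal

theorem R_normal : (R).Normal := D.orbit_normal N.base.mem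

theorem Q_normal : N.Q.Normal := by
  haveI := D.nrm E₁ N.base.moving.mover.1
  haveI := D.nrm E₃ N.base.mem
  haveI := N.R_normal
  unfold Nc.Q
  infer_instance

theorem V_le_Q : V ≤ N.Q := fun v hv => ⟨⟨D.mov_le hv, N.base.V_le hv⟩,
  mem_centralizer_iff.mpr fun r hr => D.mov_comm hv (N.base.R_le_E₁ hr)⟩

theorem R_le_E₃ : R ≤ E₃ := D.orbit_le

theorem R_le : R ≤ E₁ ⊓ E₃ := le_inf N.base.R_le_E₁ D.orbit_le

/-- Elements of the third member move translates by the small orbit. -/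
theorem comm_R {g : P} (hg : g ∈ E₃) {r : P} (hr : r ∈ R) : g * r * g⁻¹ * r⁻¹ ∈ V := by
  haveI := D.mov_normal N.base.moving.mover.1
  let π := QuotientGroup.mk' V
  have hle : R ≤ (centralizer ({π g} : Set _)).comap π := by
    rw [Sys.orbit, closure_le]
    rintro _ ⟨α, hα, e, he, rfl⟩
    refine mem_centralizer_singleton_iff.mpr ?_
    have h0 : ((α⁻¹ ⟨g, hg⟩ * e * (α⁻¹ ⟨g, hg⟩)⁻¹ * e⁻¹ : E₃) : P) ∈ V := by
      push_cast
      exact N.base.moving.wd_comm _ he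
    have h1 := N.base.V_inv hα h0
    rw [map_mul, map_mul, map_mul, map_inv, map_inv, MulAut.apply_inv_self] at h1
    push_cast at h1
    have h2 : π (g * ((α e : E₃) : P) * g⁻¹ * ((α e : E₃) : P)⁻¹) = 1 := (QuotientGroup.eq_one_iff _).mpr h1
    rw [map_mul, map_mul, map_mul, map_inv, map_inv, mul_inv_eq_one, mul_inv_eq_iff_eq_mul] at h2
    exact h2.symm
  have h := mem_centralizer_singleton_iff.mp (hle hr)
  rw [← QuotientGroup.eq_one_iff]
  show π _ = 1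
  rw [map_mul, map_mul, map_mul, map_inv, map_inv, ← h, mul_inv_cancel_right, mul_inv_cancel]

/-- Powers of an element of the intersection act by powers of the commutator. -/
theorem act_pow {g : P} (hg : g ∈ E₁ ⊓ E₃) {r : P} (hr : r ∈ R) (n : ℕ) :
    g ^ n * r * (g ^ n)⁻¹ = (g * r * g⁻¹ * r⁻¹) ^ n * r := by
  set v := g * r * g⁻¹ * r⁻¹ with hv
  have hgv : Commute g v := N.base.comm_VE₁ (N.comm_R hg.2 hr) hg.1
  induction n with
  | zero => simp
  | succ n ih =>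
    rw [pow_succ', show g * g ^ n * r * (g * g ^ n)⁻¹ = g * (g ^ n * r * (g ^ n)⁻¹) * g⁻¹ by group, ih,
      show g * (v ^ n * r) * g⁻¹ = (g * v ^ n * g⁻¹) * (g * r * g⁻¹) by group, (hgv.pow_right n).eq,
      mul_inv_cancel_right, show g * r * g⁻¹ = v * r by simp [hv, mul_assoc], ← mul_assoc, ← pow_succ]

theorem card_D3 : Nat.card (E₁ ⊓ E₃ : Subgroup P) ≤ p ^ 3 * Nat.card N.Q := by
  haveI := N.Q_normal
  refine D.section_le (U := E₁ ⊓ E₃) (N := N.Q) inf_le_left (fun g _ x hx => N.Q_normal.conj_mem x hx g)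
    (fun a ha b hb => ⟨(E₁ ⊓ E₃).mul_mem ((E₁ ⊓ E₃).mul_mem ((E₁ ⊓ E₃).mul_mem ha hb) ((E₁ ⊓ E₃).inv_mem ha))
      ((E₁ ⊓ E₃).inv_mem hb), mem_centralizer_iff.mpr ?_⟩)
    fun a ha => ⟨(E₁ ⊓ E₃).pow_mem ha p, mem_centralizer_iff.mpr ?_⟩
  · intro r hr
    have hva := N.comm_R ha.2 hr
    have hvb := N.comm_R hb.2 hr
    set va := a * r * a⁻¹ * r⁻¹ with hva'
    set vb := b * r * b⁻¹ * r⁻¹ with hvb'
    have h1 : (a * b) * r * (a * b)⁻¹ = vb * va * r := by
      rw [show (a * b) * r * (a * b)⁻¹ = (a * vb * a⁻¹) * (va * r) by simp [hva', hvb', mul_assoc],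
        (N.base.comm_VE₁ hvb ha.1).eq, mul_inv_cancel_right, ← mul_assoc vb va r]
    have h2 : (b * a) * r * (b * a)⁻¹ = vb * va * r := by
      rw [show (b * a) * r * (b * a)⁻¹ = (b * va * b⁻¹) * (vb * r) by simp [hva', hvb', mul_assoc],
        (N.base.comm_VE₁ hva hb.1).eq, mul_inv_cancel_right, ← mul_assoc va vb r,
        (N.base.comm_VE₁ hvb (D.mov_le hva)).eq]
    have h3 : (a * b * a⁻¹ * b⁻¹) * r * (a * b * a⁻¹ * b⁻¹)⁻¹ = r := by
      have h4 : (a * b * a⁻¹ * b⁻¹) * ((b * a) * r * (b * a)⁻¹) * (a * b * a⁻¹ * b⁻¹)⁻¹ =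
          (a * b) * r * (a * b)⁻¹ := by group
      rw [h1, h2] at h4
      set c := a * b * a⁻¹ * b⁻¹
      have hc : c ∈ E₁ := mul_mem (mul_mem (mul_mem ha.1 hb.1) (inv_mem ha.1)) (inv_mem hb.1)
      have hcv : Commute c (vb * va) := N.base.comm_VE₁ (mul_mem hvb hva) hc
      rw [show c * (vb * va * r) * c⁻¹ = (c * (vb * va) * c⁻¹) * (c * r * c⁻¹) by group, hcv.eq,
        mul_inv_cancel_right] at h4
      exact mul_left_cancel h4
    exact (mul_inv_eq_iff_eq_mul.mp h3).symm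
  · intro r hr
    have h := N.act_pow ha hr p
    rw [D.mov_pow (N.comm_R ha.2 hr), one_mul] at h
    exact (mul_inv_eq_iff_eq_mul.mp h).symm

theorem card_RQ : p ^ 2 * Nat.card N.Q ≤ Nat.card (R ⊔ N.Q : Subgroup P) := by
  set u := N.u
  set b := N.b
  have hbQ : N.b ∉ N.Q := fun h => N.hne (mem_centralizer_iff.mp h.2 N.u N.u_mem)
  have huQ : N.u ∉ N.Q ⊔ zpowers N.b := by
    intro h
    refine N.hne ?_
    have hle : N.Q ⊔ zpowers N.b ≤ centralizer ({N.b} : Set P) := sup_le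
      (fun q hq => mem_centralizer_singleton_iff.mpr (mem_centralizer_iff.mp hq.2 N.b N.b_mem).symm)
      (zpowers_le.mpr (mem_centralizer_singleton_iff.mpr rfl))
    exact mem_centralizer_singleton_iff.mp (hle h)
  have h1 := mul_card_le_of_lt D.pg (lt_of_le_of_ne le_sup_left
    (fun e => hbQ (e.ge (mem_sup_right (mem_zpowers _)))) : N.Q < N.Q ⊔ zpowers N.b)
  have h2 := mul_card_le_of_lt D.pg (lt_of_le_of_ne le_sup_left
    (fun e => huQ (e.ge (mem_sup_right (mem_zpowers _)))) : N.Q ⊔ zpowers N.b < N.Q ⊔ zpowers N.b ⊔ zpowers N.u)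
  refine le_trans ?_ (Subgroup.card_le_of_le (sup_le (sup_le le_sup_right
    (zpowers_le.mpr (mem_sup_left N.b_mem))) (zpowers_le.mpr (mem_sup_left N.u_mem)) :
      N.Q ⊔ zpowers N.b ⊔ zpowers N.u ≤ R ⊔ N.Q))
  calc p ^ 2 * Nat.card N.Q = p * (p * Nat.card N.Q) := by ring
    _ ≤ p * Nat.card (N.Q ⊔ zpowers N.b : Subgroup P) := Nat.mul_le_mul_left p h1
    _ ≤ _ := h2

theorem RQ_le : R ⊔ N.Q ≤ E₁ ⊓ E₃ := sup_le N.R_le inf_le_left

theorem card_D3_le : Nat.card (E₁ ⊓ E₃ : Subgroup P) ≤ p * Nat.card (R ⊔ N.Q : Subgroup P) :=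
  N.card_D3.trans ((le_of_eq (by ring)).trans (Nat.mul_le_mul_left p N.card_RQ))

theorem Wd_eq : Wd = V ⊔ zpowers N.b := by
  refine (eq_of_le_of_card_ge (sup_le (D.le_orbit N.base.moving.le) (zpowers_le.mpr N.hb)) ?_).symm
  have h := mul_card_le_of_lt D.pg (lt_of_le_of_ne le_sup_left
    (fun e => N.b_notMem (e.ge (mem_sup_right (mem_zpowers _)))) : V < V ⊔ zpowers N.b)
  rw [N.base.moving.mov_card.1, ← pow_succ'] at h
  rw [N.base.moving.mov_card.2]
  exact h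

theorem u_notMem : N.u ∉ Wd := fun h => N.hne (N.base.moving.orbit_comm h N.hb)

theorem R_eq : R = Wd ⊔ zpowers N.u := by
  refine (eq_of_le_of_card_ge (sup_le (D.le_orbit N.base.W_le) (zpowers_le.mpr N.u_mem)) ?_).symm
  have h := mul_card_le_of_lt D.pg (lt_of_le_of_ne le_sup_left
    (fun e => N.u_notMem (e.ge (mem_sup_right (mem_zpowers _)))) : Wd < Wd ⊔ zpowers N.u)
  rw [N.base.moving.mov_card.2, ← pow_succ'] at h
  rw [N.base.R_card]
  exact h

theorem R_le_of {H : Subgroup P} (hV : V ≤ H) (hb : N.b ∈ H) (hu : N.u ∈ H) : R ≤ H := by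
  rw [N.R_eq, N.Wd_eq]
  exact sup_le (sup_le hV (zpowers_le.mpr hb)) (zpowers_le.mpr hu)

/-- The centralising part is cyclic over the centre. -/
theorem exists_gen : ∃ q₀ ∈ N.Q, N.Q = zpowers q₀ ⊔ zOne p P := by
  have hpp : p.Prime := hpf.out
  haveI := N.Q_normal
  haveI := N.R_normal
  haveI := zOne_normal (p := p) (P := P)
  haveI : ((frattini N.Q).map N.Q.subtype).Normal := by
    refine ⟨?_⟩
    rintro _ ⟨v, hv, rfl⟩ g
    exact ⟨MulAut.conjNormal g v, (Subgroup.characteristic_iff_comap_eq.mp frattini_characteristic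
      (MulAut.conjNormal g)).ge hv, MulAut.conjNormal_apply g v⟩
  set M := (frattini N.Q).map N.Q.subtype ⊔ zOne p P
  haveI : M.Normal := Subgroup.sup_normal _ _
  have hzQ : zOne p P ≤ N.Q := (D.zOne_le_mov N.base.moving.mover.1).trans N.V_le_Q
  refine exists_gen_over D.pg hzQ ?_
  let π := QuotientGroup.mk' M
  have hπz : ∀ {x}, x ∈ zOne p P → π x = 1 := fun hx => (QuotientGroup.eq_one_iff _).mpr (mem_sup_right hx)
  have hRR : ∀ {r s}, r ∈ R → s ∈ R → Commute (π r) (π s) := fun {r s} hr hs => by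
    have h := hπz (N.base.gen_comm hr hs)
    rwa [map_mul, map_mul, map_mul, map_inv, map_inv, mul_inv_eq_one, mul_inv_eq_iff_eq_mul] at h
  have hRQ : ∀ {r q}, r ∈ R → q ∈ N.Q → Commute (π r) (π q) := fun {r q} hr hq => by
    show π r * π q = π q * π r
    rw [← map_mul, ← map_mul, mem_centralizer_iff.mp hq.2 r hr]
  have hQQ : ∀ {q q'}, q ∈ N.Q → q' ∈ N.Q → Commute (π q) (π q') := fun {q q'} hq hq' => by
    show π q * π q' = π q' * π q
    rw [← map_mul, ← map_mul]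
    refine QuotientGroup.eq.mpr (mem_sup_left ⟨_, CfsgLib.commutator_le_frattini_pGroup (D.pg.to_subgroup N.Q)
      (commutator_mem_commutator (mem_top (⟨q', hq'⟩ : N.Q)⁻¹) (mem_top (⟨q, hq⟩ : N.Q)⁻¹)), ?_⟩)
    simp [commutatorElement_def, mul_assoc]
  have hdec : ∀ x ∈ R ⊔ N.Q, ∃ r ∈ R, ∃ q ∈ N.Q, r * q = x := fun x hx => Subgroup.mem_sup_of_normal_right.mp hx
  have hle := D.section_le (U := R ⊔ N.Q) (N := M) (sup_le ((map_subtype_le _).trans le_sup_right)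
    (hzQ.trans le_sup_right)) (fun g _ x hx => (inferInstance : M.Normal).conj_mem x hx g)
    (fun a ha b hb => by
      obtain ⟨r, hr, q, hq, rfl⟩ := hdec a ha
      obtain ⟨s, hs, t, ht, rfl⟩ := hdec b hb
      rw [← QuotientGroup.eq_one_iff]
      show π _ = 1
      have hc : Commute (π (r * q)) (π (s * t)) := by
        rw [map_mul, map_mul]
        exact ((hRR hr hs).mul_right (hRQ hr ht)).mul_left ((hRQ hs hq).symm.mul_right (hQQ hq ht))
      rw [map_mul, map_mul, map_mul, hc.eq, map_inv, map_inv, mul_inv_cancel_right, mul_inv_cancel])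
    fun a ha => by
      obtain ⟨r, hr, q, hq, rfl⟩ := hdec a ha
      rw [← QuotientGroup.eq_one_iff]
      show π _ = 1
      rw [map_pow, map_mul, (hRQ hr hq).mul_pow, ← map_pow, N.base.R_pow hr, map_one, one_mul, ← map_pow]
      exact (QuotientGroup.eq_one_iff _).mpr
        (mem_sup_left ⟨_, CfsgLib.pow_mem_frattini_pGroup (D.pg.to_subgroup N.Q) ⟨q, hq⟩, rfl⟩)
  refine Nat.le_of_mul_le_mul_left ((N.card_RQ.trans hle).trans (le_of_eq ?_)) (pow_pos hpp.pos 2)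
  ring

theorem exists_pow_mul_gen {q₀ : P} (hQ : N.Q = zpowers q₀ ⊔ zOne p P) {q : P} (hq : q ∈ N.Q) :
    ∃ (k : ℕ) (z : P), z ∈ zOne p P ∧ q = q₀ ^ k * z := by
  haveI := zOne_normal (p := p) (P := P)
  rw [hQ] at hq
  obtain ⟨x, hx, z, hz, rfl⟩ := Subgroup.mem_sup_of_normal_right.mp hq
  obtain ⟨k, rfl⟩ := mem_powers_iff_mem_zpowers.mpr hx
  exact ⟨k, z, hz, rfl⟩

/-- The commutators with the large orbit in the intersection are central. -/
theorem comm_b {g : P} (hg : g ∈ E₁ ⊓ E₃) : g * N.b * g⁻¹ * N.b⁻¹ ∈ zOne p P := by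
  classical
  by_contra hbad
  have hpp : p.Prime := hpf.out
  haveI hVn := D.mov_normal N.base.moving.mover.1
  haveI := N.R_normal
  haveI := N.Q_normal
  haveI := N.base.moving.wd_normal
  haveI hzn := zOne_normal (p := p) (P := P)
  haveI := D.nrm E₁ N.base.moving.mover.1
  haveI := D.nrm E₃ N.base.mem
  haveI : (R ⊔ N.Q).Normal := Subgroup.sup_normal _ _
  have hVzle : zOne p P ≤ V := D.zOne_le_mov N.base.moving.mover.1
  have hmovu : ∀ x ∈ E₁, x * N.u * x⁻¹ * N.u⁻¹ ∈ V := by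
    intro x hx
    have hW : x * N.u * x⁻¹ * N.u⁻¹ ∈ Wd := comm_mem_of_card_le D.pg (D.le_orbit N.base.W_le)
      (by rw [N.base.R_card, N.base.moving.mov_card.2, ← pow_succ']) x N.u_mem
    rw [N.Wd_eq] at hW
    obtain ⟨v, hv, w, hw, hvw⟩ := Subgroup.mem_sup_of_normal_left.mp hW
    obtain ⟨j, hj⟩ := mem_powers_iff_mem_zpowers.mpr hw
    have hj' : N.b ^ j = w := hj
    subst hj'
    suffices hbj : N.b ^ j = 1 by rw [← hvw, hbj, mul_one]; exact hv
    by_contra hne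
    set cb := g * N.b * g⁻¹ * N.b⁻¹ with hcb
    set cu := g * N.u * g⁻¹ * N.u⁻¹ with hcu
    have hcbV : cb ∈ V := N.comm_R hg.2 N.b_mem
    have hcuV : cu ∈ V := N.comm_R hg.2 N.u_mem
    set g' := x * g * x⁻¹ with hg'
    have hr : g * g'⁻¹ ∈ R ⊔ N.Q := by
      have h := inv_mem (comm_mem_of_card_le D.pg N.RQ_le N.card_D3_le x hg)
      simpa [hg', mul_assoc] using h
    let π := QuotientGroup.mk' (zOne p P)
    have hRQc : ∀ {r}, r ∈ R → Commute (π (g * g'⁻¹)) (π r) := fun {r} hr' => by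
      have hle : R ⊔ N.Q ≤ (centralizer ({π r} : Set _)).comap π := sup_le
        (fun s hs => mem_centralizer_singleton_iff.mpr (by
          have h : π (s * r * s⁻¹ * r⁻¹) = 1 := (QuotientGroup.eq_one_iff _).mpr (N.base.gen_comm hs hr')
          rwa [map_mul, map_mul, map_mul, map_inv, map_inv, mul_inv_eq_one, mul_inv_eq_iff_eq_mul] at h))
        (fun q hq => mem_centralizer_singleton_iff.mpr (by
          rw [← map_mul, ← map_mul, mem_centralizer_iff.mp hq.2 r hr']))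
      exact mem_centralizer_singleton_iff.mp (hle hr)
    have hu' : x * N.u * x⁻¹ = v * N.b ^ j * N.u := by rw [hvw]; group
    have hg1 : g ∈ E₁ := hg.1
    have hfix : ∀ {w}, w ∈ V → ∀ {e}, e ∈ E₁ → e * w * e⁻¹ = w := fun {w} hw' {e} he => by
      rw [(N.base.comm_VE₁ hw' he).eq, mul_inv_cancel_right]
    have hu'R : x * N.u * x⁻¹ ∈ R := (inferInstance : (R).Normal).conj_mem _ N.u_mem x
    have h1 : g' * (x * N.u * x⁻¹) * g'⁻¹ = cu * (x * N.u * x⁻¹) := by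
      rw [show g' * (x * N.u * x⁻¹) * g'⁻¹ = (x * cu * x⁻¹) * (x * N.u * x⁻¹) by simp [hg', hcu, mul_assoc],
        hfix hcuV hx]
    have h2 : g * (v * N.b ^ j * N.u) * g⁻¹ = cb ^ j * cu * (v * N.b ^ j * N.u) := by
      have hbpow : g * N.b ^ j * g⁻¹ = cb ^ j * N.b ^ j := by
        rw [← conj_pow, show g * N.b * g⁻¹ = cb * N.b by simp [hcb, mul_assoc],
          (N.base.comm_VE₁ hcbV (N.base.R_le_E₁ N.b_mem)).symm.mul_pow]
      rw [show g * (v * N.b ^ j * N.u) * g⁻¹ = (g * v * g⁻¹) * (g * N.b ^ j * g⁻¹) * (cu * N.u) by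
        simp [hcu, mul_assoc], hfix hv hg1, hbpow]
      have k1 : Commute (cb ^ j) v := N.base.comm_VE₁ hv (D.mov_le (pow_mem hcbV j))
      have k2 : Commute (N.b ^ j) cu := N.base.comm_VE₁ hcuV (pow_mem (N.base.R_le_E₁ N.b_mem) j)
      have k3 : Commute v cu := N.base.comm_VE₁ hcuV (D.mov_le hv)
      calc v * (cb ^ j * N.b ^ j) * (cu * N.u) = (v * cb ^ j) * (N.b ^ j * cu) * N.u := by group
        _ = (cb ^ j * v) * (cu * N.b ^ j) * N.u := by rw [k1.eq, k2.eq]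
        _ = cb ^ j * (v * cu) * (N.b ^ j * N.u) := by group
        _ = cb ^ j * cu * (v * N.b ^ j * N.u) := by rw [k3.eq]; group
    have h3 : π (g * (x * N.u * x⁻¹) * g⁻¹) = π (g' * (x * N.u * x⁻¹) * g'⁻¹) := by
      have h4 : Commute (π (g * g'⁻¹)) (π (g' * (x * N.u * x⁻¹) * g'⁻¹)) :=
        hRQc ((inferInstance : (R).Normal).conj_mem _ hu'R g')
      have h5 : g * (x * N.u * x⁻¹) * g⁻¹ = g * g'⁻¹ * (g' * (x * N.u * x⁻¹) * g'⁻¹) * (g * g'⁻¹)⁻¹ := by group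
      rw [h5, map_mul, map_mul _ (g * g'⁻¹), h4.eq, map_inv, mul_inv_cancel_right]
    rw [h1, hu', h2, map_mul π (cb ^ j * cu), map_mul π (cb ^ j), map_mul π cu, mul_left_inj, mul_eq_right] at h3
    have h4 : cb ^ j ∈ zOne p P := (QuotientGroup.eq_one_iff _).mp h3
    have hpj : ¬ p ∣ j := fun hd => hne (by
      obtain ⟨k, rfl⟩ := hd
      rw [pow_mul, N.base.moving.orbit_pow N.hb, one_pow])
    obtain ⟨m, -, hm⟩ := Nat.exists_mul_mod_eq_one_of_coprime
      ((hpp.coprime_iff_not_dvd.mpr hpj).symm) hpp.one_lt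
    apply hbad
    have h5 := (zOne p P).pow_mem h4 m
    rwa [← pow_mul, pow_eq_pow_mod _ (D.mov_pow hcbV), hm, pow_one] at h5
  -- the flag in the third member
  obtain ⟨x, hx1, hx3⟩ := N.base.exists_out₁
  have hE₃ := N.base.mem
  obtain ⟨q₀, hq₀, hQgen⟩ := N.exists_gen
  have hVinv : ∀ α ∈ D.A E₃, ∀ e ∈ (E₁ ⊓ E₃).subgroupOf E₃, α e ∈ (E₁ ⊓ E₃).subgroupOf E₃ := by
    intro α hα e he
    refine mem_subgroupOf.mpr ⟨D.cen_mov N.base.moving.mover fun v hv => ?_, (α e).2⟩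
    have hv' : ((α⁻¹ ⟨v, N.base.V_le hv⟩ : E₃) : P) ∈ V := N.base.V_inv ((D.A E₃).inv_mem hα) hv
    have h : e * α⁻¹ ⟨v, N.base.V_le hv⟩ = α⁻¹ ⟨v, N.base.V_le hv⟩ * e :=
      Subtype.ext (D.mov_comm hv' (mem_subgroupOf.mp he).1)
    have h' := congrArg α h
    rw [map_mul, map_mul, MulAut.apply_inv_self] at h'
    exact congrArg Subtype.val h'
  have hQinv : ∀ α ∈ D.A E₃, ∀ e ∈ N.Q.subgroupOf E₃, α e ∈ N.Q.subgroupOf E₃ := by
    intro α hα e he
    refine mem_subgroupOf.mpr ⟨mem_subgroupOf.mp (hVinv α hα e (mem_subgroupOf.mpr (mem_subgroupOf.mp he).1)),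
      mem_centralizer_iff.mpr fun r hr => ?_⟩
    have hr3 : r ∈ E₃ := N.R_le_E₃ hr
    have hr' : ((α⁻¹ ⟨r, hr3⟩ : E₃) : P) ∈ R := D.orbit_inv ((D.A E₃).inv_mem hα) hr
    have h : α⁻¹ ⟨r, hr3⟩ * e = e * α⁻¹ ⟨r, hr3⟩ :=
      Subtype.ext (mem_centralizer_iff.mp (mem_subgroupOf.mp he).2 _ hr')
    have h' := congrArg α h
    rw [map_mul, map_mul, MulAut.apply_inv_self] at h'
    exact congrArg Subtype.val h'
  have hRinv : ∀ α ∈ D.A E₃, ∀ e ∈ (R ⊔ N.Q).subgroupOf E₃, α e ∈ (R ⊔ N.Q).subgroupOf E₃ := by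
    intro α hα e he
    rw [mem_subgroupOf] at he ⊢
    obtain ⟨r, hr, q, hq, hrq⟩ := Subgroup.mem_sup_of_normal_right.mp he
    have hr3 : r ∈ E₃ := N.R_le_E₃ hr
    have hq3 : q ∈ E₃ := hq.1.2
    rw [show e = ⟨r, hr3⟩ * ⟨q, hq3⟩ from Subtype.ext hrq.symm, map_mul, Subgroup.coe_mul]
    exact Subgroup.mul_mem _ (mem_sup_left (D.orbit_inv hα hr))
      (mem_sup_right (mem_subgroupOf.mp (hQinv α hα _ (mem_subgroupOf.mpr hq))))
  haveI : (N.Q.subgroupOf E₃).Normal := Subgroup.normal_subgroupOf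
  haveI : ((R ⊔ N.Q).subgroupOf E₃).Normal := Subgroup.normal_subgroupOf
  refine hx3 (D.mem_of_flag3 hE₃ (L₁ := (E₁ ⊓ E₃).subgroupOf E₃) (L₂ := (R ⊔ N.Q).subgroupOf E₃)
    (L₃ := N.Q.subgroupOf E₃) hVinv hRinv hQinv (fun e => ?_) (fun e he => ?_) (fun e he => ?_) fun e he => ?_)
  all_goals
    have hval : ((e⁻¹ * D.cj hE₃ x e : E₃) : P) = (e : P)⁻¹ * (x * e * x⁻¹ * (e : P)⁻¹) * (e : P) := by
      push_cast
      rw [D.coe_cj]
      group
  · refine mem_sup_left (mem_sup_left (mem_sup_left (mem_subgroupOf.mpr ⟨?_, (e⁻¹ * D.cj hE₃ x e).2⟩)))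
    rw [hval]
    have h := (D.nrm E₁ N.base.moving.mover.1).conj_mem _ (D.comm_mem_E N.base.moving.mover.1 x (e : P)) (e : P)⁻¹
    rwa [inv_inv] at h
  · refine mem_sup_left (mem_sup_left (mem_subgroupOf.mpr ?_))
    rw [hval]
    have h := (inferInstance : (R ⊔ N.Q).Normal).conj_mem _
      (comm_mem_of_card_le D.pg N.RQ_le N.card_D3_le x (mem_subgroupOf.mp he)) (e : P)⁻¹
    rwa [inv_inv] at h
  · refine mem_sup_left (mem_subgroupOf.mpr ?_)
    rw [hval]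
    suffices h : x * e * x⁻¹ * (e : P)⁻¹ ∈ N.Q by
      have h' := N.Q_normal.conj_mem _ h (e : P)⁻¹
      rwa [inv_inv] at h'
    let π := QuotientGroup.mk' N.Q
    have hbase : ∀ {r}, x * r * x⁻¹ * r⁻¹ ∈ N.Q → r ∈ (centralizer ({π x} : Set _)).comap π := fun {r} h => by
      have h' : π (x * r * x⁻¹ * r⁻¹) = 1 := (QuotientGroup.eq_one_iff _).mpr h
      rw [map_mul, map_mul, map_mul, map_inv, map_inv, mul_inv_eq_one, mul_inv_eq_iff_eq_mul] at h'
      exact mem_centralizer_singleton_iff.mpr h'.symm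
    have hle : R ⊔ N.Q ≤ (centralizer ({π x} : Set _)).comap π := sup_le
      (N.R_le_of (fun v hv => hbase (mul_mem (N.Q_normal.conj_mem v (N.V_le_Q hv) x) (inv_mem (N.V_le_Q hv))))
        (hbase (N.V_le_Q (N.base.moving.wd_comm x N.hb))) (hbase (N.V_le_Q (hmovu x hx1))))
      (fun q hq => hbase (mul_mem (N.Q_normal.conj_mem q hq x) (inv_mem hq)))
    have h := mem_centralizer_singleton_iff.mp (hle (mem_subgroupOf.mp he))
    rw [← QuotientGroup.eq_one_iff]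
    show π _ = 1
    rw [map_mul, map_mul, map_mul, map_inv, map_inv, ← h, mul_inv_cancel_right, mul_inv_cancel]
  · obtain ⟨k, z, hz, hek⟩ := N.exists_pow_mul_gen hQgen (mem_subgroupOf.mp he)
    obtain ⟨n, hn⟩ := (IsPGroup.iff_orderOf.mp D.pg) x
    set sx := D.cj hE₃ x
    have hsn : sx ^ p ^ n = 1 := by rw [← map_pow, ← hn, pow_orderOf_eq_one, map_one]
    -- the commutator generates the centre's elements of order `p`
    have hc : N.u * N.b * N.u⁻¹ * N.b⁻¹ ∈ zOne p P := N.base.gen_comm N.u_mem N.b_mem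
    have hzΦ : ∀ {w : E₃}, (w : P) ∈ zOne p P → w ∈ frattini E₃ := by
      intro w hw
      have h := CfsgLib.commutator_le_frattini_pGroup (D.pg.to_subgroup E₃)
        (commutator_mem_commutator (mem_top (⟨N.u, N.R_le_E₃ N.u_mem⟩ : E₃))
          (mem_top (⟨N.b, N.R_le_E₃ N.b_mem⟩ : E₃)))
      rw [commutatorElement_def] at h
      set cz : P := N.u * N.b * N.u⁻¹ * N.b⁻¹ with hcz
      have hne : cz ≠ 1 := fun h1 => N.hne (by
        rwa [hcz, mul_inv_eq_one, mul_inv_eq_iff_eq_mul] at h1)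
      have heq : zpowers cz = zOne p P := eq_of_le_of_card_ge (zpowers_le.mpr hc) (by
        rw [N.base.moving.zOne_card, Nat.card_zpowers, orderOf_eq_prime hc.2 hne])
      obtain ⟨i, hi⟩ := mem_powers_iff_mem_zpowers.mpr (heq.ge hw)
      rw [show w = (⟨N.u, N.R_le_E₃ N.u_mem⟩ * ⟨N.b, N.R_le_E₃ N.b_mem⟩ *
        (⟨N.u, N.R_le_E₃ N.u_mem⟩ : E₃)⁻¹ * (⟨N.b, N.R_le_E₃ N.b_mem⟩ : E₃)⁻¹ : E₃) ^ i from Subtype.ext (by
          push_cast; exact hi.symm)]
      exact pow_mem h i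
    have hq3 : q₀ ∈ E₃ := hq₀.1.2
    have hq0f : (⟨q₀, hq3⟩ : E₃)⁻¹ * sx ⟨q₀, hq3⟩ ∈ frattini E₃ := by
      have hmem : ((sx ⟨q₀, hq3⟩ : E₃) : P) ∈ N.Q := by
        rw [D.coe_cj]; exact N.Q_normal.conj_mem _ hq₀ x
      obtain ⟨k', z', hz', hk'⟩ := N.exists_pow_mul_gen hQgen hmem
      refine cyclic_fix (CfsgLib.pow_mem_frattini_pGroup (D.pg.to_subgroup E₃) _) (fun _ hv => Sys.frattini_inv hv)
        (k := k') ?_ hsn
      refine hzΦ ?_
      push_cast
      rw [hk', inv_mul_cancel_left]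
      exact hz'
    have hzfix : ∀ {w : E₃}, (w : P) ∈ zOne p P → sx w = w := fun {w} hw => Subtype.ext (by
      rw [D.coe_cj, mem_center_iff.mp hw.1 x, mul_inv_cancel_right])
    have hz3 : z ∈ E₃ := D.zOne_le hE₃ hz
    rw [show e = (⟨q₀, hq3⟩ : E₃) ^ k * ⟨z, hz3⟩ from Subtype.ext hek, map_mul, map_pow,
      hzfix (w := ⟨z, hz3⟩) hz]
    refine (QuotientGroup.eq).mp ?_
    let π := QuotientGroup.mk' (frattini E₃)
    have h1 : π (sx ⟨q₀, hq3⟩) = π ⟨q₀, hq3⟩ := ((QuotientGroup.eq).mpr hq0f).symm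
    show π _ = π _
    simp only [map_mul, map_pow, h1]

end Nc

end CfsgLib.SectThree
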