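import Cfsg.Agent.Lib.SectThree.Flat
import Cfsg.Agent.Lib.Sp4CC.Mat
import Cfsg.Agent.S0245

/-!
The group of the frame is a Sylow subgroup of the symplectic group in dimension four.
-/

set_option autoImplicit false
set_option linter.unusedSectionVars false
set_option linter.style.haveILetI false

namespace CfsgLib.SectThree

open Subgroup

/-- The defining relations. -/
structure Rel (p : ℕ) {G : Type*} [Group G] (Y D C Z : G) : Prop where
  Yp : Y ^ p = 1
  Dp : D ^ p = 1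
  Cp : C ^ p = 1
  Zp : Z ^ p = 1
  yd : Y * D * Y⁻¹ = C * D
  cd : C * D * C⁻¹ = Z * D
  yc : Y * C = C * Y
  zy : Y * Z = Z * Y
  zd : D * Z = Z * D

namespace Rel

variable {p : ℕ} [hpf : Fact p.Prime] {G : Type*} [Group G] {Y D C Z : G}

/-- Adding a power of an element to a normalised subgroup. -/
theorem card_sup_zpowers [Finite G] (H : Subgroup G) {g : G} (hg : g ^ p = 1)
    (hn : zpowers g ≤ normalizer (H : Set G)) : Nat.card (H ⊔ zpowers g : Subgroup G) ≤ Nat.card H * p := by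
  have h1 : Nat.card (H ⊔ zpowers g : Subgroup G) ≤ Nat.card H * Nat.card (zpowers g) := by
    have hmul : ∀ x ∈ H ⊔ zpowers g, ∃ a ∈ H, ∃ b ∈ zpowers g, a * b = x := by
      intro x hx
      rw [← SetLike.mem_coe, Subgroup.coe_mul_of_right_le_normalizer_left H (zpowers g) hn] at hx
      obtain ⟨a, ha, b, hb, rfl⟩ := Set.mem_mul.mp hx
      exact ⟨a, ha, b, hb, rfl⟩
    rw [← Nat.card_prod]
    refine Nat.card_le_card_of_surjective
      (fun x : H × zpowers g => (⟨x.1 * x.2, mul_mem (mem_sup_left x.1.2) (mem_sup_right x.2.2)⟩ :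
        (H ⊔ zpowers g : Subgroup G))) ?_
    rintro ⟨x, hx⟩
    obtain ⟨a, ha, b, hb, rfl⟩ := hmul x hx
    exact ⟨(⟨a, ha⟩, ⟨b, hb⟩), rfl⟩
  refine h1.trans (Nat.mul_le_mul_left _ ?_)
  rw [Nat.card_zpowers]
  exact orderOf_le_of_pow_eq_one hpf.out.pos hg

/-- A generated group with these relations has order at most `p ^ 4`. -/
theorem card_le [Finite G] (h : Rel p Y D C Z) (hgen : closure ({Y, D} : Set G) = ⊤) : Nat.card G ≤ p ^ 4 := by
  have hZD : Z * C = C * Z := by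
    have hC : C = Y * D * Y⁻¹ * D⁻¹ := by rw [h.yd]; group
    have h1 : Commute Z Y := h.zy.symm
    have h2 : Commute Z D := h.zd.symm
    rw [hC]
    exact (((h1.mul_right h2).mul_right h1.inv_right).mul_right h2.inv_right).eq
  have hnorm : ∀ (H : Subgroup G) (g : G), (∀ x ∈ H, g * x * g⁻¹ ∈ H) → g ∈ normalizer (H : Set G) := fun H g hH => by
    refine mem_normalizer_iff.mpr fun x => ⟨hH x, fun hx => ?_⟩
    have hle : H.map (MulAut.conj g).toMonoidHom ≤ H := by rintro _ ⟨v, hv, rfl⟩; exact hH v hv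
    obtain ⟨v, hv, hvx⟩ := (eq_of_le_of_card_ge hle (card_map_of_injective (MulAut.conj g).injective).ge).ge hx
    rwa [← (MulAut.conj g).injective (show MulAut.conj g v = MulAut.conj g x from hvx)]
  set N₁ := zpowers Z
  set N₂ := N₁ ⊔ zpowers C
  set N₃ := N₂ ⊔ zpowers D
  have hC1 : zpowers C ≤ normalizer (N₁ : Set G) := zpowers_le.mpr (hnorm _ _ fun x hx => by
    obtain ⟨k, rfl⟩ := hx
    rw [((show Commute C Z from hZD.symm).zpow_right k).eq, mul_inv_cancel_right]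
    exact zpow_mem (mem_zpowers Z) k)
  have hZ2 : Z ∈ N₂ := mem_sup_left (mem_zpowers Z)
  have hC2 : C ∈ N₂ := mem_sup_right (mem_zpowers C)
  have hD2 : D ∈ normalizer (N₂ : Set G) := hnorm _ _ fun x hx => by
    have hle : N₂ ≤ N₂.comap (MulAut.conj D).toMonoidHom := by
      refine sup_le (zpowers_le.mpr ?_) (zpowers_le.mpr ?_)
      · show D * Z * D⁻¹ ∈ N₂
        rw [h.zd, mul_inv_cancel_right]; exact hZ2
      · show D * C * D⁻¹ ∈ N₂
        have e : D * C * D⁻¹ = Z⁻¹ * C := by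
          calc D * C * D⁻¹ = Z⁻¹ * ((Z * D) * C) * D⁻¹ := by group
            _ = Z⁻¹ * C := by rw [← h.cd]; group
        rw [e]; exact mul_mem (inv_mem hZ2) hC2
    exact hle hx
  have hY3 : Y ∈ normalizer (N₃ : Set G) := hnorm _ _ fun x hx => by
    have hle : N₃ ≤ N₃.comap (MulAut.conj Y).toMonoidHom := by
      refine sup_le (sup_le (zpowers_le.mpr ?_) (zpowers_le.mpr ?_)) (zpowers_le.mpr ?_)
      · show Y * Z * Y⁻¹ ∈ N₃
        rw [h.zy, mul_inv_cancel_right]; exact mem_sup_left hZ2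
      · show Y * C * Y⁻¹ ∈ N₃
        rw [h.yc, mul_inv_cancel_right]; exact mem_sup_left hC2
      · show Y * D * Y⁻¹ ∈ N₃
        rw [h.yd]; exact mul_mem (mem_sup_left hC2) (mem_sup_right (mem_zpowers D))
    exact hle hx
  have htop : N₃ ⊔ zpowers Y = ⊤ := by
    rw [eq_top_iff, ← hgen, closure_le]
    intro x hx
    simp only [Set.mem_insert_iff, Set.mem_singleton_iff] at hx
    rcases hx with rfl | rfl
    · exact mem_sup_right (mem_zpowers _)
    · exact mem_sup_left (mem_sup_right (mem_zpowers _))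
  have b1 : Nat.card N₁ ≤ p := by rw [Nat.card_zpowers]; exact orderOf_le_of_pow_eq_one hpf.out.pos h.Zp
  have b2 : Nat.card N₂ ≤ Nat.card N₁ * p := card_sup_zpowers N₁ h.Cp hC1
  have b3 : Nat.card N₃ ≤ Nat.card N₂ * p := card_sup_zpowers N₂ h.Dp (zpowers_le.mpr hD2)
  have b4 := card_sup_zpowers N₃ h.Yp (zpowers_le.mpr hY3)
  rw [htop, Subgroup.card_top] at b4
  calc Nat.card G ≤ Nat.card N₃ * p := b4
    _ ≤ p * p * p * p := Nat.mul_le_mul_right p (b3.trans (Nat.mul_le_mul_right p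
        (b2.trans (Nat.mul_le_mul_right p b1))))
    _ = p ^ 4 := by ring

end Rel

section Model

open CfsgLib.Sp4CC Matrix

variable (p : ℕ) [hpf : Fact p.Prime]

local notation "Sp" => Matrix.symplecticGroup (Fin 2) (ZMod p)

/-- The shear. -/
def shear (t : ZMod p) : Matrix.SpecialLinearGroup (Fin 2) (ZMod p) :=
  ⟨!![1, t; 0, 1], by simp [Matrix.det_fin_two]⟩

def mY : Sp := LV 1 (shear p 1)
def mD : Sp := Uu 1 0 0
def mC : Sp := Uu 0 (-1) (-1)
def mZ : Sp := Uu 0 0 2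

theorem uu_pow (r s c : ZMod p) (n : ℕ) : Uu r s c ^ n = Uu (n * r) (n * s) (n * c) := by
  induction n with
  | zero =>
    refine Subtype.ext ?_
    rw [pow_zero, Uu_val]
    show (1 : Matrix _ _ (ZMod p)) = _
    rw [one_eq, m4_inj]
    simp
  | succ n ih =>
    rw [pow_succ, ih, Uu_mul]
    congr 1 <;> push_cast <;> ring

theorem mY_pow (n : ℕ) : mY p ^ n = LV 1 (shear p n) := by
  induction n with
  | zero =>
    rw [pow_zero, show shear p ((0 : ℕ) : ZMod p) = 1 from Subtype.ext (by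
      show !![(1 : ZMod p), _; 0, 1] = 1
      rw [Nat.cast_zero]; exact Matrix.one_fin_two.symm)]
    exact LV_one.symm
  | succ n ih =>
    rw [pow_succ, ih, mY, LV_mul, mul_one]
    refine congrArg _ (Subtype.ext ?_)
    show !![(1 : ZMod p), (n : ZMod p); 0, 1] * !![1, 1; 0, 1] = !![1, ((n + 1 : ℕ) : ZMod p); 0, 1]
    ext i j
    fin_cases i <;> fin_cases j <;> simp [Matrix.mul_apply, Fin.sum_univ_two, add_comm]

theorem uu_zero : Uu (0 : ZMod p) 0 0 = 1 := (uu_pow p 0 0 0 0).symm.trans (pow_zero _) |> fun h => by simpa using h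

theorem model_rel : Rel p (mY p) (mD p) (mC p) (mZ p) := by
  have hsw : ∀ r s c : ZMod p, mY p * Uu r s c = Uu r (s - r) c * mY p := fun r s c => by
    have h := LV_Uu (1 : (ZMod p)ˣ) (shear p 1) (r := r) (s := s) (r' := r) (s' := s - r) c
      (by show r * 1 + (s - r) * 0 = _; simp) (by show r * 1 + (s - r) * 1 = _; simp)
    rwa [Units.val_one, one_pow, one_mul] at h
  refine ⟨?_, ?_, ?_, ?_, ?_, ?_, ?_, ?_, ?_⟩
  · rw [mY_pow, ZMod.natCast_self, show shear p 0 = 1 from Subtype.ext (by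
      show !![(1 : ZMod p), _; 0, 1] = 1
      exact Matrix.one_fin_two.symm), LV_one]
  all_goals simp only [mD, mC, mZ]
  iterate 3 rw [uu_pow, ZMod.natCast_self]; simp only [zero_mul, uu_zero]
  · rw [mul_inv_eq_iff_eq_mul, hsw, Uu_mul]
    congr 2 <;> ring
  · rw [Uu_inv, Uu_mul, Uu_mul, Uu_mul]
    congr 1 <;> ring
  · rw [hsw, sub_zero]
  · rw [hsw, sub_zero]
  · rw [Uu_mul, Uu_mul]
    congr 1 <;> ring

theorem lv_uu_inj {l l' r r' t t' c c' : ZMod p}
    (h : LV 1 (shear p l) * Uu r t c = LV 1 (shear p l') * Uu r' t' c') : l = l' ∧ r = r' ∧ t = t' ∧ c = c' := by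
  have h' : (LV 1 (shear p l)).1 * (Uu r t c).1 = (LV 1 (shear p l')).1 * (Uu r' t' c').1 := congrArg Subtype.val h
  rw [Uu_val, Uu_val, LV_val, LV_val, m4_mul, m4_mul, m4_inj] at h'
  simp [shear] at h'
  exact ⟨h'.2.1.2, h'.1.1, h'.1.2.2, h'.1.2.1⟩

/-- The normal forms are distinct. -/
theorem model_injective (h2 : p ≠ 2) : Function.Injective (fun x : Fin p × Fin p × Fin p × Fin p =>
    mY p ^ (x.1 : ℕ) * (mD p ^ (x.2.1 : ℕ) * mC p ^ (x.2.2.1 : ℕ) * mZ p ^ (x.2.2.2 : ℕ))) := by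
  rintro ⟨l, i, j, k⟩ ⟨l', i', j', k'⟩ h
  have h2' : (2 : ZMod p) ≠ 0 := fun h0 => h2 ((Nat.prime_dvd_prime_iff_eq hpf.out Nat.prime_two).mp
    ((ZMod.natCast_eq_zero_iff 2 p).mp (by exact_mod_cast h0)))
  have hinj : ∀ a b : Fin p, ((a : ℕ) : ZMod p) = (b : ℕ) → a = b := fun a b hab => Fin.ext (by
    rwa [ZMod.natCast_eq_natCast_iff', Nat.mod_eq_of_lt a.2, Nat.mod_eq_of_lt b.2] at hab)
  simp only [mD, mC, mZ, uu_pow, Uu_mul, mY_pow] at h
  simp only [mul_one, mul_zero, add_zero, zero_add, sub_zero, mul_neg] at h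
  obtain ⟨hl, hi, hj, hk⟩ := lv_uu_inj p h
  rw [neg_inj] at hj
  have e1 := hinj _ _ hl
  have e2 := hinj _ _ hi
  have e3 := hinj _ _ hj
  subst e1 e2 e3
  have hk' : ((k : ℕ) : ZMod p) = (k' : ℕ) := mul_right_cancel₀ h2' (by linear_combination hk)
  rw [hinj _ _ hk']

end Model

namespace KeyData

variable {p : ℕ} [hpf : Fact p.Prime] {P : Type*} [Group P] [Finite P]
variable {D : Sys p P} {E : Subgroup P} {y : P} (K : KeyData D E y)

include K

theorem rel : Rel p y K.d K.c K.z :=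
  ⟨K.ypow, K.dpow, K.cpow, K.zpow, K.yd, K.cd, K.yc, K.zy, K.zd⟩

theorem gen : closure ({y, K.d} : Set P) = ⊤ := by
  set M := closure ({y, K.d} : Set P)
  have hy : y ∈ M := subset_closure (Set.mem_insert _ _)
  have hd : K.d ∈ M := subset_closure (Set.mem_insert_of_mem _ rfl)
  have hc : K.c ∈ M := by
    rw [show K.c = y * K.d * y⁻¹ * K.d⁻¹ by rw [K.yd]; group]
    exact mul_mem (mul_mem (mul_mem hy hd) (inv_mem hy)) (inv_mem hd)
  have hz : K.z ∈ M := by
    rw [show K.z = K.c * K.d * K.c⁻¹ * K.d⁻¹ by rw [K.cd]; group]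
    exact mul_mem (mul_mem (mul_mem hc hd) (inv_mem hc)) (inv_mem hd)
  exact eq_top_iff.mpr fun x _ => K.mem_of_gen hy hc hd (by rw [K.C_eq]; exact zpowers_le.mpr hz) x

/-- The group is a Sylow subgroup of the symplectic group. -/
theorem exists_iso : ∃ Q : Sylow p ↥(Matrix.symplecticGroup (Fin 2) (ZMod p)),
    Nonempty (P ≃* ↥(Q : Subgroup ↥(Matrix.symplecticGroup (Fin 2) (ZMod p)))) := by
  classical
  have hpp : p.Prime := hpf.out
  let Sp := ↥(Matrix.symplecticGroup (Fin 2) (ZMod p))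
  have hr := model_rel p
  let Γ : Subgroup (P × Sp) := closure {(y, mY p), (K.d, mD p)}
  have hy : ((y, mY p) : P × Sp) ∈ Γ := subset_closure (Set.mem_insert _ _)
  have hd : ((K.d, mD p) : P × Sp) ∈ Γ := subset_closure (Set.mem_insert_of_mem _ rfl)
  have hc : ((K.c, mC p) : P × Sp) ∈ Γ := by
    have e : ((K.c, mC p) : P × Sp) = (y, mY p) * (K.d, mD p) * (y, mY p)⁻¹ * (K.d, mD p)⁻¹ := by
      refine Prod.ext ?_ ?_
      · show K.c = y * K.d * y⁻¹ * K.d⁻¹
        rw [K.yd]; group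
      · show mC p = mY p * mD p * (mY p)⁻¹ * (mD p)⁻¹
        rw [hr.yd]; group
    rw [e]; exact mul_mem (mul_mem (mul_mem hy hd) (inv_mem hy)) (inv_mem hd)
  have hz : ((K.z, mZ p) : P × Sp) ∈ Γ := by
    have e : ((K.z, mZ p) : P × Sp) = (K.c, mC p) * (K.d, mD p) * (K.c, mC p)⁻¹ * (K.d, mD p)⁻¹ := by
      refine Prod.ext ?_ ?_
      · show K.z = K.c * K.d * K.c⁻¹ * K.d⁻¹
        rw [K.cd]; group
      · show mZ p = mC p * mD p * (mC p)⁻¹ * (mD p)⁻¹
        rw [hr.cd]; group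
    rw [e]; exact mul_mem (mul_mem (mul_mem hc hd) (inv_mem hc)) (inv_mem hd)
  have hrel : Rel p (⟨_, hy⟩ : Γ) ⟨_, hd⟩ ⟨_, hc⟩ ⟨_, hz⟩ := by
    have hk := K.rel
    exact ⟨Subtype.ext (Prod.ext hk.Yp hr.Yp), Subtype.ext (Prod.ext hk.Dp hr.Dp), Subtype.ext (Prod.ext hk.Cp hr.Cp),
      Subtype.ext (Prod.ext hk.Zp hr.Zp), Subtype.ext (Prod.ext hk.yd hr.yd), Subtype.ext (Prod.ext hk.cd hr.cd),
      Subtype.ext (Prod.ext hk.yc hr.yc), Subtype.ext (Prod.ext hk.zy hr.zy), Subtype.ext (Prod.ext hk.zd hr.zd)⟩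
  have hgen : closure ({⟨_, hy⟩, ⟨_, hd⟩} : Set Γ) = ⊤ := by
    refine Subgroup.map_injective Γ.subtype_injective ?_
    rw [MonoidHom.map_closure, ← MonoidHom.range_eq_map, Subgroup.range_subtype, Set.image_pair]
    rfl
  have hcard := hrel.card_le hgen
  let f1 : Γ →* P := (MonoidHom.fst P Sp).comp Γ.subtype
  have hsurj : Function.Surjective f1 := by
    rw [← MonoidHom.range_eq_top, eq_top_iff, ← K.gen, closure_le]
    intro x hx
    simp only [Set.mem_insert_iff, Set.mem_singleton_iff] at hx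
    rcases hx with rfl | rfl
    exacts [⟨⟨_, hy⟩, rfl⟩, ⟨⟨_, hd⟩, rfl⟩]
  have hcP : Nat.card Γ = Nat.card P :=
    le_antisymm (K.card_P.symm ▸ hcard) (Nat.card_le_card_of_surjective _ hsurj)
  have hbij : Function.Bijective f1 := (Nat.bijective_iff_surjective_and_card f1).mpr ⟨hsurj, hcP⟩
  let e1 : Γ ≃* P := MulEquiv.ofBijective f1 hbij
  let φ : P →* Sp := ((MonoidHom.snd P Sp).comp Γ.subtype).comp e1.symm.toMonoidHom
  have hrange : Nat.card φ.range = p ^ 4 := by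
    refine le_antisymm ?_ ?_
    · rw [← K.card_P]; exact Nat.card_le_card_of_surjective φ.rangeRestrict φ.rangeRestrict_surjective
    · have hmem : ∀ x : Fin p × Fin p × Fin p × Fin p,
          mY p ^ (x.1 : ℕ) * (mD p ^ (x.2.1 : ℕ) * mC p ^ (x.2.2.1 : ℕ) * mZ p ^ (x.2.2.2 : ℕ)) ∈ φ.range := by
        intro x
        refine ⟨e1 ((⟨_, hy⟩ : Γ) ^ (x.1 : ℕ) * ((⟨_, hd⟩ : Γ) ^ (x.2.1 : ℕ) * (⟨_, hc⟩ : Γ) ^ (x.2.2.1 : ℕ) *
          (⟨_, hz⟩ : Γ) ^ (x.2.2.2 : ℕ))), ?_⟩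
        show ((e1.symm (e1 _) : Γ) : P × Sp).2 = _
        rw [MulEquiv.symm_apply_apply]
        rfl
      have h := Nat.card_le_card_of_injective (fun x => (⟨_, hmem x⟩ : φ.range))
        fun a b hab => model_injective p D.odd (congrArg Subtype.val hab)
      rw [Nat.card_prod, Nat.card_prod, Nat.card_prod, Nat.card_fin] at h
      calc p ^ 4 = p * (p * (p * p)) := by ring
        _ ≤ _ := h
  have hφ : Function.Injective φ := by
    refine (MonoidHom.ker_eq_bot_iff φ).mp (Subgroup.eq_bot_of_card_eq _ ?_)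
    have h := φ.ker.card_mul_index
    rw [Subgroup.index_ker, hrange, K.card_P] at h
    exact Nat.eq_of_mul_eq_mul_right (pow_pos hpp.pos 4) (by rw [h, one_mul])
  obtain ⟨Q, hQ⟩ := (IsPGroup.of_card hrange).exists_le_sylow
  refine ⟨Q, ⟨(MonoidHom.ofInjective hφ).trans (MulEquiv.subgroupCongr (eq_of_le_of_card_ge hQ ?_))⟩⟩
  rw [hrange]
  obtain ⟨n, hn⟩ := Q.isPGroup'.exists_card_eq
  rw [hn]
  refine Nat.pow_le_pow_right hpp.pos ?_
  have h1 : p ^ n ∣ Nat.card Sp := hn ▸ Subgroup.card_subgroup_dvd_card (Q : Subgroup Sp)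
  rw [Cfsg.Agent.S0245.result (q := p) (ZMod.card p) 2, Finset.prod_range_succ, Finset.prod_range_one] at h1
  by_contra h4
  push Not at h4
  have h2 : p * p ^ 4 ∣ p ^ 4 * ((p ^ 2 - 1) * (p ^ 4 - 1)) := by
    rw [← pow_succ']
    refine (pow_dvd_pow p (by omega : 4 + 1 ≤ n)).trans ?_
    norm_num at h1
    exact h1
  rw [mul_comm p, Nat.mul_dvd_mul_iff_left (pow_pos hpp.pos 4)] at h2
  have hnd : ∀ k, 0 < k → ¬ p ∣ p ^ k - 1 := fun k hk hdvd => by
    have h3 : p ∣ p ^ k := dvd_pow_self p hk.ne'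
    have h5 := Nat.dvd_sub h3 hdvd
    have h6 : p ^ k - (p ^ k - 1) = 1 := by have := Nat.one_le_pow k p hpp.pos; omega
    rw [h6] at h5
    exact hpp.not_dvd_one h5
  rcases hpp.dvd_mul.mp h2 with h | h
  exacts [hnd 2 two_pos h, hnd 4 (by norm_num) h]

end KeyData

end CfsgLib.SectThree
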