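import Cfsg.Agent.Lib.SectThree.Abelian
import Cfsg.Agent.Lib.SectThree.Sp4

/-!
The end of the case of commuting translates.
-/

set_option autoImplicit false
set_option linter.unusedSectionVars false
set_option linter.unusedVariables false
set_option linter.style.haveILetI false

namespace CfsgLib.SectThree

open Subgroup
open scoped commutatorElement

variable {p : ℕ} [hpf : Fact p.Prime] {P : Type*} [Group P] [Finite P]

namespace Sys

variable (D : Sys p P) {E K : Subgroup P}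

theorem card_eq_of_mem (hE : E ∈ D.Ess) (hK : K ∈ D.Ess) : Nat.card E = Nat.card K := by
  have h1 := E.card_mul_index
  have h2 := K.card_mul_index
  rw [D.idx E hE] at h1
  rw [D.idx K hK, ← h1] at h2
  exact (Nat.eq_of_mul_eq_mul_right hpf.out.pos h2).symm

/-- The intersection of two members has index `p`. -/
theorem card_inf (hE : E ∈ D.Ess) (hK : K ∈ D.Ess) (hne : E ≠ K) :
    Nat.card E = p * Nat.card (E ⊓ K : Subgroup P) := by
  haveI := D.nrm K hK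
  have hdvd : K.relIndex E ∣ p := by
    have h := Subgroup.relIndex_dvd_index_of_normal K E
    rwa [D.idx K hK] at h
  have hp : K.relIndex E = p := ((Nat.dvd_prime hpf.out).mp hdvd).resolve_left fun h => hne
    (eq_of_le_of_card_ge (Subgroup.relIndex_eq_one.mp h) (D.card_eq_of_mem hE hK).ge)
  have h := (K.subgroupOf E).card_mul_index
  rw [← Subgroup.relIndex, hp, ← inf_subgroupOf_left, Nat.card_congr (subgroupOfEquivOfLe (inf_le_left : E ⊓ K ≤ E)).toEquiv] at h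
  rw [← h, mul_comm]

end Sys

namespace Nc

variable {D : Sys p P} {E₁ E₂ E₃ : Subgroup P} (N : Nc D E₁ E₂ E₃)

local notation "V" => D.mov E₁
local notation "Wd" => D.orbit E₂ (D.mov E₁)
local notation "R" => D.orbit E₃ (D.orbit E₂ (D.mov E₁))
local notation "z0" => N.u * N.b * N.u⁻¹ * N.b⁻¹

include N

theorem z0_mem : z0 ∈ zOne p P := N.base.gen_comm N.u_mem N.b_mem

theorem z0_gen {w : P} (hw : w ∈ zOne p P) : ∃ i : ℕ, (z0) ^ i = w := by
  have hne : z0 ≠ 1 := fun h1 => N.hne (by rwa [mul_inv_eq_one, mul_inv_eq_iff_eq_mul] at h1)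
  have heq : zpowers (z0) = zOne p P := eq_of_le_of_card_ge (zpowers_le.mpr N.z0_mem) (by
    rw [N.base.moving.zOne_card, Nat.card_zpowers, orderOf_eq_prime N.z0_mem.2 hne])
  exact mem_powers_iff_mem_zpowers.mpr (heq.ge hw)

theorem z0_central (g : P) : Commute g (z0) := mem_center_iff.mp N.z0_mem.1 g

theorem u_conj_b (i : ℕ) : N.u ^ i * N.b * (N.u ^ i)⁻¹ = (z0) ^ i * N.b := by
  rw [N.act_pow (N.R_le N.u_mem) N.b_mem i]

theorem b_conj_u (i : ℕ) : N.b ^ i * N.u * (N.b ^ i)⁻¹ = ((z0) ^ i)⁻¹ * N.u := by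
  rw [N.act_pow (N.R_le N.b_mem) N.u_mem i,
    show N.b * N.u * N.b⁻¹ * N.u⁻¹ = (z0)⁻¹ by group, inv_pow]

theorem comm_wd {g : P} (hg : g ∈ E₁ ⊓ E₃) {w : P} (hw : w ∈ Wd) : g * w * g⁻¹ * w⁻¹ ∈ zOne p P := by
  haveI := zOne_normal (p := p) (P := P)
  let π := QuotientGroup.mk' (zOne p P)
  have hbase : ∀ {r}, g * r * g⁻¹ * r⁻¹ ∈ zOne p P → r ∈ (centralizer ({π g} : Set _)).comap π := fun {r} h => by
    have h' : π (g * r * g⁻¹ * r⁻¹) = 1 := (QuotientGroup.eq_one_iff _).mpr h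
    rw [map_mul, map_mul, map_mul, map_inv, map_inv, mul_inv_eq_one, mul_inv_eq_iff_eq_mul] at h'
    exact mem_centralizer_singleton_iff.mpr h'.symm
  have hle : Wd ≤ (centralizer ({π g} : Set _)).comap π := by
    rw [N.Wd_eq]
    refine sup_le (fun v hv => hbase ?_) (zpowers_le.mpr (hbase (N.comm_b hg)))
    rw [(N.base.comm_VE₁ hv hg.1).eq, mul_inv_cancel_right, mul_inv_cancel]
    exact one_mem _
  have h := mem_centralizer_singleton_iff.mp (hle hw)
  rw [← QuotientGroup.eq_one_iff]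
  show π _ = 1
  rw [map_mul, map_mul, map_mul, map_inv, map_inv, ← h, mul_inv_cancel_right, mul_inv_cancel]

theorem comm_u {g : P} (hg : g ∈ E₁ ⊓ E₃) : g * N.u * g⁻¹ * N.u⁻¹ ∈ zOne p P := by
  have hg' : ((N.α⁻¹ ⟨g, hg.2⟩ : E₃) : P) ∈ E₁ ⊓ E₃ := by
    refine ⟨D.cen_mov N.base.moving.mover fun v hv => ?_, (N.α⁻¹ ⟨g, hg.2⟩).2⟩
    have hv' : ((N.α ⟨v, N.base.V_le hv⟩ : E₃) : P) ∈ V := N.base.V_inv N.hα hv
    have h : (⟨g, hg.2⟩ : E₃) * N.α ⟨v, N.base.V_le hv⟩ = N.α ⟨v, N.base.V_le hv⟩ * ⟨g, hg.2⟩ :=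
      Subtype.ext (N.base.comm_VE₁ hv' hg.1).eq
    have h' := congrArg (⇑(N.α⁻¹ : MulAut E₃)) h
    rw [map_mul, map_mul, MulAut.inv_apply_self] at h'
    exact congrArg Subtype.val h'
  have h0 : ((N.α⁻¹ ⟨g, hg.2⟩ * N.a * (N.α⁻¹ ⟨g, hg.2⟩)⁻¹ * N.a⁻¹ : E₃) : P) ∈ zOne p P := by
    push_cast
    exact N.comm_wd hg' N.ha
  have h1 := N.base.z_inv N.hα h0
  rw [map_mul, map_mul, map_mul, map_inv, map_inv, MulAut.apply_inv_self] at h1
  exact h1

theorem D3_eq : E₁ ⊓ E₃ = R ⊔ N.Q := by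
  refine le_antisymm (fun g hg => ?_) N.RQ_le
  obtain ⟨i, hi⟩ := N.z0_gen (N.comm_b hg)
  set g1 := g * (N.u ^ i)⁻¹ with hg1
  have hg1m : g1 ∈ E₁ ⊓ E₃ := (E₁ ⊓ E₃).mul_mem hg ((E₁ ⊓ E₃).inv_mem ((E₁ ⊓ E₃).pow_mem (N.R_le N.u_mem) i))
  have h1 : g1 * N.b * g1⁻¹ = N.b := by
    have e : g1 * ((z0) ^ i * N.b) * g1⁻¹ = g * N.b * g⁻¹ := by rw [← N.u_conj_b i, hg1]; group
    have e2 : g * N.b * g⁻¹ = (z0) ^ i * N.b := by rw [hi]; group
    rw [e2, show g1 * ((z0) ^ i * N.b) * g1⁻¹ = (g1 * (z0) ^ i * g1⁻¹) * (g1 * N.b * g1⁻¹) by group,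
      ((N.z0_central g1).pow_right i).eq, mul_inv_cancel_right] at e
    exact mul_left_cancel e
  obtain ⟨k, hk⟩ := N.z0_gen (N.comm_u hg1m)
  set g2 := g1 * N.b ^ k with hg2
  have h2 : g2 * N.u * g2⁻¹ = N.u := by
    have e2 : g1 * N.u * g1⁻¹ = (z0) ^ k * N.u := by rw [hk]; group
    rw [hg2, show g1 * N.b ^ k * N.u * (g1 * N.b ^ k)⁻¹ = g1 * (N.b ^ k * N.u * (N.b ^ k)⁻¹) * g1⁻¹ by group,
      N.b_conj_u k, show g1 * (((z0) ^ k)⁻¹ * N.u) * g1⁻¹ = (g1 * ((z0) ^ k)⁻¹ * g1⁻¹) * (g1 * N.u * g1⁻¹) by group,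
      ((N.z0_central g1).pow_right k).inv_right.eq, mul_inv_cancel_right, e2, inv_mul_cancel_left]
  have hg2m : g2 ∈ E₁ ⊓ E₃ := (E₁ ⊓ E₃).mul_mem hg1m ((E₁ ⊓ E₃).pow_mem (N.R_le N.b_mem) k)
  have hb2 : g2 * N.b = N.b * g2 := by
    have c1 : Commute g1 N.b := mul_inv_eq_iff_eq_mul.mp h1
    exact (c1.mul_left ((Commute.refl N.b).pow_left k)).eq
  have hQ : g2 ∈ N.Q := ⟨hg2m, mem_centralizer_iff.mpr fun r hr => by
    have hle : R ≤ centralizer ({g2} : Set P) := N.R_le_of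
      (fun v hv => mem_centralizer_singleton_iff.mpr (N.base.comm_VE₁ hv hg2m.1).eq.symm)
      (mem_centralizer_singleton_iff.mpr hb2.symm)
      (mem_centralizer_singleton_iff.mpr (mul_inv_eq_iff_eq_mul.mp h2).symm)
    exact mem_centralizer_singleton_iff.mp (hle hr)⟩
  haveI := N.R_normal
  haveI := N.Q_normal
  rw [show g = g2 * ((N.b ^ k)⁻¹ * N.u ^ i) by rw [hg2, hg1]; group]
  exact mul_mem (mem_sup_right hQ) (mem_sup_left (mul_mem (inv_mem (pow_mem N.b_mem k)) (pow_mem N.u_mem i)))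

theorem Q_eq : N.Q = V := by
  classical
  have hpp : p.Prime := hpf.out
  haveI := N.Q_normal
  haveI := D.mov_normal N.base.moving.mover.1
  haveI := zOne_normal (p := p) (P := P)
  have hzV : zOne p P ≤ V := D.zOne_le_mov N.base.moving.mover.1
  obtain ⟨q₀, hq₀, hgen⟩ := N.exists_gen
  by_cases hq : q₀ ^ p = 1
  · refine (eq_of_le_of_card_ge N.V_le_Q ?_).symm
    rw [N.base.moving.mov_card.1, hgen, pow_two]
    have h := Rel.card_sup_zpowers (p := p) (zOne p P) hq (by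
      rw [normalizer_eq_top]
      exact le_top)
    rw [N.base.moving.zOne_card, sup_comm] at h
    exact h
  exfalso
  obtain ⟨v, hv, hvz⟩ : ∃ v ∈ V, v ∉ zOne p P := by
    by_contra hno
    push Not at hno
    exact N.base.moving.mover.2 fun v hv => (hno v hv).1
  obtain ⟨k, z, hz, hvk⟩ := N.exists_pow_mul_gen hgen (N.V_le_Q hv)
  set l := q₀ ^ k with hl
  have hlV : l ∈ V := by
    rw [show l = v * z⁻¹ by rw [hvk, mul_inv_cancel_right]]
    exact mul_mem hv (inv_mem (hzV hz))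
  have hlz : l ∉ zOne p P := fun h => hvz (by rw [hvk]; exact mul_mem h hz)
  set X := zpowers (q₀ ^ p) with hX
  have hlX : l ∈ X := by
    obtain ⟨m, hm⟩ := (IsPGroup.iff_orderOf.mp D.pg) q₀
    have hd : p ^ m ∣ k * p := by rw [← hm]; exact orderOf_dvd_of_pow_eq_one (by rw [pow_mul]; exact D.mov_pow hlV)
    have hm2 : 2 ≤ m := by
      by_contra h
      refine hq ?_
      rw [← orderOf_dvd_iff_pow_eq_one, hm]
      exact (pow_dvd_pow p (by omega : m ≤ 1)).trans (pow_one p).dvd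
    have hpk : p ∣ k := by
      have h := (pow_dvd_pow p hm2).trans hd
      rw [pow_two] at h
      exact (Nat.mul_dvd_mul_iff_right hpp.pos).mp h
    obtain ⟨k', rfl⟩ := hpk
    rw [hl, pow_mul]
    exact pow_mem (mem_zpowers _) k'
  haveI : X.Normal := ⟨fun x hx g => by
    obtain ⟨j, rfl⟩ := hx
    show g * (q₀ ^ p) ^ j * g⁻¹ ∈ X
    rw [← conj_zpow, ← conj_pow]
    refine zpow_mem ?_ j
    obtain ⟨k', z', hz', he⟩ := N.exists_pow_mul_gen hgen (N.Q_normal.conj_mem q₀ hq₀ g)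
    rw [he, (show Commute (q₀ ^ k') z' from mem_center_iff.mp hz'.1 _).mul_pow, hz'.2, mul_one, ← pow_mul,
      mul_comm, pow_mul]
    exact pow_mem (mem_zpowers _) k'⟩
  haveI : (X ⊓ V).Normal := inferInstance
  refine hlz (N.base.moving.le_zOne (L := X ⊓ V) ?_ ⟨hlX, hlV⟩)
  haveI : IsCyclic X := inferInstance
  haveI : IsCyclic (X ⊓ V : Subgroup P) := Subgroup.isCyclic_of_le inf_le_left
  obtain ⟨g, hg⟩ := IsCyclic.exists_generator (α := (X ⊓ V : Subgroup P))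
  rw [← orderOf_eq_card_of_forall_mem_zpowers hg]
  exact orderOf_le_of_pow_eq_one hpp.pos (Subtype.ext (by rw [Subgroup.coe_pow]; exact D.mov_pow g.2.2))

theorem inf_eq : E₁ ⊓ E₃ = R := by
  rw [N.D3_eq, N.Q_eq, sup_eq_left.mpr ((D.le_orbit N.base.moving.le).trans (D.le_orbit N.base.W_le))]

theorem card_E₁ : Nat.card E₁ = p ^ 5 := by
  rw [D.card_inf N.base.moving.mover.1 N.base.mem N.base.ne_first.symm, N.inf_eq, N.base.R_card, ← pow_succ']

/-- The first member moves the large orbit beyond the centre. -/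
theorem not_small : ¬ ∀ x ∈ E₁, ∀ w ∈ Wd, x * w * x⁻¹ * w⁻¹ ∈ zOne p P := fun h => by
  refine N.base.moving.not_inv fun α hα e he => ?_
  obtain ⟨i, hi⟩ := N.z0_gen he
  set u₁ : E₁ := ⟨N.u, N.base.R_le_E₁ N.u_mem⟩
  set b₁ : E₁ := ⟨N.b, N.base.R_le_E₁ N.b_mem⟩
  rw [show e = (u₁ * b₁ * u₁⁻¹ * b₁⁻¹) ^ i from Subtype.ext (by push_cast; exact hi.symm), map_pow, Subgroup.coe_pow]
  refine (zOne p P).pow_mem ?_ i
  rw [map_mul, map_mul, map_mul, map_inv, map_inv]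
  push_cast
  exact h _ (α u₁).2 _ (N.base.moving.wd_inv hα (e := b₁) N.hb)

theorem normal_line {X : Subgroup P} [X.Normal] (hX : X ≤ Wd) (hV : ¬ V ≤ X) : X ≤ zOne p P := by
  haveI := D.mov_normal N.base.moving.mover.1
  have hlt : X ⊓ V < V := lt_of_le_of_ne inf_le_right fun e => hV (e.ge.trans inf_le_left)
  have h := mul_card_le_of_lt D.pg hlt
  rw [N.base.moving.mov_card.1, pow_two] at h
  have hz : X ⊓ V ≤ zOne p P := N.base.moving.le_zOne (Nat.le_of_mul_le_mul_left h hpf.out.pos)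
  intro m hm
  by_contra hmz
  refine N.not_small ?_
  have hmV : m ∉ V := fun h' => hmz (hz ⟨hm, h'⟩)
  have hWd : Wd = V ⊔ X := by
    refine (eq_of_le_of_card_ge (sup_le (D.le_orbit N.base.moving.le) hX) ?_).symm
    have h1 := mul_card_le_of_lt D.pg (lt_of_le_of_ne le_sup_left fun e => hmV (e.ge (mem_sup_right hm)) : V < V ⊔ X)
    rw [N.base.moving.mov_card.1, ← pow_succ'] at h1
    rw [N.base.moving.mov_card.2]
    exact h1
  intro x hx w hw
  obtain ⟨v, hv, y, hy, rfl⟩ := Subgroup.mem_sup_of_normal_right.mp (hWd.le hw)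
  have h1 : x * y * x⁻¹ * y⁻¹ ∈ zOne p P := hz
    ⟨X.mul_mem ((inferInstance : X.Normal).conj_mem y hy x) (X.inv_mem hy), N.base.moving.wd_comm x (hX hy)⟩
  rw [show x * (v * y) * x⁻¹ * (v * y)⁻¹ = (x * v * x⁻¹) * (x * y * x⁻¹ * y⁻¹) * v⁻¹ by group,
    (N.base.comm_VE₁ hv hx).eq, mul_inv_cancel_right, (mem_center_iff.mp h1.1 v), mul_inv_cancel_right]
  exact h1

theorem false : False := by
  classical
  have hpp : p.Prime := hpf.out
  have hM := N.base.moving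
  haveI := D.mov_normal hM.mover.1
  haveI := hM.wd_normal
  haveI := N.R_normal
  haveI hzn := zOne_normal (p := p) (P := P)
  haveI := D.nrm E₁ hM.mover.1
  haveI := D.nrm E₂ hM.mem
  have hzV : zOne p P ≤ V := D.zOne_le_mov hM.mover.1
  have hVW : V ≤ Wd := D.le_orbit hM.le
  have hne₂ : E₁ ≠ E₂ := by
    rintro rfl
    refine hM.moves ?_
    rw [Sys.orbit, closure_le]
    rintro _ ⟨α, hα, e, he, rfl⟩
    exact D.mov_inv hα he
  -- the fixed points in the large orbit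
  have hM0 : Wd ⊓ centralizer (E₂ : Set P) ≤ zOne p P := by
    refine N.normal_line inf_le_left fun hle => hne₂ ?_
    have h12 : E₂ ≤ E₁ := fun g hg => D.cen_mov hM.mover fun v hv => mem_centralizer_iff.mp (hle hv).2 g hg
    exact (eq_of_le_of_card_ge h12 (D.card_eq_of_mem hM.mover.1 hM.mem).le).symm
  have hzinv : ∀ α ∈ D.A E₂, ∀ e : E₂, (e : P) ∈ zOne p P → ((α e : E₂) : P) ∈ zOne p P := by
    intro α hα e he
    refine hM0 ⟨D.orbit_inv hα (hVW (hzV he) : (e : P) ∈ Wd), mem_centralizer_iff.mpr fun g hg => ?_⟩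
    have h : α⁻¹ ⟨g, hg⟩ * e = e * α⁻¹ ⟨g, hg⟩ := Subtype.ext (mem_center_iff.mp he.1 _)
    have h' := congrArg α h
    rw [map_mul, map_mul, MulAut.apply_inv_self] at h'
    exact congrArg Subtype.val h'
  -- the second member acts trivially modulo the centre
  let π := QuotientGroup.mk' (zOne p P)
  have hcomm2 : ∀ {g : P}, g ∈ E₂ → ∀ {w : P}, w ∈ Wd → g * w * g⁻¹ * w⁻¹ ∈ zOne p P := by
    intro g hg w hw
    have hle : Wd ≤ (centralizer ({π g} : Set _)).comap π := by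
      rw [Sys.orbit, closure_le]
      rintro _ ⟨α, hα, e, he, rfl⟩
      refine mem_centralizer_singleton_iff.mpr ?_
      have h0 : ((α⁻¹ ⟨g, hg⟩ * e * (α⁻¹ ⟨g, hg⟩)⁻¹ * e⁻¹ : E₂) : P) ∈ zOne p P := by
        push_cast
        exact hM.comm_mov _ he
      have h1 := hzinv α hα _ h0
      rw [map_mul, map_mul, map_mul, map_inv, map_inv, MulAut.apply_inv_self] at h1
      push_cast at h1
      have h2 : π (g * ((α e : E₂) : P) * g⁻¹ * ((α e : E₂) : P)⁻¹) = 1 := (QuotientGroup.eq_one_iff _).mpr h1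
      rw [map_mul, map_mul, map_mul, map_inv, map_inv, mul_inv_eq_one, mul_inv_eq_iff_eq_mul] at h2
      exact h2.symm
    have h := mem_centralizer_singleton_iff.mp (hle hw)
    rw [← QuotientGroup.eq_one_iff]
    show π _ = 1
    rw [map_mul, map_mul, map_mul, map_inv, map_inv, ← h, mul_inv_cancel_right, mul_inv_cancel]
  -- the intersection
  have hinf : E₁ ⊓ E₂ = R := by
    have hsup : (E₁ ⊓ E₂) ⊔ R ≤ E₁ := sup_le inf_le_left N.base.R_le_E₁
    have hne : (E₁ ⊓ E₂) ⊔ R ≠ E₁ := fun e => by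
      refine N.not_small fun x hx w hw => ?_
      let π := QuotientGroup.mk' (zOne p P)
      have hle : (E₁ ⊓ E₂) ⊔ R ≤ (centralizer ({π w} : Set _)).comap π := by
        have key : ∀ {g}, g * w * g⁻¹ * w⁻¹ ∈ zOne p P → g ∈ (centralizer ({π w} : Set _)).comap π := fun {g} h => by
          have h' : π (g * w * g⁻¹ * w⁻¹) = 1 := (QuotientGroup.eq_one_iff _).mpr h
          rw [map_mul, map_mul, map_mul, map_inv, map_inv, mul_inv_eq_one, mul_inv_eq_iff_eq_mul] at h'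
          exact mem_centralizer_singleton_iff.mpr h'
        exact sup_le (fun g hg => key (hcomm2 hg.2 hw)) fun g hg => key (N.comm_wd (N.R_le hg) hw)
      have h := mem_centralizer_singleton_iff.mp (hle (e.ge hx))
      rw [← QuotientGroup.eq_one_iff]
      show π _ = 1
      rw [map_mul, map_mul, map_mul, map_inv, map_inv, h, mul_inv_cancel_right, mul_inv_cancel]
    have h1 := mul_card_le_of_lt D.pg (lt_of_le_of_ne hsup hne)
    rw [N.card_E₁, show p ^ 5 = p * p ^ 4 by ring] at h1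
    have h1' : Nat.card ((E₁ ⊓ E₂) ⊔ R : Subgroup P) ≤ p ^ 4 := Nat.le_of_mul_le_mul_left h1 hpp.pos
    have e1 : R = (E₁ ⊓ E₂) ⊔ R := eq_of_le_of_card_ge le_sup_right (by rw [N.base.R_card]; exact h1')
    refine eq_of_le_of_card_ge (e1 ▸ le_sup_left) ?_
    rw [N.base.R_card]
    have h2 := D.card_inf hM.mover.1 hM.mem hne₂
    rw [N.card_E₁, show p ^ 5 = p * p ^ 4 by ring] at h2
    exact (Nat.eq_of_mul_eq_mul_left hpp.pos h2).le
  have hu2 : N.u ∈ E₂ := (hinf.ge N.u_mem).2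
  obtain ⟨y, hy, hy1⟩ : ∃ y ∈ E₂, y ∉ E₁ := by
    by_contra hno
    push Not at hno
    exact hne₂ (eq_of_le_of_card_ge hno (D.card_eq_of_mem hM.mover.1 hM.mem).le).symm
  have hdec : ∀ {g}, g ∈ E₂ → ∃ (i : ℕ) (r : P), r ∈ R ∧ g = y ^ i * r := by
    intro g hg
    obtain ⟨i, f, hf, he⟩ := D.exists_pow_mul hM.mover.1 hy1 g
    refine ⟨i, f, hinf.le ⟨hf, ?_⟩, he⟩
    have h := mul_mem (inv_mem (pow_mem hy i)) hg
    rwa [he, inv_mul_cancel_left] at h
  have hyu : y * N.u * y⁻¹ * N.u⁻¹ ∈ Wd :=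
    comm_mem_of_card_le D.pg (D.le_orbit N.base.W_le) (by rw [N.base.R_card, hM.mov_card.2, ← pow_succ']) y N.u_mem
  -- commutators
  set c₀ := y * N.u * y⁻¹ * N.u⁻¹ with hc₀
  have hc2 : c₀ ∈ E₂ := hM.wd_le hM.mem hyu
  have hsmall : ∀ (S : Subgroup P), S.Normal → S ≤ Wd → (∀ α ∈ D.A E₂, ∀ e : E₂, (e : P) ∈ S → ((α e : E₂) : P) ∈ S) →
      Nat.card S ≤ p ^ 2 → S ≤ zOne p P := by
    intro S hS hSW hinv hcard
    refine N.normal_line hSW fun hVS => hM.moves ?_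
    have e : V = S := eq_of_le_of_card_ge hVS (by rw [hM.mov_card.1]; exact hcard)
    rw [Sys.orbit, closure_le]
    rintro _ ⟨α, hα, e', he', rfl⟩
    exact e.ge (hinv α hα e' (e.le he'))
  have hcz : ∀ (T : Set P), (∀ g, ∀ t ∈ T, g * t * g⁻¹ ∈ T) →
      (∀ α ∈ D.A E₂, ∀ e : E₂, (e : P) ∈ T → ((α e : E₂) : P) ∈ T) → T ⊆ (E₂ : Set P) →
      ∀ c ∈ Wd, closure T ≤ zOne p P ⊔ zpowers c → closure T ≤ zOne p P := by
    intro T hconj hinv hTE c hc hle
    have hn : (closure T).Normal := ⟨fun x hx g => by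
      have h : closure T ≤ (closure T).comap (MulAut.conj g).toMonoidHom := by
        rw [closure_le]; exact fun t ht => subset_closure (hconj g t ht)
      exact h hx⟩
    refine hsmall _ hn (hle.trans (sup_le (hzV.trans hVW) (zpowers_le.mpr hc))) (fun α hα e he => ?_)
      ((Subgroup.card_le_of_le hle).trans ?_)
    · have h : closure T ≤ (((closure T).subgroupOf E₂).comap α.toMonoidHom).map E₂.subtype := by
        rw [closure_le]
        intro t ht
        refine ⟨⟨t, hTE ht⟩, ?_, rfl⟩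
        show ((α ⟨t, hTE ht⟩ : E₂) : P) ∈ closure T
        exact subset_closure (hinv α hα _ ht)
      obtain ⟨e', he', hee⟩ := h he
      rw [E₂.subtype_injective hee] at he'
      exact he'
    · have h := Rel.card_sup_zpowers (p := p) (zOne p P) (hM.orbit_pow hc) (by
        rw [normalizer_eq_top]
        exact le_top)
      rwa [hM.zOne_card, ← pow_two] at h
  haveI hn1 : ((zOne p P).subgroupOf E₂).Normal := Subgroup.normal_subgroupOf
  have hM1 : closure {t | ∃ g ∈ E₂, ∃ h ∈ E₂, g * h * g⁻¹ * h⁻¹ = t} ≤ zOne p P := by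
    refine hcz _ ?_ ?_ ?_ c₀ hyu ?_
    · rintro k _ ⟨g, hg, h, hh, rfl⟩
      exact ⟨k * g * k⁻¹, D.conj_mem hM.mem k hg, k * h * k⁻¹, D.conj_mem hM.mem k hh, by group⟩
    · rintro α hα e ⟨g, hg, h, hh, he⟩
      refine ⟨α ⟨g, hg⟩, (α ⟨g, hg⟩).2, α ⟨h, hh⟩, (α ⟨h, hh⟩).2, ?_⟩
      rw [show e = ⟨g, hg⟩ * ⟨h, hh⟩ * (⟨g, hg⟩ : E₂)⁻¹ * (⟨h, hh⟩ : E₂)⁻¹ from Subtype.ext he.symm, map_mul,
        map_mul, map_mul, map_inv, map_inv]
      rfl
    · rintro _ ⟨g, hg, h, hh, rfl⟩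
      exact mul_mem (mul_mem (mul_mem hg hh) (inv_mem hg)) (inv_mem hh)
    · rw [closure_le]
      rintro _ ⟨g, hg, h, hh, rfl⟩
      -- modulo the centre and the commutator
      let S : Subgroup E₂ := (zOne p P).subgroupOf E₂ ⊔ zpowers ⟨c₀, hc2⟩
      haveI : S.Normal := by
        refine ⟨fun x hx k => ?_⟩
        have hle : S ≤ S.comap (MulAut.conj k).toMonoidHom := by
          refine sup_le (fun w hw => mem_sup_left (hn1.conj_mem w hw k)) (zpowers_le.mpr ?_)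
          show k * ⟨c₀, hc2⟩ * k⁻¹ ∈ S
          rw [show k * ⟨c₀, hc2⟩ * k⁻¹ = (k * ⟨c₀, hc2⟩ * k⁻¹ * (⟨c₀, hc2⟩ : E₂)⁻¹) * ⟨c₀, hc2⟩ by group]
          exact mul_mem (mem_sup_left (mem_subgroupOf.mpr (by push_cast; exact hcomm2 k.2 hyu))) (mem_sup_right (mem_zpowers _))
        exact hle hx
      let ρ := QuotientGroup.mk' S
      have hρ1 : ∀ {x : E₂}, (x : P) ∈ zOne p P → ρ x = 1 := fun hx =>
        (QuotientGroup.eq_one_iff _).mpr (mem_sup_left (mem_subgroupOf.mpr hx))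
      have hρc : ρ ⟨c₀, hc2⟩ = 1 := (QuotientGroup.eq_one_iff _).mpr (mem_sup_right (mem_zpowers _))
      have hρcomm : ∀ {a b : E₂}, ρ (a * b * a⁻¹ * b⁻¹) = 1 → Commute (ρ a) (ρ b) := fun {a b} h => by
        rwa [map_mul, map_mul, map_mul, map_inv, map_inv, mul_inv_eq_one, mul_inv_eq_iff_eq_mul] at h
      have hy' : ∀ {r : P} (hr : r ∈ R), Commute (ρ ⟨y, hy⟩) (ρ ⟨r, (hinf.ge hr).2⟩) := by
        intro r hr
        have hR2 : R ≤ E₂ := fun s hs => (hinf.ge hs).2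
        have hle : R ≤ ((centralizer ({ρ ⟨y, hy⟩} : Set _)).comap ρ).map E₂.subtype := by
          refine N.R_le_of (fun v hv => ?_) ?_ ?_
          · refine ⟨⟨v, hM.le hv⟩, mem_centralizer_singleton_iff.mpr (hρcomm (hρ1 ?_)).eq.symm, rfl⟩
            push_cast
            exact hcomm2 hy (hVW hv)
          · refine ⟨⟨N.b, hR2 N.b_mem⟩, mem_centralizer_singleton_iff.mpr (hρcomm (hρ1 ?_)).eq.symm, rfl⟩
            push_cast
            exact hcomm2 hy N.hb
          · refine ⟨⟨N.u, hu2⟩, mem_centralizer_singleton_iff.mpr (hρcomm ?_).eq.symm, rfl⟩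
            rw [show (⟨y, hy⟩ : E₂) * ⟨N.u, hu2⟩ * (⟨y, hy⟩ : E₂)⁻¹ * (⟨N.u, hu2⟩ : E₂)⁻¹ = ⟨c₀, hc2⟩ from
              Subtype.ext rfl]
            exact hρc
        obtain ⟨r', hr', hrr⟩ := hle hr
        rw [show (⟨r, (hinf.ge hr).2⟩ : E₂) = r' from Subtype.ext hrr.symm]
        exact (mem_centralizer_singleton_iff.mp hr').symm
      have hRR : ∀ {r s : P} (hr : r ∈ R) (hs : s ∈ R),
          Commute (ρ ⟨r, (hinf.ge hr).2⟩) (ρ ⟨s, (hinf.ge hs).2⟩) := fun hr hs =>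
        hρcomm (hρ1 (by push_cast; exact N.base.gen_comm hr hs))
      obtain ⟨i, r, hr, rfl⟩ := hdec hg
      obtain ⟨j, s, hs, rfl⟩ := hdec hh
      have hc : Commute (ρ ⟨y ^ i * r, hg⟩) (ρ ⟨y ^ j * s, hh⟩) := by
        rw [show (⟨y ^ i * r, hg⟩ : E₂) = (⟨y, hy⟩ : E₂) ^ i * ⟨r, (hinf.ge hr).2⟩ from rfl,
          show (⟨y ^ j * s, hh⟩ : E₂) = (⟨y, hy⟩ : E₂) ^ j * ⟨s, (hinf.ge hs).2⟩ from rfl,
          map_mul, map_mul, map_pow, map_pow]
        exact ((((Commute.refl _).pow_pow i j)).mul_right ((hy' hs).pow_left i)).mul_left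
          (((hy' hr).symm.pow_right j).mul_right (hRR hr hs))
      have hS : (⟨y ^ i * r, hg⟩ : E₂) * ⟨y ^ j * s, hh⟩ * (⟨y ^ i * r, hg⟩ : E₂)⁻¹ *
          (⟨y ^ j * s, hh⟩ : E₂)⁻¹ ∈ S := by
        rw [← QuotientGroup.eq_one_iff]
        show ρ _ = 1
        rw [map_mul, map_mul, map_mul, map_inv, map_inv, hc.eq, mul_inv_cancel_right, mul_inv_cancel]
      have hle : S ≤ (zOne p P ⊔ zpowers c₀).subgroupOf E₂ := sup_le
        (fun w hw => mem_subgroupOf.mpr (mem_sup_left (mem_subgroupOf.mp hw)))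
        (zpowers_le.mpr (mem_subgroupOf.mpr (mem_sup_right (mem_zpowers _))))
      exact mem_subgroupOf.mp (hle hS)
  have hcomm : ∀ {g h : P}, g ∈ E₂ → h ∈ E₂ → g * h * g⁻¹ * h⁻¹ ∈ zOne p P := fun hg hh =>
    hM1 (subset_closure ⟨_, hg, _, hh, rfl⟩)
  -- powers
  have hpow2 : ∀ {g h : P}, g ∈ E₂ → h ∈ E₂ → (g * h) ^ p = g ^ p * h ^ p := fun {g h} hg hh =>
    mul_pow_class_two D.odd (w := h * g * h⁻¹ * g⁻¹) (hcomm hh hg).2 (mem_center_iff.mp (hcomm hh hg).1 g)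
      (mem_center_iff.mp (hcomm hh hg).1 h) (by group)
  have hyR : y ^ p ∈ R := hinf.le ⟨D.pow_mem_E hM.mover.1 y, pow_mem hy p⟩
  have hyW : y ^ p ∈ Wd := by
    have hcyb : Commute (y ^ p) N.b := by
      have hw := hcomm2 hy N.hb
      have hn : ∀ n : ℕ, y ^ n * N.b * (y ^ n)⁻¹ = (y * N.b * y⁻¹ * N.b⁻¹) ^ n * N.b := by
        intro n
        induction n with
        | zero => simp
        | succ n ih =>
          rw [pow_succ', show y * y ^ n * N.b * (y * y ^ n)⁻¹ = y * (y ^ n * N.b * (y ^ n)⁻¹) * y⁻¹ by group, ih,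
            show y * ((y * N.b * y⁻¹ * N.b⁻¹) ^ n * N.b) * y⁻¹ =
              (y * (y * N.b * y⁻¹ * N.b⁻¹) ^ n * y⁻¹) * (y * N.b * y⁻¹) by group,
            mem_center_iff.mp (pow_mem hw.1 n) y, mul_inv_cancel_right, pow_succ]
          group
      have h := hn p
      rw [hw.2, one_mul] at h
      exact mul_inv_eq_iff_eq_mul.mp h
    obtain ⟨w, hw, t, ht, hwt⟩ := Subgroup.mem_sup_of_normal_left.mp (N.R_eq.le hyR)
    obtain ⟨i, rfl⟩ := mem_powers_iff_mem_zpowers.mpr ht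
    have hbu : Commute (N.u ^ i) N.b := by
      have h1 : Commute w N.b := hM.orbit_comm hw N.hb
      rw [← hwt] at hcyb
      have h2 := h1.inv_left.mul_left hcyb
      rwa [inv_mul_cancel_left] at h2
    have hui : N.u ^ i = 1 := by
      by_contra hne
      obtain ⟨m, hm⟩ := exists_pow_pow_eq (N.base.R_pow N.u_mem) hne
      exact N.hne (hm ▸ (hbu.pow_left m)).eq
    rw [← hwt, show (fun x => N.u ^ x) i = 1 from hui, mul_one]
    exact hw
  have hM2 : closure {t | ∃ g ∈ E₂, g ^ p = t} ≤ zOne p P := by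
    refine hcz _ ?_ ?_ ?_ _ hyW ?_
    · rintro k _ ⟨g, hg, rfl⟩
      exact ⟨k * g * k⁻¹, D.conj_mem hM.mem k hg, conj_pow⟩
    · rintro α hα e ⟨g, hg, he⟩
      refine ⟨α ⟨g, hg⟩, (α ⟨g, hg⟩).2, ?_⟩
      rw [show e = (⟨g, hg⟩ : E₂) ^ p from Subtype.ext he.symm, map_pow]
      rfl
    · rintro _ ⟨g, hg, rfl⟩
      exact pow_mem hg p
    · rw [closure_le]
      rintro _ ⟨g, hg, rfl⟩
      obtain ⟨i, r, hr, rfl⟩ := hdec hg
      rw [hpow2 (pow_mem hy i) (hinf.ge hr).2, N.base.R_pow hr, mul_one, ← pow_mul, mul_comm, pow_mul]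
      exact mem_sup_right (pow_mem (mem_zpowers _) i)
  have hle := D.section_le (U := E₂) (N := zOne p P) (D.zOne_le hM.mem) (fun g _ x hx => hzn.conj_mem x hx g)
    (fun a ha b hb => hcomm ha hb) fun a ha => hM2 (subset_closure ⟨a, ha, rfl⟩)
  rw [hM.zOne_card, ← pow_succ, D.card_eq_of_mem hM.mem hM.mover.1, N.card_E₁,
    Nat.pow_le_pow_iff_right hpp.one_lt] at hle
  omega

end Nc

namespace Third

variable {D : Sys p P} {E₁ E₂ E₃ : Subgroup P}

theorem false (T : Third D E₁ E₂ E₃) : False := by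
  obtain ⟨α, a, b, hα, ha, hb, hne⟩ := T.exists_nc
  exact Nc.false ⟨T, α, a, b, hα, ha, hb, hne⟩

end Third

namespace Sys

/-- Some element of order `p` centralises a maximal subgroup of a member not containing it. -/
theorem exists_tv (D : Sys p P) : ∃ (E : Subgroup P) (y : P), Tv D E y := by
  by_contra hno
  push Not at hno
  obtain ⟨E₁, hE₁, E₂, hE₂, α, hα, e, he, hout⟩ := D.exists_moving hno
  have M : Moving D E₁ E₂ := ⟨hno, hE₁, hE₂, fun h => hout (h (subset_closure ⟨α, hα, e, he, rfl⟩))⟩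
  obtain ⟨E₃, hE₃, hfix, β, hβ, f, hf, hfout⟩ := M.exists_third
  exact Third.false ⟨M, hE₃, hfix, fun h => hfout (h (subset_closure ⟨β, hβ, f, hf, rfl⟩))⟩

end Sys

end CfsgLib.SectThree
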