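import Cfsg.Agent.Lib.SectThree.Orbit
import Cfsg.Agent.Lib.Solvable.Frattini

/-!
A subgroup with Frattini quotient of rank one over a given subgroup.
-/

set_option autoImplicit false
set_option linter.unusedSectionVars false
set_option linter.style.haveILetI false

namespace CfsgLib.SectThree

open Subgroup

/-- A subgroup at most `p` times larger than its Frattini subgroup times `Z` is cyclic over `Z`. -/
theorem exists_gen_over {p : ℕ} [hpf : Fact p.Prime] {G : Type*} [Group G] [Finite G] (hG : IsPGroup p G)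
    {Q Z : Subgroup G} (hZQ : Z ≤ Q)
    (hc : Nat.card Q ≤ p * Nat.card ((frattini Q).map Q.subtype ⊔ Z : Subgroup G)) :
    ∃ q ∈ Q, Q = zpowers q ⊔ Z := by
  set M := (frattini Q).map Q.subtype ⊔ Z with hM
  have hMQ : M ≤ Q := sup_le (map_subtype_le _) hZQ
  have hgen : ∀ q : G, q ∈ Q → M ⊔ zpowers q = Q → Q = zpowers q ⊔ Z := by
    intro q hq he
    refine le_antisymm ?_ (sup_le (zpowers_le.mpr hq) hZQ)
    have htop : (zpowers q ⊔ Z).subgroupOf Q = ⊤ := by
      refine CfsgLib.FrattiniLemmas.eq_top_of_sup_eq_top le_rfl (eq_top_iff.mpr fun v _ => ?_)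
      have hle2 : M ⊔ zpowers q ≤ ((zpowers q ⊔ Z).subgroupOf Q ⊔ frattini Q).map Q.subtype := by
        refine sup_le (sup_le (map_mono le_sup_right) fun z hz => ?_) ?_
        · exact ⟨⟨z, hZQ hz⟩, mem_sup_left (mem_subgroupOf.mpr (mem_sup_right hz)), rfl⟩
        · exact zpowers_le.mpr ⟨⟨q, hq⟩, mem_sup_left (mem_subgroupOf.mpr (mem_sup_left (mem_zpowers _))), rfl⟩
      exact (mem_map_iff_mem Q.subtype_injective).mp (hle2 (he.ge v.2))
    exact subgroupOf_eq_top.mp htop
  by_cases hQM : Q ≤ M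
  · exact ⟨1, one_mem _, hgen 1 (one_mem _) (by rw [zpowers_one_eq_bot, sup_bot_eq]; exact le_antisymm hMQ hQM)⟩
  obtain ⟨q, hq, hqM⟩ := SetLike.not_le_iff_exists.mp hQM
  refine ⟨q, hq, hgen q hq (eq_of_le_of_card_ge (sup_le hMQ (zpowers_le.mpr hq)) ?_)⟩
  exact hc.trans (mul_card_le_of_lt hG
    (lt_of_le_of_ne le_sup_left fun e => hqM (e.ge (mem_sup_right (mem_zpowers q)))))

end CfsgLib.SectThree
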