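import Cfsg.Agent.Lib.SectThree.Setup

/-!
Automorphisms stabilising a flag above the Frattini subgroup.
-/

set_option autoImplicit false
set_option linter.unusedSectionVars false
set_option linter.style.haveILetI false

namespace CfsgLib.SectThree

open Subgroup
open MaxClassEssential (Vec vec lin)

variable {p : ℕ} [hpf : Fact p.Prime]

section

variable {E : Type*} [Group E] [Finite E]

/-- The automorphisms in `A` moving every term of the flag into the next. -/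
def flagStab (A : Subgroup (MulAut E)) (F : ℕ → Subgroup E) (hF : Antitone F) : Subgroup (MulAut E) :=
  A ⊓
  { carrier := {g | ∀ i, ∀ x ∈ F i, x⁻¹ * g x ∈ F (i + 1)}
    one_mem' := fun i x _ => by rw [MulAut.one_apply, inv_mul_cancel]; exact one_mem _
    mul_mem' := fun {g h} hg hh i x hx => by
      have h1 := hh i x hx
      have hhx : h x ∈ F i := by
        have h2 := mul_mem hx (hF (Nat.le_succ i) h1)
        rwa [mul_inv_cancel_left] at h2
      have h3 := mul_mem h1 (hg i (h x) hhx)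
      rw [MulAut.mul_apply]
      simpa [mul_assoc] using h3
    inv_mem' := fun {g} hg i x hx => by
      have hle : (F i).map g.toMonoidHom ≤ F i := by
        rintro _ ⟨v, hv, rfl⟩
        have h2 := mul_mem hv (hF (Nat.le_succ i) (hg i v hv))
        rwa [mul_inv_cancel_left] at h2
      obtain ⟨v, hv, rfl⟩ := (eq_of_le_of_card_ge hle (card_map_of_injective g.injective).ge).ge hx
      show (g v)⁻¹ * g⁻¹ (g v) ∈ F (i + 1)
      rw [MulAut.inv_apply_self]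
      have h3 := inv_mem (hg i v hv)
      rwa [mul_inv_rev, inv_inv] at h3 }

theorem mem_flagStab {A : Subgroup (MulAut E)} {F : ℕ → Subgroup E} {hF : Antitone F} {g : MulAut E} :
    g ∈ flagStab A F hF ↔ g ∈ A ∧ ∀ i, ∀ x ∈ F i, x⁻¹ * g x ∈ F (i + 1) := Iff.rfl

theorem isPGroup_flagStab (hE : IsPGroup p E) (A : Subgroup (MulAut E)) {F : ℕ → Subgroup E} (hF : Antitone F)
    (h0 : F 0 = ⊤) {n : ℕ} (hn : F n ≤ frattini E) : IsPGroup p (flagStab A F hF) := by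
  haveI : Fact (IsPGroup p E) := ⟨hE⟩
  intro ⟨g, hg⟩
  obtain ⟨-, hgs⟩ := mem_flagStab.mp hg
  set N : Module.End (ZMod p) (Vec p E) := lin g - 1 with hN
  have hstep : ∀ i, ∀ x : E, ∃ v ∈ F i, (N ^ i) (vec x) = vec v := by
    intro i
    induction i with
    | zero => exact fun x => ⟨x, h0 ▸ mem_top x, by simp⟩
    | succ i ih =>
      intro x
      obtain ⟨v, hv, he⟩ := ih x
      refine ⟨v⁻¹ * g v, hgs i v hv, ?_⟩
      rw [pow_succ', Module.End.mul_apply, he, hN, LinearMap.sub_apply, Module.End.one_apply,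
        MaxClassEssential.lin_vec, MaxClassEssential.vec_mul, MaxClassEssential.vec_inv]
      abel
  have hN0 : N ^ n = 0 := LinearMap.ext fun w => by
    obtain ⟨x, rfl⟩ := MaxClassEssential.vec_surjective w
    obtain ⟨v, hv, he⟩ := hstep n x
    rw [he, MaxClassEssential.vec_eq_zero.mpr (hn hv), LinearMap.zero_apply]
  have hsub : Subsingleton (Vec p E) ∨ Nontrivial (Vec p E) := subsingleton_or_nontrivial _
  have hker : g ^ p ^ n ∈ (lin : MulAut E →* Module.End (ZMod p) (Vec p E)).ker := by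
    rw [MonoidHom.mem_ker, map_pow]
    rcases hsub with hsub | hnt
    · exact LinearMap.ext fun _ => Subsingleton.elim _ _
    haveI : CharP (Module.End (ZMod p) (Vec p E)) p := charP_of_injective_algebraMap
      (algebraMap (ZMod p) (Module.End (ZMod p) (Vec p E))).injective p
    have hcomp : ∀ k : ℕ, (lin g : Module.End (ZMod p) (Vec p E)) ^ p ^ k = 1 + N ^ p ^ k := fun k => by
      have h := add_pow_char_pow_of_commute p k (Commute.one_left N)
      rw [one_pow, hN, add_sub_cancel] at h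
      exact h
    rw [hcomp, pow_eq_zero_of_le (Nat.le_of_lt (Nat.lt_pow_self hpf.out.one_lt)) hN0, add_zero]
  obtain ⟨k, hk⟩ := MaxClassEssential.isPGroup_ker_lin ⟨_, hker⟩
  refine ⟨n + k, Subtype.ext ?_⟩
  have hk' : (g ^ p ^ n) ^ p ^ k = 1 := congrArg Subtype.val hk
  show g ^ p ^ (n + k) = 1
  rw [pow_add, pow_mul, hk']

end

namespace Sys

variable {P : Type*} [Group P] [Finite P] (D : Sys p P) {E : Subgroup P}

include D

theorem flagStab_conj {F : ℕ → Subgroup E} (hF : Antitone F) (hinv : ∀ i, ∀ α ∈ D.A E, ∀ x ∈ F i, α x ∈ F i)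
    {α : MulAut E} (hα : α ∈ D.A E) {q : MulAut E} (hq : q ∈ flagStab (D.A E) F hF) :
    α * q * α⁻¹ ∈ flagStab (D.A E) F hF := by
  obtain ⟨hqA, hq'⟩ := mem_flagStab.mp hq
  refine mem_flagStab.mpr ⟨(D.A E).mul_mem ((D.A E).mul_mem hα hqA) ((D.A E).inv_mem hα), fun i x hx => ?_⟩
  have h1 := hinv (i + 1) α hα _ (hq' i (α⁻¹ x) (hinv i α⁻¹ ((D.A E).inv_mem hα) x hx))
  rwa [map_mul, map_inv, MulAut.apply_inv_self] at h1

/-- An element stabilising an invariant flag lies in the subgroup. -/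
theorem mem_of_flag (hE : E ∈ D.Ess) {F : ℕ → Subgroup E} (hF : Antitone F) (h0 : F 0 = ⊤) {n : ℕ}
    (hn : F n ≤ frattini E) (hinv : ∀ i, ∀ α ∈ D.A E, ∀ x ∈ F i, α x ∈ F i) {g : P}
    (h : ∀ i, ∀ x ∈ F i, x⁻¹ * D.cj hE g x ∈ F (i + 1)) : g ∈ E := by
  exact D.mem_of_invariant hE (Q := flagStab (D.A E) F hF) inf_le_left
    (fun _ hα _ hq => D.flagStab_conj hF hinv hα hq)
    (isPGroup_flagStab (D.pg.to_subgroup E) _ hF h0 hn) (mem_flagStab.mpr ⟨D.cj_mem hE g, h⟩)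

/-- The stabiliser of an invariant flag consists of inner automorphisms. -/
theorem flag_inner (hE : E ∈ D.Ess) {F : ℕ → Subgroup E} (hF : Antitone F) (h0 : F 0 = ⊤) {n : ℕ}
    (hn : F n ≤ frattini E) (hinv : ∀ i, ∀ α ∈ D.A E, ∀ x ∈ F i, α x ∈ F i) {g : MulAut E} (hg : g ∈ D.A E)
    (h : ∀ i, ∀ x ∈ F i, x⁻¹ * g x ∈ F (i + 1)) : g ∈ (MulAut.conj : E →* MulAut E).range := by
  refine D.rad E hE (flagStab (D.A E) F hF) inf_le_left (fun α hα => mem_normalizer_iff.mpr fun q =>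
    ⟨fun hq => D.flagStab_conj hF hinv hα hq, fun hq => ?_⟩) (isPGroup_flagStab (D.pg.to_subgroup E) _ hF h0 hn)
    (mem_flagStab.mpr ⟨hg, h⟩)
  simpa [mul_assoc] using D.flagStab_conj hF hinv ((D.A E).inv_mem hα) hq

/-- The flag with three middle terms above the Frattini subgroup. -/
def flag {E : Subgroup P} (_D : Sys p P) (L₁ L₂ L₃ : Subgroup E) : ℕ → Subgroup E
  | 0 => ⊤
  | 1 => L₁ ⊔ L₂ ⊔ L₃ ⊔ frattini E
  | 2 => L₂ ⊔ L₃ ⊔ frattini E
  | 3 => L₃ ⊔ frattini E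
  | _ + 4 => frattini E

theorem flag_antitone (L₁ L₂ L₃ : Subgroup E) : Antitone (D.flag L₁ L₂ L₃) := by
  refine antitone_nat_of_succ_le fun i => ?_
  match i with
  | 0 => exact le_top
  | 1 => exact sup_le (sup_le (le_sup_of_le_left (le_sup_of_le_left le_sup_right))
      (le_sup_of_le_left le_sup_right)) le_sup_right
  | 2 => exact sup_le (le_sup_of_le_left le_sup_right) le_sup_right
  | 3 => exact le_sup_right
  | _ + 4 => exact le_rfl

omit D in
/-- A condition on a join holds if it holds on generators. -/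
theorem move_sup {g : MulAut E} {A B M : Subgroup E} [M.Normal] (hA : ∀ x ∈ A, x⁻¹ * g x ∈ M)
    (hB : ∀ x ∈ B, x⁻¹ * g x ∈ M) : ∀ x ∈ A ⊔ B, x⁻¹ * g x ∈ M := by
  let S : Subgroup E :=
    { carrier := {x | x⁻¹ * g x ∈ M}
      one_mem' := by show (1 : E)⁻¹ * g 1 ∈ M; rw [map_one, inv_one, one_mul]; exact one_mem _
      mul_mem' := fun {a b} ha hb => by
        show (a * b)⁻¹ * g (a * b) ∈ M
        rw [map_mul, show (a * b)⁻¹ * (g a * g b) = b⁻¹ * (a⁻¹ * g a) * b⁻¹⁻¹ * (b⁻¹ * g b) by group]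
        exact mul_mem ((inferInstance : M.Normal).conj_mem _ ha b⁻¹) hb
      inv_mem' := fun {a} ha => by
        show a⁻¹⁻¹ * g a⁻¹ ∈ M
        have h := (inferInstance : M.Normal).conj_mem _ (inv_mem ha) a
        rw [map_inv]
        simpa [mul_assoc] using h }
  exact fun x hx => (sup_le (fun a ha => hA a ha) (fun b hb => hB b hb) : A ⊔ B ≤ S) hx

theorem normal_of_inv (hE : E ∈ D.Ess) {L : Subgroup E} (hL : ∀ α ∈ D.A E, ∀ x ∈ L, α x ∈ L) : L.Normal :=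
  ⟨fun x hx g => by
    have h := hL _ (D.cj_mem hE (g : P)) x hx
    rwa [← D.conj_eq_cj hE g, MulAut.conj_apply] at h⟩

omit D in
theorem frattini_inv {α : MulAut E} {x : E} (hx : x ∈ frattini E) : α x ∈ frattini E :=
  (Subgroup.characteristic_iff_comap_eq.mp frattini_characteristic α).ge hx

omit D in
theorem sup_inv {α : MulAut E} {A B : Subgroup E} (hA : ∀ x ∈ A, α x ∈ A) (hB : ∀ x ∈ B, α x ∈ B) :
    ∀ x ∈ A ⊔ B, α x ∈ A ⊔ B := fun x hx =>
  (sup_le (fun a ha => show α a ∈ A ⊔ B from mem_sup_left (hA a ha))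
    (fun b hb => show α b ∈ A ⊔ B from mem_sup_right (hB b hb)) : A ⊔ B ≤ (A ⊔ B).comap α.toMonoidHom) hx

/-- An element stabilising a short invariant flag lies in the subgroup. -/
theorem mem_of_flag3 (hE : E ∈ D.Ess) {L₁ L₂ L₃ : Subgroup E} (i1 : ∀ α ∈ D.A E, ∀ x ∈ L₁, α x ∈ L₁)
    (i2 : ∀ α ∈ D.A E, ∀ x ∈ L₂, α x ∈ L₂) (i3 : ∀ α ∈ D.A E, ∀ x ∈ L₃, α x ∈ L₃) {g : P}
    (h0 : ∀ x : E, x⁻¹ * D.cj hE g x ∈ L₁ ⊔ L₂ ⊔ L₃ ⊔ frattini E)
    (h1 : ∀ x ∈ L₁, x⁻¹ * D.cj hE g x ∈ L₂ ⊔ L₃ ⊔ frattini E)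
    (h2 : ∀ x ∈ L₂, x⁻¹ * D.cj hE g x ∈ L₃ ⊔ frattini E)
    (h3 : ∀ x ∈ L₃, x⁻¹ * D.cj hE g x ∈ frattini E) : g ∈ E := by
  have j3 : ∀ α ∈ D.A E, ∀ x ∈ L₃ ⊔ frattini E, α x ∈ L₃ ⊔ frattini E :=
    fun α hα => sup_inv (i3 α hα) fun _ => frattini_inv
  have j2 : ∀ α ∈ D.A E, ∀ x ∈ L₂ ⊔ L₃ ⊔ frattini E, α x ∈ L₂ ⊔ L₃ ⊔ frattini E :=
    fun α hα => sup_inv (sup_inv (i2 α hα) (i3 α hα)) fun _ => frattini_inv
  have j1 : ∀ α ∈ D.A E, ∀ x ∈ L₁ ⊔ L₂ ⊔ L₃ ⊔ frattini E, α x ∈ L₁ ⊔ L₂ ⊔ L₃ ⊔ frattini E :=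
    fun α hα => sup_inv (sup_inv (sup_inv (i1 α hα) (i2 α hα)) (i3 α hα)) fun _ => frattini_inv
  haveI n3 := D.normal_of_inv hE j3
  haveI n2 := D.normal_of_inv hE j2
  have hΦ : ∀ x ∈ frattini E, x⁻¹ * D.cj hE g x ∈ frattini E := fun x hx => mul_mem (inv_mem hx) (frattini_inv hx)
  refine D.mem_of_flag hE (D.flag_antitone L₁ L₂ L₃) rfl (n := 4) le_rfl (fun i => ?_) (fun i => ?_)
  · match i with
    | 0 => exact fun α _ x _ => mem_top _
    | 1 => exact j1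
    | 2 => exact j2
    | 3 => exact j3
    | _ + 4 => exact fun α _ _ => frattini_inv
  · match i with
    | 0 => exact fun x _ => h0 x
    | 1 =>
      show ∀ x ∈ L₁ ⊔ L₂ ⊔ L₃ ⊔ frattini E, x⁻¹ * D.cj hE g x ∈ L₂ ⊔ L₃ ⊔ frattini E
      refine move_sup (move_sup (move_sup h1 fun x hx => ?_) fun x hx => ?_) fun x hx => mem_sup_right (hΦ x hx)
      · exact (sup_le (le_sup_of_le_left le_sup_right) le_sup_right :
          L₃ ⊔ frattini E ≤ L₂ ⊔ L₃ ⊔ frattini E) (h2 x hx)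
      · exact mem_sup_right (h3 x hx)
    | 2 =>
      show ∀ x ∈ L₂ ⊔ L₃ ⊔ frattini E, x⁻¹ * D.cj hE g x ∈ L₃ ⊔ frattini E
      exact move_sup (move_sup h2 fun x hx => mem_sup_right (h3 x hx)) fun x hx => mem_sup_right (hΦ x hx)
    | 3 =>
      show ∀ x ∈ L₃ ⊔ frattini E, x⁻¹ * D.cj hE g x ∈ frattini E
      exact move_sup h3 hΦ
    | _ + 4 => exact hΦ

/-- The version with a single middle term. -/
theorem mem_of_flag1 (hE : E ∈ D.Ess) {L : Subgroup E} (hL : ∀ α ∈ D.A E, ∀ x ∈ L, α x ∈ L) {g : P}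
    (h0 : ∀ x : E, x⁻¹ * D.cj hE g x ∈ L ⊔ frattini E) (h1 : ∀ x ∈ L, x⁻¹ * D.cj hE g x ∈ frattini E) : g ∈ E :=
  D.mem_of_flag3 hE hL (L₂ := ⊥) (L₃ := ⊥)
    (fun α _ x hx => by rw [mem_bot] at hx ⊢; rw [hx, map_one])
    (fun α _ x hx => by rw [mem_bot] at hx ⊢; rw [hx, map_one])
    (fun x => by simpa using h0 x) (fun x hx => by simpa using h1 x hx)
    (fun x hx => by rw [mem_bot] at hx; subst hx; simp)
    (fun x hx => by rw [mem_bot] at hx; subst hx; simp)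

end Sys

end CfsgLib.SectThree
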