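import Cfsg.Agent.Lib.SectThree.KeyMain

/-!
The degenerate frame, with trivial double commutator, contradicts the core hypothesis.
-/

set_option autoImplicit false
set_option linter.unusedSectionVars false
set_option linter.style.haveILetI false
set_option linter.deprecated false

namespace CfsgLib.SectThree

open Subgroup

variable {p : ℕ} [hpf : Fact p.Prime] {P : Type*} [Group P] [Finite P]

/-- An element of order `p` is a power of each of its nontrivial powers. -/
theorem exists_pow_pow_eq {G : Type*} [Group G] {g : G} (hg : g ^ p = 1) {a : ℕ} (ha : g ^ a ≠ 1) :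
    ∃ m : ℕ, (g ^ a) ^ m = g := by
  have hpa : ¬ p ∣ a := by
    rintro ⟨k, rfl⟩
    exact ha (by rw [pow_mul, hg, one_pow])
  obtain ⟨m, -, hm⟩ := Nat.exists_mul_mod_eq_one_of_coprime
    ((hpf.out.coprime_iff_not_dvd.mpr hpa).symm) hpf.out.one_lt
  exact ⟨m, by rw [← pow_mul, pow_eq_pow_mod _ hg, hm, pow_one]⟩

/-- A group of exponent `p` with commutators in a central line and a centre of index `p ^ 2`. -/
structure Flat (D : Sys p P) (c : P) : Prop where
  cen : c ∈ center P
  ne : c ≠ 1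
  exp : ∀ x : P, x ^ p = 1
  comm : ∀ a b : P, a * b * a⁻¹ * b⁻¹ ∈ zpowers c
  idx : (center P).index = p ^ 2
  cardZ : Nat.card (center P) = p ^ 2

namespace Flat

variable {D : Sys p P} {c : P} (F : Flat D c) {E : Subgroup P} (hE : E ∈ D.Ess)

include F hE

theorem relIndex_center : ((center P).subgroupOf E).index = p := by
  have h := relIndex_mul_index (D.center_le hE)
  rw [D.idx E hE, F.idx, pow_two] at h
  exact Nat.eq_of_mul_eq_mul_right hpf.out.pos h

theorem decomp {g : E} (hg : (g : P) ∉ center P) (x : E) :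
    ∃ (i : ℕ) (z : E), (z : P) ∈ center P ∧ x = g ^ i * z := by
  have hg1 : ((g : E) : E ⧸ (center P).subgroupOf E) ≠ 1 := fun h1 =>
    hg (mem_subgroupOf.mp ((QuotientGroup.eq_one_iff g).mp h1))
  obtain ⟨i, hi⟩ := mem_powers_iff_mem_zpowers.mpr
    (mem_zpowers_of_prime_card (G := E ⧸ (center P).subgroupOf E) (F.relIndex_center hE)
      (g' := (x : E ⧸ (center P).subgroupOf E)) hg1)
  refine ⟨i, (g ^ i)⁻¹ * x, mem_subgroupOf.mp ((QuotientGroup.eq).mp ?_), by rw [mul_inv_cancel_left]⟩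
  rw [QuotientGroup.mk_pow]
  exact hi

theorem comm_E (a b : E) : a * b = b * a := by
  by_cases ha : (a : P) ∈ center P
  · exact Subtype.ext (mem_center_iff.mp ha b).symm
  obtain ⟨i, z, hz, rfl⟩ := F.decomp hE ha b
  refine Subtype.ext ?_
  push_cast
  rw [← mul_assoc, ((Commute.refl (a : P)).pow_right i).eq, mul_assoc, mem_center_iff.mp hz, ← mul_assoc]

theorem fix_iff {y : P} (hy : y ∉ E) (x : E) : D.cj hE y x = x ↔ (x : P) ∈ center P := by
  refine ⟨fun h => mem_center_iff.mpr fun g => ?_, fun h => Subtype.ext ?_⟩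
  · obtain ⟨i, e, he, rfl⟩ := D.exists_pow_mul hE hy g
    have h1 : y * (x : P) * y⁻¹ = x := (D.coe_cj hE y x).symm.trans (congrArg Subtype.val h)
    have h2 : Commute y (x : P) := mul_inv_eq_iff_eq_mul.mp h1
    rw [mul_assoc, show e * (x : P) = x * e from congrArg Subtype.val (F.comm_E hE ⟨e, he⟩ x),
      ← mul_assoc, (h2.pow_left i).eq, mul_assoc]
  · rw [D.coe_cj, mem_center_iff.mp h y, mul_inv_cancel_right]

theorem c_mem : c ∈ E := D.center_le hE F.cen

theorem cj_mul (y : P) (x : E) : ∃ a : ℕ, D.cj hE y x = x * (⟨c, F.c_mem hE⟩ : E) ^ a := by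
  obtain ⟨a, ha⟩ := mem_powers_iff_mem_zpowers.mpr (F.comm y (x : P))
  refine ⟨a, Subtype.ext ?_⟩
  push_cast
  have ha' : c ^ a = y * x * y⁻¹ * (x : P)⁻¹ := ha
  rw [D.coe_cj, mem_center_iff.mp (pow_mem F.cen a) x, ha', inv_mul_cancel_right]

/-- Inner automorphisms are powers of the one given by an outside element. -/
theorem cj_eq_pow {y : P} (hy : y ∉ E) (g : P) : ∃ i : ℕ, D.cj hE g = D.cj hE y ^ i := by
  obtain ⟨i, e, he, rfl⟩ := D.exists_pow_mul hE hy g
  refine ⟨i, ?_⟩
  rw [map_mul, map_pow, show D.cj hE e = 1 from MulEquiv.ext fun x => Subtype.ext ?_, mul_one]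
  rw [D.coe_cj, show e * (x : P) = x * e from congrArg Subtype.val (F.comm_E hE ⟨e, he⟩ x), mul_inv_cancel_right]
  rfl

/-- An automorphism moving `c` inside the centre preserves the centre. -/
theorem preserve {α : MulAut E} (hα : α ∈ D.A E) (hαc : ((α ⟨c, F.c_mem hE⟩ : E) : P) ∈ center P) :
    ∀ x : E, (x : P) ∈ center P → ((α x : E) : P) ∈ center P := by
  set c' : E := ⟨c, F.c_mem hE⟩
  set Zs := (center P).subgroupOf E
  have hne : E ≠ ⊤ := fun h => hpf.out.one_lt.ne (by rw [← D.idx E hE, h, index_top])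
  obtain ⟨y, -, hy⟩ := SetLike.exists_of_lt (lt_of_le_of_ne (le_top : E ≤ ⊤) hne)
  set s := D.cj hE y with hs
  set d := α c'
  have hdZ : zpowers d ≤ Zs := zpowers_le.mpr (mem_subgroupOf.mpr hαc)
  let Q := D.A E ⊓ Cfsg.SmallCentre.stab (zpowers d) Zs hdZ
  have hsQ : s ∈ Q := by
    refine ⟨D.cj_mem hE y, fun x hx => (F.fix_iff hE hy x).mpr (mem_subgroupOf.mp (hdZ hx)), fun x hx => ?_,
      fun x => ?_⟩
    · rw [(F.fix_iff hE hy x).mpr (mem_subgroupOf.mp hx), inv_mul_cancel]; exact one_mem _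
    · obtain ⟨a, ha⟩ := F.cj_mul hE y x
      rw [ha, inv_mul_cancel_left]
      exact pow_mem (show c' ∈ Zs from mem_subgroupOf.mpr F.cen) a
  have htQ : α * s * α⁻¹ ∈ Q := by
    have hmv : ∀ x : E, x⁻¹ * (α * s * α⁻¹) x ∈ zpowers d := fun x => by
      obtain ⟨a, ha⟩ := F.cj_mul hE y (α⁻¹ x)
      rw [MulAut.mul_apply, MulAut.mul_apply, ha, map_mul, map_pow, MulAut.apply_inv_self, inv_mul_cancel_left]
      exact pow_mem (mem_zpowers d) a
    refine ⟨(D.A E).mul_mem ((D.A E).mul_mem hα (D.cj_mem hE y)) ((D.A E).inv_mem hα), fun x hx => ?_,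
      fun x _ => hmv x, fun x => hdZ (hmv x)⟩
    have hd : (α * s * α⁻¹) d = d := by
      rw [MulAut.mul_apply, MulAut.mul_apply, MulAut.inv_apply_self, (F.fix_iff hE hy c').mpr F.cen]
    obtain ⟨k, rfl⟩ := hx
    show (α * s * α⁻¹) (d ^ k) = d ^ k
    rw [map_zpow, hd]
  obtain ⟨g, hg⟩ := D.sylA E hE Q inf_le_left
    ((Cfsg.SmallCentre.isPGroup_stab (D.pg.to_subgroup E) hdZ).to_le inf_le_right)
    (fun g c₀ hc => by
      rw [← D.cj_eq hE hc]
      obtain ⟨i, hi⟩ := F.cj_eq_pow hE hy g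
      rw [hi]
      exact pow_mem hsQ i) _ htQ
  have ht := D.cj_eq hE hg
  have hback : ∀ x : E, (x : P) ∈ center P → ((α⁻¹ x : E) : P) ∈ center P := fun x hx => by
    have h1 : (α * s * α⁻¹) x = x := by
      rw [← ht]
      exact Subtype.ext (by rw [D.coe_cj, mem_center_iff.mp hx g, mul_inv_cancel_right])
    rw [MulAut.mul_apply, MulAut.mul_apply] at h1
    exact (F.fix_iff hE hy _).mp (α.injective (h1.trans (MulAut.apply_inv_self _ _ _).symm))
  have hle : Zs.map α⁻¹.toMonoidHom ≤ Zs := by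
    rintro _ ⟨x, hx, rfl⟩
    exact mem_subgroupOf.mpr (hback x (mem_subgroupOf.mp hx))
  have heq := eq_of_le_of_card_ge hle (card_map_of_injective (MulEquiv.injective α⁻¹)).ge
  intro x hx
  obtain ⟨v, hv, hvx⟩ := heq.ge (mem_subgroupOf.mpr hx : x ∈ Zs)
  rw [show α x = v by rw [← hvx]; exact MulAut.apply_inv_self _ _ _]
  exact mem_subgroupOf.mp hv

/-- An automorphism either preserves the centre or gives an involution fixing the common part. -/
theorem preserve_or_torus {α : MulAut E} (hα : α ∈ D.A E) :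
    (∀ x : E, (x : P) ∈ center P → ((α x : E) : P) ∈ center P) ∨
    ((∃ β ∈ D.B, β c = c⁻¹ ∧
        ∀ x : E, (x : P) ∈ center P → ((α⁻¹ x : E) : P) ∈ center P → β x = x) ∧
      ∀ x ∈ center P, ∃ (j : ℕ) (x₂ : E), (x₂ : P) ∈ center P ∧ ((α⁻¹ x₂ : E) : P) ∈ center P ∧
        x = c ^ j * x₂) := by
  classical
  set c' : E := ⟨c, F.c_mem hE⟩ with hc'
  have hcp : c' ^ p = 1 := Subtype.ext (F.exp c)
  by_cases h1 : ((α c' : E) : P) ∈ center P
  · exact Or.inl (F.preserve hE hα h1)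
  by_cases h2 : ((α⁻¹ c' : E) : P) ∈ center P
  · refine Or.inl fun x hx => ?_
    have hle : ((center P).subgroupOf E).map α⁻¹.toMonoidHom ≤ (center P).subgroupOf E := by
      rintro _ ⟨v, hv, rfl⟩
      exact mem_subgroupOf.mpr (F.preserve hE ((D.A E).inv_mem hα) h2 v (mem_subgroupOf.mp hv))
    obtain ⟨v, hv, hvx⟩ := (eq_of_le_of_card_ge hle (card_map_of_injective (MulEquiv.injective α⁻¹)).ge).ge
      (mem_subgroupOf.mpr hx)
    rw [show α x = v by rw [← hvx]; exact MulAut.apply_inv_self _ _ _]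
    exact mem_subgroupOf.mp hv
  refine Or.inr ⟨?_, fun x hx => ?_⟩
  · have hne : E ≠ ⊤ := fun h => hpf.out.one_lt.ne (by rw [← D.idx E hE, h, index_top])
    obtain ⟨y, -, hy⟩ := SetLike.exists_of_lt (lt_of_le_of_ne (le_top : E ≤ ⊤) hne)
    set s := D.cj hE y with hs
    set t := α * s * α⁻¹ with ht
    set d := α c' with hd
    have hsc : s c' = c' := (F.fix_iff hE hy c').mpr F.cen
    obtain ⟨a, ha⟩ := F.cj_mul hE y d
    have ha1 : c' ^ a ≠ 1 := fun h0 => h1 ((F.fix_iff hE hy d).mp (by rw [ha, h0, mul_one]))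
    obtain ⟨m, hm⟩ := exists_pow_pow_eq hcp ha1
    set d1 := d ^ m with hd1
    have hcm : ∀ u v : E, Commute u v := F.comm_E hE
    have hsd1 : s d1 = d1 * c' := by rw [hd1, map_pow, ha, (hcm _ _).mul_pow, hm]
    obtain ⟨b, hb⟩ := F.cj_mul hE y (α⁻¹ c')
    have htc : t c' = c' * d ^ b := by
      rw [ht, MulAut.mul_apply, MulAut.mul_apply, hb, map_mul, map_pow, MulAut.apply_inv_self]
    have hdp : d ^ p = 1 := by rw [hd, ← map_pow, hcp, map_one]
    have hb1 : d ^ b ≠ 1 := fun h0 => h2 ((F.fix_iff hE hy _).mp (by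
      rw [hb, show c' ^ b = 1 from α.injective (by rw [map_pow, map_one]; exact h0), mul_one]))
    obtain ⟨m', hm'⟩ := exists_pow_pow_eq hdp hb1
    have htd : t d = d := by
      rw [ht, MulAut.mul_apply, MulAut.mul_apply, hd, MulAut.inv_apply_self, hsc]
    obtain ⟨r, hr⟩ : ∃ r : ℕ, d ^ r = d1⁻¹ :=
      mem_powers_iff_mem_zpowers.mpr (inv_mem (pow_mem (mem_zpowers d) m))
    have htn : ∀ n : ℕ, (t ^ n) c' = c' * (d ^ b) ^ n ∧ (t ^ n) d = d := by
      intro n
      induction n with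
      | zero => simp
      | succ n ih =>
        refine ⟨?_, ?_⟩
        · rw [pow_succ', MulAut.mul_apply, ih.1, map_mul, map_pow, map_pow, htd, htc, pow_succ', mul_assoc]
        · rw [pow_succ', MulAut.mul_apply, ih.2, htd]
    obtain ⟨htc1, htd0⟩ := htn (m' * r)
    rw [pow_mul (d ^ b), hm', hr] at htc1
    set t' := t ^ (m' * r)
    have htd1 : t' d1 = d1 := by rw [hd1, map_pow, htd0]
    set w := s * t' * s with hw
    have hwc : w c' = d1⁻¹ := by
      rw [hw, MulAut.mul_apply, MulAut.mul_apply, hsc, htc1, map_mul, map_inv, hsc, hsd1, mul_inv_rev,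
        mul_inv_cancel_left]
    have hwd : w d1 = c' := by
      rw [hw, MulAut.mul_apply, MulAut.mul_apply, hsd1, map_mul, htd1, htc1, (hcm c' d1⁻¹).eq,
        mul_inv_cancel_left, hsc]
    have hwA : w ∈ D.A E :=
      (D.A E).mul_mem ((D.A E).mul_mem (D.cj_mem hE y) ((D.A E).pow_mem
        ((D.A E).mul_mem ((D.A E).mul_mem hα (D.cj_mem hE y)) ((D.A E).inv_mem hα)) _)) (D.cj_mem hE y)
    have hτc : (w * w) c' = c'⁻¹ := by rw [MulAut.mul_apply, hwc, map_inv, hwd]
    have hτd : (w * w) d1 = d1⁻¹ := by rw [MulAut.mul_apply, hwd, hwc]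
    have hτfix : ∀ x : E, (x : P) ∈ center P → ((α⁻¹ x : E) : P) ∈ center P → (w * w) x = x := by
      intro x hx hx'
      have hsx : s x = x := (F.fix_iff hE hy x).mpr hx
      have htx : t x = x := by
        rw [ht, MulAut.mul_apply, MulAut.mul_apply, (F.fix_iff hE hy _).mpr hx', MulAut.apply_inv_self]
      have htx' : t' x = x := by
        have : ∀ n : ℕ, (t ^ n) x = x := by
          intro n
          induction n with
          | zero => simp
          | succ n ih => rw [pow_succ', MulAut.mul_apply, ih, htx]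
        exact this _
      have hwx : w x = x := by rw [hw, MulAut.mul_apply, MulAut.mul_apply, hsx, htx', hsx]
      rw [MulAut.mul_apply, hwx, hwx]
    have hd1Z : (d1 : P) ∉ center P := fun h0 => by
      have h3 := (F.fix_iff hE hy d1).mpr h0
      rw [← hs, hsd1, mul_eq_left] at h3
      exact F.ne (congrArg Subtype.val h3)
    have hdec : ∀ x : E, ∃ (i j : ℕ) (x₂ : E), (x₂ : P) ∈ center P ∧ ((α⁻¹ x₂ : E) : P) ∈ center P ∧
        x = d1 ^ i * c' ^ j * x₂ := by
      intro x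
      obtain ⟨i, z, hz, rfl⟩ := F.decomp hE hd1Z x
      obtain ⟨j, z', hz', hzz⟩ := F.decomp hE h2 (α⁻¹ z)
      have hz2 : z = c' ^ j * α z' := by
        rw [← MulAut.apply_inv_self _ α z, hzz, map_mul, map_pow, MulAut.apply_inv_self]
      refine ⟨i, j, α z', ?_, by rw [MulAut.inv_apply_self]; exact hz', by rw [mul_assoc, ← hz2]⟩
      rw [show α z' = (c' ^ j)⁻¹ * z by rw [hz2, inv_mul_cancel_left]]
      exact (center P).mul_mem ((center P).inv_mem ((center P).pow_mem F.cen j)) hz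
    have hcomm : ∀ x, (w * w) (s x) = s ((w * w) x) := by
      intro x
      obtain ⟨i, j, x₂, hx₂, hx₂', rfl⟩ := hdec x
      have hs2 : s x₂ = x₂ := (F.fix_iff hE hy x₂).mpr hx₂
      simp only [map_mul, map_pow, hsd1, hsc, hs2, hτd, hτc, hτfix x₂ hx₂ hx₂', map_inv]
      rw [mul_inv_rev, (hcm c'⁻¹ d1⁻¹).eq]
    obtain ⟨β, hβ, hβ'⟩ := D.extB E hE (w * w) ((D.A E).mul_mem hwA hwA) fun g c₀ hc => by
      refine ⟨g, fun e => ?_⟩
      obtain ⟨i, hi⟩ := F.cj_eq_pow hE hy g
      have he : w * w * c₀ * (w * w)⁻¹ = c₀ := by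
        rw [← D.cj_eq hE hc, hi]
        have hcs : Commute (w * w) s := MulEquiv.ext fun x => hcomm x
        rw [(hcs.pow_right i).eq, mul_inv_cancel_right]
      rw [he]
      exact hc e
    refine ⟨β, hβ, ?_, fun x hx hx' => ?_⟩
    · rw [show c = (c' : P) from rfl, hβ' c', hτc, Subgroup.coe_inv]
    · rw [hβ' x, hτfix x hx hx']
  · obtain ⟨j, z', hz', hzz⟩ := F.decomp hE h2 (α⁻¹ ⟨x, D.center_le hE hx⟩)
    have hz2 : (⟨x, D.center_le hE hx⟩ : E) = c' ^ j * α z' := by
      rw [← MulAut.apply_inv_self _ α ⟨x, D.center_le hE hx⟩, hzz, map_mul, map_pow, MulAut.apply_inv_self]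
    refine ⟨j, α z', ?_, by rw [MulAut.inv_apply_self]; exact hz', congrArg Subtype.val hz2⟩
    rw [show α z' = (c' ^ j)⁻¹ * ⟨x, D.center_le hE hx⟩ by rw [hz2, inv_mul_cancel_left]]
    exact (center P).mul_mem ((center P).inv_mem ((center P).pow_mem F.cen j)) hx

omit hE

theorem false (hEss : D.Ess.Nonempty) : False := by
  classical
  have hpp : p.Prime := hpf.out
  obtain ⟨E₀, hE₀⟩ := hEss
  -- an automorphism moving the centre
  obtain ⟨α₀, hα₀, hmove⟩ : ∃ α ∈ D.A E₀, ¬ ∀ x : E₀, (x : P) ∈ center P → ((α x : E₀) : P) ∈ center P := by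
    by_contra hno
    push Not at hno
    have hne : E₀ ≠ ⊤ := fun h => hpp.one_lt.ne (by rw [← D.idx E₀ hE₀, h, index_top])
    obtain ⟨y, -, hy⟩ := SetLike.exists_of_lt (lt_of_le_of_ne (le_top : E₀ ≤ ⊤) hne)
    refine hy (D.mem_of_series hE₀ (L := (center P).subgroupOf E₀) (W := (center P).subgroupOf E₀) le_rfl
      (fun α hα x hx => mem_subgroupOf.mpr (hno α hα x (mem_subgroupOf.mp hx)))
      (fun α hα x hx => mem_subgroupOf.mpr (hno α hα x (mem_subgroupOf.mp hx)))
      (fun x hx => (F.fix_iff hE₀ hy x).mpr (mem_subgroupOf.mp hx)) (fun x hx => ?_) fun x => ?_)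
    · rw [(F.fix_iff hE₀ hy x).mpr (mem_subgroupOf.mp hx), inv_mul_cancel]; exact one_mem _
    · obtain ⟨a, ha⟩ := F.cj_mul hE₀ y x
      rw [ha, inv_mul_cancel_left]
      exact mem_subgroupOf.mpr ((center P).pow_mem F.cen a)
  obtain ⟨⟨β₀, hβ₀, hβ₀c, hβ₀fix⟩, hdec₀⟩ := (F.preserve_or_torus hE₀ hα₀).resolve_left hmove
  -- automorphisms on the centre
  have hBc : ∀ β ∈ D.B, β c ∈ zpowers c := by
    intro β _
    obtain ⟨a, b, hab⟩ : ∃ a b : P, a * b * a⁻¹ * b⁻¹ ≠ 1 := by
      by_contra hno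
      push Not at hno
      have h1 : center P = ⊤ := eq_top_iff.mpr fun x _ => mem_center_iff.mpr fun g => by
        have h2 := hno g x
        rwa [mul_inv_eq_one, mul_inv_eq_iff_eq_mul] at h2
      have h3 := F.idx
      rw [h1, index_top] at h3
      exact (Nat.one_lt_pow two_ne_zero hpp.one_lt).ne h3
    obtain ⟨k, hk⟩ := mem_powers_iff_mem_zpowers.mpr (F.comm a b)
    have hk' : c ^ k = a * b * a⁻¹ * b⁻¹ := hk
    obtain ⟨m, hm⟩ := exists_pow_pow_eq (F.exp c) (a := k) (by rw [hk']; exact hab)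
    have h5 : β (c ^ k) ∈ zpowers c := by
      rw [hk', map_mul, map_mul, map_mul, map_inv, map_inv]
      exact F.comm (β a) (β b)
    have h6 := pow_mem h5 m
    rwa [← map_pow, hm] at h6
  have hBz : ∀ β : MulAut P, ∀ x ∈ center P, β x ∈ center P := fun β x hx => mem_center_iff.mpr fun g => by
    rw [← MulAut.apply_inv_self _ β g, ← map_mul, ← map_mul, mem_center_iff.mp hx]
  let r : D.B →* MulAut (center P) :=
    { toFun := fun β =>
        { toFun := fun x => ⟨(β : MulAut P) x, hBz _ x x.2⟩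
          invFun := fun x => ⟨(β : MulAut P)⁻¹ x, hBz _ x x.2⟩
          left_inv := fun x => Subtype.ext (MulAut.inv_apply_self _ _ _)
          right_inv := fun x => Subtype.ext (MulAut.apply_inv_self _ _ _)
          map_mul' := fun x x' => Subtype.ext (map_mul (β : MulAut P) _ _) }
      map_one' := rfl
      map_mul' := fun _ _ => rfl }
  have hrp : ¬ p ∣ Nat.card r.range := by
    intro hdvd
    refine D.sylB (hdvd.trans ?_)
    rw [← Nat.card_congr (QuotientGroup.quotientKerEquivRange r).toEquiv, ← Subgroup.index_eq_card]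
    refine Subgroup.index_dvd_of_le ?_
    rintro ⟨_, hb⟩ ⟨g, rfl⟩
    refine MonoidHom.mem_ker.mpr (MulEquiv.ext fun x => Subtype.ext ?_)
    show g * (x : P) * g⁻¹ = x
    rw [mem_center_iff.mp x.2 g, mul_inv_cancel_right]
  -- a generator next to `c`
  set cz : center P := ⟨c, F.cen⟩
  have hcz : cz ^ p = 1 := Subtype.ext (F.exp c)
  have hcidx : (zpowers cz).index = p := by
    have h := (zpowers cz).card_mul_index
    rw [Nat.card_zpowers, orderOf_eq_prime hcz (fun h0 => F.ne (congrArg Subtype.val h0)), F.cardZ, pow_two] at h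
    exact Nat.eq_of_mul_eq_mul_left hpp.pos h
  haveI : (zpowers cz).Normal := ⟨fun n hn g => by
    rwa [show g * n * g⁻¹ = n from Subtype.ext (by
      push_cast; rw [mem_center_iff.mp n.2 g, mul_inv_cancel_right])]⟩
  have hne0 : zpowers cz ≠ ⊤ := fun h => hpp.one_lt.ne (by rw [← hcidx, h, index_top])
  obtain ⟨u₀, -, hu₀⟩ := SetLike.exists_of_lt (lt_of_le_of_ne (le_top : zpowers cz ≤ ⊤) hne0)
  obtain ⟨j₀, u', hu'Z, hu'', hu0e⟩ := hdec₀ _ u₀.2
  set u : center P := ⟨(u' : P), hu'Z⟩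
  have hu : u ∉ zpowers cz := fun h => hu₀ (by
    rw [show u₀ = cz ^ j₀ * u from Subtype.ext hu0e]
    exact mul_mem (pow_mem (mem_zpowers _) _) h)
  have hZdec : ∀ v : center P, v ∉ zpowers cz → ∀ x : center P, ∃ i j : ℕ, x = cz ^ i * v ^ j := by
    intro v hv x
    obtain ⟨j, hj⟩ := mem_powers_iff_mem_zpowers.mpr (mem_zpowers_of_prime_card (G := center P ⧸ zpowers cz)
      hcidx (g' := (x : center P ⧸ zpowers cz)) (fun h1 => hv ((QuotientGroup.eq_one_iff v).mp h1)))
    obtain ⟨i, hi⟩ := mem_powers_iff_mem_zpowers.mpr ((QuotientGroup.eq).mp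
      (show ((v ^ j : center P) : center P ⧸ zpowers cz) = x by rw [QuotientGroup.mk_pow]; exact hj))
    exact ⟨i, j, Subtype.ext (by
      have hi' : cz ^ i = (v ^ j)⁻¹ * x := hi
      push_cast
      rw [← mem_center_iff.mp (pow_mem F.cen i) ((v : P) ^ j), show c ^ i = ((cz ^ i : center P) : P) from rfl, hi']
      push_cast
      rw [mul_inv_cancel_left])⟩
  -- elements preserving both lines commute
  have hab : ∀ β β' : D.B, r β * r β' = r β' * r β := by
    intro β β'
    have hscal : ∀ γ : D.B, ∃ k : ℕ, r γ cz = cz ^ k := fun γ => by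
      obtain ⟨k, hk⟩ := mem_powers_iff_mem_zpowers.mpr (hBc _ γ.2)
      exact ⟨k, Subtype.ext (by push_cast; exact hk.symm)⟩
    obtain ⟨k, hk⟩ := hscal β
    obtain ⟨k', hk'⟩ := hscal β'
    obtain ⟨a, b, hb⟩ := hZdec u hu (r β u)
    obtain ⟨a', b', hb'⟩ := hZdec u hu (r β' u)
    set φ := r β * r β' * (r β' * r β)⁻¹ with hφ
    suffices hφ1 : φ = 1 by rwa [hφ, mul_inv_eq_one] at hφ1
    have hφψ : ∀ x, φ ((r β' * r β) x) = (r β * r β') x := fun x => by
      rw [hφ, MulAut.mul_apply, MulAut.inv_apply_self]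
    set e₂ := (r β' * r β) cz with he₂
    have he₂' : e₂ = cz ^ (k * k') := by
      rw [he₂, MulAut.mul_apply, hk, map_pow, hk', ← pow_mul, mul_comm]
    have hφe : φ e₂ = e₂ := by
      rw [he₂, hφψ, MulAut.mul_apply, MulAut.mul_apply, hk, hk', map_pow, map_pow, hk, hk', ← pow_mul, ← pow_mul,
        mul_comm]
    obtain ⟨m, hm⟩ : ∃ m : ℕ, e₂ ^ m = cz := by
      obtain ⟨m, hm⟩ := exists_pow_pow_eq hcz (a := k * k') (fun h0 => by
        rw [← he₂', he₂] at h0
        exact F.ne (congrArg Subtype.val ((map_eq_one_iff _ (MulEquiv.injective (r β' * r β))).mp h0)))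
      exact ⟨m, by rw [he₂', hm]⟩
    have hφc : φ cz = cz := by rw [← hm, map_pow, hφe]
    set v := (r β' * r β) u with hv
    have hvn : v ∉ zpowers cz := by
      intro hmem
      obtain ⟨e, he⟩ := mem_powers_iff_mem_zpowers.mpr hmem
      have he' : cz ^ e = v := he
      refine hu ?_
      have h1 : u = cz ^ (m * e) := MulEquiv.injective (r β' * r β) (by
        rw [← hv, ← he', map_pow, ← he₂, pow_mul, hm])
      rw [h1]
      exact pow_mem (mem_zpowers _) _
    obtain ⟨e, he⟩ : ∃ e : ℕ, φ v = cz ^ e * v := by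
      have hmk : ∀ n : ℕ, ((cz ^ n : center P) : center P ⧸ zpowers cz) = 1 := fun n =>
        (QuotientGroup.eq_one_iff _).mpr (pow_mem (mem_zpowers _) n)
      have h3 : ((φ v : center P) : center P ⧸ zpowers cz) = (v : center P ⧸ zpowers cz) := by
        rw [hv, hφψ, MulAut.mul_apply, MulAut.mul_apply, hb, hb', map_mul, map_mul, map_pow, map_pow, map_pow,
          map_pow, hk, hk', hb, hb']
        simp only [← pow_mul, QuotientGroup.mk_mul, QuotientGroup.mk_pow,
          (QuotientGroup.eq_one_iff cz).mpr (mem_zpowers _), one_pow, one_mul]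
        rw [mul_comm b']
      obtain ⟨e, he⟩ := mem_powers_iff_mem_zpowers.mpr ((QuotientGroup.eq).mp h3.symm)
      exact ⟨e, by
        have he' : cz ^ e = v⁻¹ * φ v := he
        rw [he']
        exact Subtype.ext (by push_cast; rw [mul_assoc, mem_center_iff.mp v.2 (φ v : P), inv_mul_cancel_left])⟩
    have hn : ∀ n : ℕ, (φ ^ n) v = cz ^ (n * e) * v ∧ (φ ^ n) cz = cz := by
      intro n
      induction n with
      | zero => simp
      | succ n ih =>
        refine ⟨?_, ?_⟩
        · rw [pow_succ', MulAut.mul_apply, ih.1, map_mul, map_pow, hφc, he, ← mul_assoc, ← pow_add, Nat.succ_mul]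
        · rw [pow_succ', MulAut.mul_apply, ih.2, hφc]
    have hφp : φ ^ p = 1 := MulEquiv.ext fun x => by
      obtain ⟨i, j, rfl⟩ := hZdec v hvn x
      obtain ⟨h1, h2⟩ := hn p
      rw [map_mul, map_pow, map_pow, h1, h2, pow_mul, hcz, one_pow, one_mul]
      rfl
    refine orderOf_eq_one_iff.mp ((Nat.dvd_prime hpp).mp (orderOf_dvd_of_pow_eq_one hφp) |>.resolve_right fun h => hrp ?_)
    have hmem : φ ∈ r.range := r.range.mul_mem (r.range.mul_mem ⟨β, rfl⟩ ⟨β', rfl⟩)
      (r.range.inv_mem (r.range.mul_mem ⟨β', rfl⟩ ⟨β, rfl⟩))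
    have h9 := Subgroup.orderOf_dvd_natCard _ hmem
    rwa [h] at h9
  -- the fixed line
  let L : Subgroup P := center P ⊓ MonoidHom.eqLocus β₀.toMonoidHom (MonoidHom.id P)
  have hmemL : ∀ {x : P}, x ∈ L ↔ x ∈ center P ∧ β₀ x = x := Iff.rfl
  have hLinv : ∀ β ∈ D.B, ∀ x ∈ L, β x ∈ L := by
    intro β hβ x hx
    rw [hmemL] at hx ⊢
    refine ⟨hBz β x hx.1, ?_⟩
    have h1 := congrArg (fun f : MulAut (center P) => ((f ⟨x, hx.1⟩ : center P) : P)) (hab ⟨β₀, hβ₀⟩ ⟨β, hβ⟩)
    have h1' : β₀ (β x) = β (β₀ x) := h1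
    rw [h1', hx.2]
  have hcL : ∀ j : ℕ, c ^ j ∈ L → c ^ j = 1 := by
    intro j hj
    have h1 := (hmemL.mp hj).2
    rw [map_pow, hβ₀c, inv_pow, inv_eq_iff_mul_eq_one, ← pow_two] at h1
    have h2 : orderOf (c ^ j) ∣ 2 := orderOf_dvd_of_pow_eq_one h1
    have h3 : orderOf (c ^ j) ∣ p := orderOf_dvd_of_pow_eq_one (by rw [← pow_mul, mul_comm, pow_mul, F.exp, one_pow])
    rcases (Nat.dvd_prime hpp).mp h3 with h4 | h4
    · exact orderOf_eq_one_iff.mp h4
    · rw [h4] at h2
      exact absurd ((Nat.prime_dvd_prime_iff_eq hpp Nat.prime_two).mp h2) D.odd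
  have huL : (u : P) ∈ L := hmemL.mpr ⟨u.2, hβ₀fix u' hu'Z hu''⟩
  have hune : (u : P) ≠ 1 := fun h => hu (by rw [show u = 1 from Subtype.ext h]; exact one_mem _)
  refine D.core L (fun h => hune (mem_bot.mp (h ▸ huL))) ⟨fun x hx g => ?_⟩ hLinv fun K hK => ?_
  · rw [mem_center_iff.mp hx.1 g, mul_inv_cancel_right]; exact hx
  refine ⟨inf_le_left.trans (D.center_le hK), ?_⟩
  have horb : ∀ α ∈ D.A K, ∀ x : K, (x : P) ∈ L → ((α x : K) : P) ∈ center P := by
    intro α hα x hx
    rcases F.preserve_or_torus hK ((D.A K).inv_mem hα) with h | ⟨⟨β, hβ, hβc, hβfix⟩, hdec⟩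
    · have hle : ((center P).subgroupOf K).map α⁻¹.toMonoidHom ≤ (center P).subgroupOf K := by
        rintro _ ⟨v, hv, rfl⟩
        exact mem_subgroupOf.mpr (h v (mem_subgroupOf.mp hv))
      obtain ⟨v, hv, hvx⟩ := (eq_of_le_of_card_ge hle (card_map_of_injective (MulEquiv.injective α⁻¹)).ge).ge
        (mem_subgroupOf.mpr hx.1 : x ∈ (center P).subgroupOf K)
      rw [show α x = v by rw [← hvx]; exact MulAut.apply_inv_self _ _ _]
      exact mem_subgroupOf.mp hv
    obtain ⟨j, x₂, hx₂, hx₂', hxe⟩ := hdec x hx.1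
    have h2 := (hmemL.mp (hLinv β hβ x hx))
    have h3 : β x = (c ^ j)⁻¹ * x₂ := by rw [hxe, map_mul, map_pow, hβc, inv_pow, hβfix x₂ hx₂ hx₂']
    have h4 : c ^ (2 * j) ∈ L := by
      have e : c ^ (2 * j) = (x : P) * (β x)⁻¹ := by
        rw [h3, hxe, mul_inv_rev, inv_inv, two_mul, pow_add]
        rw [show c ^ j * (x₂ : P) * ((x₂ : P)⁻¹ * c ^ j) = c ^ j * c ^ j by group]
      rw [e]
      exact L.mul_mem hx (L.inv_mem (hLinv β hβ x hx))
    have h5 := hcL _ h4
    have h6 : c ^ j = 1 := by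
      rw [← orderOf_dvd_iff_pow_eq_one, orderOf_eq_prime (F.exp c) F.ne] at h5 ⊢
      exact ((Nat.coprime_primes hpp Nat.prime_two).mpr D.odd).dvd_of_dvd_mul_left h5
    rw [h6, one_mul] at hxe
    rw [show x = x₂ from Subtype.ext hxe]
    rw [inv_inv] at hx₂'
    exact hx₂'
  -- the orbit
  let M : Subgroup K := closure {z | ∃ α ∈ D.A K, ∃ x : K, (x : P) ∈ L ∧ α x = z}
  have hMZ : ∀ z ∈ M, (z : P) ∈ center P := fun z hz => by
    have hle : M ≤ (center P).subgroupOf K := by
      rw [closure_le]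
      rintro _ ⟨α, hα, x, hx, rfl⟩
      exact mem_subgroupOf.mpr (horb α hα x hx)
    exact mem_subgroupOf.mp (hle hz)
  have hMinv : ∀ α ∈ D.A K, ∀ z ∈ M, α z ∈ M := by
    intro α hα z hz
    have hle : M ≤ M.comap α.toMonoidHom := by
      rw [closure_le]
      rintro _ ⟨α', hα', x, hx, rfl⟩
      exact subset_closure ⟨α * α', (D.A K).mul_mem hα hα', x, hx, rfl⟩
    exact hle hz
  intro α hα x hx
  by_contra hout
  have hz : α x ∈ M := subset_closure ⟨α, hα, x, hx, rfl⟩
  obtain ⟨i, j, hij⟩ := hZdec u hu ⟨_, hMZ _ hz⟩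
  have hij' : ((α x : K) : P) = c ^ i * (u : P) ^ j := congrArg Subtype.val hij
  have hci : c ^ i ≠ 1 := fun h0 => hout (by rw [hij', h0, one_mul]; exact L.pow_mem huL j)
  obtain ⟨n, hn⟩ := exists_pow_pow_eq (F.exp c) hci
  have hcM : (⟨c, F.c_mem hK⟩ : K) ∈ M := by
    have huM : (⟨(u : P), D.center_le hK u.2⟩ : K) ∈ M := subset_closure ⟨1, one_mem _, _, huL, rfl⟩
    have e : (⟨c, F.c_mem hK⟩ : K) = (α x * ((⟨(u : P), D.center_le hK u.2⟩ : K) ^ j)⁻¹) ^ n := Subtype.ext (by
      push_cast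
      rw [hij', mul_inv_cancel_right, hn])
    rw [e]
    exact M.pow_mem (M.mul_mem hz (M.inv_mem (M.pow_mem huM j))) n
  have hne : K ≠ ⊤ := fun h => hpp.one_lt.ne (by rw [← D.idx K hK, h, index_top])
  obtain ⟨y, -, hy⟩ := SetLike.exists_of_lt (lt_of_le_of_ne (le_top : K ≤ ⊤) hne)
  refine hy (D.mem_of_series hK (L := M) (W := M) le_rfl hMinv hMinv
    (fun z hz => (F.fix_iff hK hy z).mpr (hMZ z hz)) (fun z hz => ?_) fun z => ?_)
  · rw [(F.fix_iff hK hy z).mpr (hMZ z hz), inv_mul_cancel]; exact one_mem _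
  · obtain ⟨a, ha⟩ := F.cj_mul hK y z
    rw [ha, inv_mul_cancel_left]
    exact M.pow_mem hcM a

end Flat

namespace KeyData

variable {D : Sys p P} {E : Subgroup P} {y : P} (K : KeyData D E y)

include K

theorem flat (hz : K.z = 1) : Flat D K.c := by
  have hpp : p.Prime := hpf.out
  have hyd : y * K.d = K.c * K.d * y := by rw [← K.yd]; group
  have hcd : K.c * K.d = K.d * K.c := by
    have h := K.cd'
    rwa [hz, one_mul] at h
  have hcen : K.c ∈ center P := mem_center_iff.mpr fun g => by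
    have h := K.mem_of_gen (M := centralizer ({K.c} : Set P)) (mem_centralizer_singleton_iff.mpr K.yc)
      (mem_centralizer_singleton_iff.mpr rfl) (mem_centralizer_singleton_iff.mpr hcd.symm)
      (fun u hu => mem_centralizer_singleton_iff.mpr (K.cC u hu).symm) g
    exact mem_centralizer_singleton_iff.mp h
  haveI : (zpowers K.c).Normal := ⟨fun n hn g => by
    obtain ⟨k, rfl⟩ := hn
    rw [mem_center_iff.mp (zpow_mem hcen k) g, mul_inv_cancel_right]
    exact zpow_mem (mem_zpowers _) k⟩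
  have hcomm : ∀ a b : P, a * b * a⁻¹ * b⁻¹ ∈ zpowers K.c := by
    intro a b
    let π := QuotientGroup.mk' (zpowers K.c)
    have hc1 : π K.c = 1 := (QuotientGroup.eq_one_iff _).mpr (mem_zpowers _)
    have hC : ∀ u ∈ K.C, ∀ g, π g * π u = π u * π g := fun u hu g => by
      rw [← map_mul, ← map_mul, mem_center_iff.mp (K.C_le_center hu) g]
    have hy : ∀ g, π g * π y = π y * π g := fun g => by
      have h := K.mem_of_gen (M := (centralizer ({π y} : Set _)).comap π) (mem_centralizer_singleton_iff.mpr rfl)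
        (mem_centralizer_singleton_iff.mpr (by rw [hc1, one_mul, mul_one]))
        (mem_centralizer_singleton_iff.mpr (by rw [← map_mul π y, hyd, map_mul, map_mul, hc1, one_mul]))
        (fun u hu => mem_centralizer_singleton_iff.mpr (hC u hu y).symm) g
      exact mem_centralizer_singleton_iff.mp h
    have hd : ∀ g, π g * π K.d = π K.d * π g := fun g => by
      have h := K.mem_of_gen (M := (centralizer ({π K.d} : Set _)).comap π)
        (mem_centralizer_singleton_iff.mpr (hy K.d).symm)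
        (mem_centralizer_singleton_iff.mpr (by rw [hc1, one_mul, mul_one]))
        (mem_centralizer_singleton_iff.mpr rfl)
        (fun u hu => mem_centralizer_singleton_iff.mpr (hC u hu K.d).symm) g
      exact mem_centralizer_singleton_iff.mp h
    have hab : π a * π b = π b * π a := by
      have h := K.mem_of_gen (M := (centralizer ({π b} : Set _)).comap π)
        (mem_centralizer_singleton_iff.mpr (hy b).symm)
        (mem_centralizer_singleton_iff.mpr (by rw [hc1, one_mul, mul_one]))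
        (mem_centralizer_singleton_iff.mpr (hd b).symm)
        (fun u hu => mem_centralizer_singleton_iff.mpr (hC u hu b).symm) a
      exact mem_centralizer_singleton_iff.mp h
    rw [← QuotientGroup.eq_one_iff]
    show π (a * b * a⁻¹ * b⁻¹) = 1
    rw [map_mul, map_mul, map_mul, hab]
    simp
  have hexp : ∀ x : P, x ^ p = 1 := fun x => by
    obtain ⟨v, hv, k, hk⟩ := K.pow_mem_agemo x
    rw [hk, hz, one_pow, one_mul, K.C_pow v hv]
  have hnc : ¬ ∀ a b : P, a * b = b * a := fun h => K.not_comm (h y K.d)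
  have hW : zpowers K.c ⊔ K.C ≤ center P := sup_le (zpowers_le.mpr hcen) K.C_le_center
  have hlt : K.C < zpowers K.c ⊔ K.C :=
    lt_of_le_of_ne le_sup_right fun e => K.c_notMem (e.ge (mem_sup_left (mem_zpowers _)))
  obtain ⟨a, -, ha⟩ := (Nat.dvd_prime_pow hpp).mp (K.card_P ▸ card_subgroup_dvd_card (center P))
  have h1 : p < Nat.card (center P) := by
    refine lt_of_lt_of_le ?_ (Subgroup.card_le_of_le hW)
    have h9 : Nat.card K.C < Nat.card (zpowers K.c ⊔ K.C : Subgroup P) :=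
      lt_of_le_of_ne (Subgroup.card_le_of_le hlt.le) fun e => hlt.ne (eq_of_le_of_card_ge hlt.le e.ge)
    rwa [K.card_C] at h9
  have h2 : 1 < a := by
    rw [ha] at h1
    exact (Nat.pow_lt_pow_iff_right hpp.one_lt).mp (by rwa [pow_one])
  have hidx := (center P).card_mul_index
  rw [ha, K.card_P] at hidx
  have h3 : a ≤ 2 := by
    by_contra h3
    push Not at h3
    have h4 : (center P).index ∣ p := by
      have h5 : a ≤ 4 := (Nat.pow_le_pow_iff_right hpp.one_lt).mp (by
        rw [← ha, ← K.card_P]; exact Subgroup.card_le_card_group _)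
      have h6 : (center P).index = p ^ (4 - a) := Nat.eq_of_mul_eq_mul_left (pow_pos hpp.pos a) (by
        rw [hidx, ← pow_add, Nat.add_sub_cancel' h5])
      rw [h6]
      exact (pow_dvd_pow p (by omega : 4 - a ≤ 1)).trans (pow_one p).dvd
    haveI : IsCyclic (P ⧸ center P) := isCyclic_of_card_dvd_prime (p := p) h4
    exact hnc (fun a b => commutative_of_cyclic_center_quotient (QuotientGroup.mk' (center P))
      (by rw [QuotientGroup.ker_mk']) a b)
  have ha2 : a = 2 := by omega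
  subst ha2
  exact ⟨hcen, K.c_ne, hexp, hcomm,
    Nat.eq_of_mul_eq_mul_left (pow_pos hpp.pos 2) (by rw [hidx, ← pow_add]), ha⟩

/-- The double commutator is not trivial. -/
theorem z_ne : K.z ≠ 1 := fun h => (K.flat h).false ⟨E, K.hE⟩

theorem C_eq : K.C = zpowers K.z :=
  (eq_of_le_of_card_ge (zpowers_le.mpr K.zC)
    (by rw [K.card_C, Nat.card_zpowers, orderOf_eq_prime K.zpow K.z_ne])).symm

end KeyData

end CfsgLib.SectThree
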