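import Cfsg.Agent.Lib.SectThree.AbelianEnd
import Cfsg.Agent.Lib.MaxClassResidual.Build
import Cfsg.Agent.Lib.Fusion.RankThree.Main
import Cfsg.Agent.Lib.Fusion.SelfAut
import Cfsg.Agent.Lib.Fusion.RankTwoResistant.GroupFacts

/-!
The configuration attached to a saturated system of sectional rank three all of whose essential
subgroups are normal.
-/

set_option autoImplicit false
set_option linter.unusedSectionVars false
set_option linter.style.haveILetI false

namespace CfsgLib.SectThree

open Cfsg Cfsg.FusionSystem Subgroup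
open CfsgLib.MaxClassResidual (upEquiv autIn mem_autIn)
open MaxClassEssential (Vec vec lin)
open CfsgLib.AfterFT.OutSolvable (frattiniHom frattiniHom_apply)

universe u

variable {Ω : Type u} [Group Ω] {S : Subgroup Ω} [Finite S] {p : ℕ} [hpf : Fact p.Prime] {F : FusionSystem S}

/-- An automorphism of `S` transports the automizers. -/
theorem congr_mem_autIn {β : MulAut S} (hβ : β ∈ F.autGroup S) {K K' : Subgroup S} (e0 : K ≃* K')
    (he : ∀ x : K, ((e0 x : K') : S) = β (x : S)) {α : MulAut K} (hα : α ∈ autIn F K) :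
    MulAut.congr e0 α ∈ autIn F K' := by
  obtain ⟨φ, hφ, hφe⟩ := mem_autIn.mp hα
  obtain ⟨b, hb, -, hbe⟩ := F.exists_map_of_mem_autGroup le_rfl hβ
  obtain ⟨b', hb', -, hbe'⟩ := F.exists_map_of_mem_autGroup le_rfl (inv_mem hβ)
  have hle : K'.map S.subtype ≤ S := map_subtype_le K'
  have hback : ∀ y : K', (b'.comp (Subgroup.inclusion hle)) (upEquiv K' y) = ((e0.symm y : K) : S).1 := by
    intro y
    show b' ⟨((y : S) : Ω), _⟩ = _
    rw [hbe']
    refine congrArg Subtype.val ?_
    show β⁻¹ (y : S) = _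
    apply β.injective
    rw [MulAut.apply_inv_self, ← he, MulEquiv.apply_symm_apply]
  obtain ⟨χ, hχ, hχe⟩ := F.exists_comp (F.restrict_mem hb' hle) hφ (fun y => by
    obtain ⟨x, rfl⟩ := (upEquiv K').surjective y
    rw [hback x]
    exact (upEquiv K (e0.symm x)).2)
  obtain ⟨ω, hω, hωe⟩ := F.exists_comp hχ hb (F.apply_mem hχ)
  refine mem_autIn.mpr ⟨ω, hω, fun x => ?_⟩
  have h2 : χ (upEquiv K' x) = ((α (e0.symm x) : K) : S).1 := by
    rw [hχe, ← hφe]
    exact congrArg φ (Subtype.ext (hback x))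
  rw [hωe, hbe]
  refine congrArg Subtype.val ?_
  show β ⟨χ (upEquiv K' x), _⟩ = ((MulAut.congr e0 α x : K') : S)
  rw [show (⟨χ (upEquiv K' x), _⟩ : S) = (α (e0.symm x) : S) from Subtype.ext h2, ← he]
  rfl

/-- An element acting as an inner automorphism lies in a self-centralising subgroup. -/
theorem mem_of_conjNormal_inner {K : Subgroup S} [K.Normal] (hc : centralizer (K : Set S) ≤ K) {g : S}
    (h : MulAut.conjNormal g ∈ MaxClassResidual.innE K) : g ∈ K := by
  obtain ⟨u, hu⟩ := h
  have h2 : (u : S)⁻¹ * g ∈ centralizer (K : Set S) := mem_centralizer_iff.mpr fun y hy => by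
    have h1 : (u : S) * y * (u : S)⁻¹ = g * y * g⁻¹ := congrArg (fun f : MulAut K => ((f ⟨y, hy⟩ : K) : S)) hu
    calc y * ((u : S)⁻¹ * g) = (u : S)⁻¹ * ((u : S) * y * (u : S)⁻¹) * g := by group
      _ = (u : S)⁻¹ * g * y := by rw [h1]; group
  have h3 := mul_mem u.2 (hc h2)
  rwa [mul_inv_cancel_left] at h3

/-- A normal essential subgroup has index `p`. -/
theorem index_eq (hp : 3 ≤ p) (hS : IsPGroup p S) (hr : Cfsg.SectionalPRankLE p 3 S) (hF : F.IsSaturated p)
    {K : Subgroup S} [hKn : K.Normal] (hK : F.IsEssential p (K.map S.subtype)) : K.index = p := by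
  have hp1 := hpf.out.one_lt
  have hKp : IsPGroup p K := hS.to_subgroup K
  haveI : Fact (IsPGroup p K) := ⟨hKp⟩
  have hne : K.index ≠ 1 := fun h => by
    have hlt := IsEssential.lt hS hF hK
    rw [index_eq_one.mp h, ← MonoidHom.range_eq_map, range_subtype] at hlt
    exact hlt.ne rfl
  obtain ⟨r, hfr⟩ : ∃ r, (frattini K).index = p ^ r := hKp.index _
  have hc := CfsgLib.MaxClassResidual.centralizer_le K hK.1
  have hXe : ∀ x : K ⧸ frattini K, x ^ p = 1 := fun x => by
    obtain ⟨y, rfl⟩ := QuotientGroup.mk_surjective x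
    rw [← QuotientGroup.mk_pow, QuotientGroup.eq_one_iff]
    exact CfsgLib.pow_mem_frattini_pGroup hKp y
  have hX : Nat.card (K ⧸ frattini K) = p ^ r := by rw [← index_eq_card, hfr]
  have hr3 : r ≤ 3 := by
    have h := hr K (frattini K) ⊤ ⟨⟨fun a b => Subtype.ext (MaxClassEssential.quot_comm' hKp _ _)⟩⟩
      fun a _ => hXe a
    rw [Subgroup.card_top, hX] at h
    exact (Nat.pow_le_pow_iff_right hp1).mp h
  obtain ⟨j, hj⟩ : ∃ j, K.index = p ^ j := hS.index _
  suffices hle : K.index ≤ p by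
    rcases j with _ | _ | j
    · exact absurd (by simpa using hj) hne
    · simpa using hj
    · have h2 : p ^ 2 ≤ p := (Nat.pow_le_pow_right hpf.out.pos (by omega)).trans (hj ▸ hle)
      nlinarith
  rcases hr3.eq_or_lt with rfl | hr2
  · -- three generators
    haveI : Finite (K.map S.subtype) := finite_of_le (map_subtype_le K)
    have h := RankThree.relIndex_normalizerIn hp hS hF hK
      (by rw [RankThree.frattini_index_congr (p := p) (upEquiv K) hKp, hfr])
    have hN : normalizerIn S (K.map S.subtype) = S := le_antisymm normalizerIn_le fun g hg => ⟨hg,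
      (CfsgLib.MaxClassResidual.mem_normalizer_map (g := ⟨g, hg⟩)).mpr (by rw [normalizer_eq_top]; trivial)⟩
    rw [hN, ← Nat.card_congr (upEquiv K).toEquiv, ← K.card_mul_index] at h
    exact (Nat.eq_of_mul_eq_mul_left Nat.card_pos h).le
  · -- at most two generators
    set f : S →* MulAut (K ⧸ frattini K) := (frattiniHom K).comp MulAut.conjNormal with hf
    have hker : f.ker ≤ K := by
      intro g hg
      set Q := autIn F K ⊓ (frattiniHom K).ker with hQ
      refine mem_of_conjNormal_inner hc (CfsgLib.MaxClassResidual.radical_autIn hS hF hK (Q := Q) inf_le_left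
        (fun α hα => ?_) ?_ ⟨CfsgLib.MaxClassResidual.conjNormal_mem_autIn K g, hg⟩)
      · refine mem_normalizer_iff.mpr fun q => ?_
        have key : ∀ α ∈ autIn F K, ∀ q ∈ Q, α * q * α⁻¹ ∈ Q := fun α hα q hq =>
          ⟨(autIn F K).mul_mem ((autIn F K).mul_mem hα hq.1) ((autIn F K).inv_mem hα), (inferInstance : (frattiniHom K).ker.Normal).conj_mem q hq.2 α⟩
        refine ⟨key α hα q, fun h => ?_⟩
        simpa [mul_assoc] using key α⁻¹ ((autIn F K).inv_mem hα) _ h
      · refine (MaxClassEssential.isPGroup_ker_lin (p := p) (E := K)).to_le fun a ha => ?_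
        exact MonoidHom.mem_ker.mpr (MaxClassEssential.lin_eq_one.mpr
          (CfsgLib.AfterFT.OutSolvable.mem_frattini_of_ker ha.2))
    have hRp : IsPGroup p f.range := hS.of_surjective f.rangeRestrict f.rangeRestrict_surjective
    refine (Nat.le_of_dvd (Nat.pos_of_ne_zero index_ne_zero_of_finite) (index_dvd_of_le hker)).trans ?_
    rw [index_ker]
    rcases Nat.lt_or_ge r 2 with h | h
    · refine le_trans (le_of_eq ?_) hpf.out.one_le
      rw [Subgroup.card_eq_one, eq_bot_iff]
      intro a ha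
      obtain ⟨i, hi⟩ := hRp ⟨a, ha⟩
      refine mem_bot.mpr (MulEquiv.ext fun x => Cfsg.RankTwoResistant.fix_of_card_dvd (congrArg Subtype.val hi) ?_ x)
      rw [hX]
      calc p ^ r ∣ p ^ 1 := pow_dvd_pow p (by omega)
        _ = p := pow_one p
    · exact Cfsg.RankTwoResistant.card_autSub_le hRp (by rw [hX, show r = 2 by omega]) hXe

/-- An automorphism normalising the induced automorphisms extends. -/
theorem exists_extend (hS : IsPGroup p S) (hF : F.IsSaturated p) {K : Subgroup S} [K.Normal] {α : MulAut K}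
    (hα : α ∈ autIn F K)
    (h : ∀ (g : S) (c : MulAut K), (∀ e : K, ((c e : K) : S) = g * e * g⁻¹) →
      ∃ g' : S, ∀ e : K, (((α * c * α⁻¹) e : K) : S) = g' * e * g'⁻¹) :
    ∃ β ∈ F.autGroup S, ∀ e : K, β (e : S) = ((α e : K) : S) := by
  have hK : K.map S.subtype ≤ S := map_subtype_le K
  obtain ⟨φ, hφ, hφr, hφe⟩ := F.exists_map_of_mem_autGroup hK (show MulAut.congr (upEquiv K) α ∈ _ from hα)
  obtain ⟨ψ, hψ, hψe⟩ := (hF.isReceptive_of_isFullyNormalized hS
    (CfsgLib.MaxClassResidual.normal_fullyNormalized K)).2 (K.map S.subtype) φ hφ hφr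
  have hφ' : ∀ x : K, φ (upEquiv K x) = ((α x : K) : S).1 := fun x =>
    (hφe _).trans (congrArg Subtype.val (CfsgLib.MaxClassResidual.congr_apply' α x))
  have hle : S ≤ extender S (K.map S.subtype) φ := by
    intro g hg
    refine (mem_extender_iff (F.apply_mem hφ)).mpr ⟨hg, (CfsgLib.MaxClassResidual.mem_normalizer_map
      (g := ⟨g, hg⟩)).mpr (by rw [normalizer_eq_top]; trivial), ?_⟩
    obtain ⟨g', hg'⟩ := h ⟨g, hg⟩ (MulAut.conjNormal ⟨g, hg⟩) fun _ => rfl
    refine ⟨g', g'.2, fun y hy => ?_⟩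
    obtain ⟨x, rfl⟩ := (upEquiv K).surjective y
    have e1 : (⟨g * ((upEquiv K x : K.map S.subtype) : Ω) * g⁻¹, hy⟩ : K.map S.subtype) =
        upEquiv K (MulAut.conjNormal (⟨g, hg⟩ : S) x) := Subtype.ext rfl
    rw [e1, hφ', hφ']
    have h2 := hg' (α x)
    rw [MulAut.mul_apply, MulAut.mul_apply, MulAut.inv_apply_self] at h2
    exact congrArg Subtype.val h2
  have hmem : ψ.comp (Subgroup.inclusion hle) ∈ F.Hom S := F.restrict_mem hψ hle
  have hrange : (ψ.comp (Subgroup.inclusion hle)).range = S := by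
    refine eq_of_le_of_card_ge ?_ ?_
    · rintro _ ⟨g, rfl⟩
      exact F.apply_mem hmem g
    · exact le_of_eq (Nat.card_congr (MonoidHom.ofInjective (F.injective_of_mem hmem)).toEquiv)
  refine ⟨F.isoOf hmem hrange, F.isoOf_mem_autGroup hmem hrange, fun e => Subtype.ext ?_⟩
  show ψ ⟨((e : S) : Ω), _⟩ = _
  exact (hψe _ (upEquiv K e).2 _).trans (hφ' e)

/-- Radicality is preserved by the automorphisms of `S`. -/
theorem rad_map (hS : IsPGroup p S) (hF : F.IsSaturated p) {β : MulAut S} (hβ : β ∈ F.autGroup S) {K : Subgroup S}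
    (hK : F.IsEssential p (K.map S.subtype)) {Q : Subgroup (MulAut (K.map β.toMonoidHom))}
    (hQA : Q ≤ autIn F (K.map β.toMonoidHom)) (hQn : autIn F (K.map β.toMonoidHom) ≤ normalizer (Q : Set (MulAut (K.map β.toMonoidHom))))
    (hQp : IsPGroup p Q) : Q ≤ (MulAut.conj : (K.map β.toMonoidHom : Subgroup S) →* MulAut (K.map β.toMonoidHom)).range := by
  set e0 : K ≃* K.map β.toMonoidHom := β.subgroupMap K
  set c := MulAut.congr e0
  have hto : ∀ α ∈ autIn F K, c α ∈ autIn F (K.map β.toMonoidHom) := fun α hα =>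
    congr_mem_autIn hβ e0 (fun _ => rfl) hα
  have hfrom : ∀ α ∈ autIn F (K.map β.toMonoidHom), c.symm α ∈ autIn F K := fun α hα => by
    refine congr_mem_autIn (inv_mem hβ) e0.symm (fun x => ?_) hα
    obtain ⟨y, rfl⟩ := e0.surjective x
    rw [MulEquiv.symm_apply_apply]
    exact (MulAut.inv_apply_self _ β (y : S)).symm
  intro q hq
  obtain ⟨u, hu⟩ := CfsgLib.MaxClassResidual.radical_autIn hS hF hK (Q := Q.comap c.toMonoidHom)
    (fun a ha => by
      have h := hfrom (c a) (hQA ha)
      rwa [c.symm_apply_apply] at h)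
    (fun a ha => mem_normalizer_iff.mpr fun r => by
      have h := mem_normalizer_iff.mp (hQn (hto a ha)) (c r)
      rw [← map_inv, ← map_mul, ← map_mul] at h
      exact h)
    (hQp.comap_of_injective _ c.injective) (x := c.symm q) (by
      show c (c.symm q) ∈ Q
      rwa [c.apply_symm_apply])
  refine ⟨e0 u, ?_⟩
  rw [← c.apply_symm_apply q, ← hu]
  refine MulEquiv.ext fun y => ?_
  obtain ⟨z, rfl⟩ := e0.surjective y
  show _ = e0 (MulAut.conj u (e0.symm (e0 z)))
  rw [MulEquiv.symm_apply_apply, MulAut.conj_apply, MulAut.conj_apply, map_mul, map_mul, map_inv]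

/-- The configuration, when every essential subgroup is normal. -/
theorem exists_sys (hp : p ≠ 2) (hS : IsPGroup p S)
    (hsr : Cfsg.SectionalPRankLE p 3 S ∧ ¬ Cfsg.SectionalPRankLE p 2 S) (hF : F.IsSaturated p) (hO : F.core = ⊥)
    (hn : ∀ E : Subgroup Ω, F.IsEssential p E → S ≤ normalizer (E : Set Ω)) :
    ∃ D : Sys p S, ∀ K ∈ D.Ess, ∃ K₀ : Subgroup S, F.IsEssential p (K₀.map S.subtype) ∧ Nonempty (K₀ ≃* K) := by
  have hp3 : 3 ≤ p := by
    have := hpf.out.two_le
    omega
  haveI := finite_autGroup (F := F) (P := S) le_rfl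
  have hnorm : ∀ K : Subgroup S, F.IsEssential p (K.map S.subtype) → K.Normal := fun K hK =>
    normalizer_eq_top_iff.mp (eq_top_iff.mpr fun g _ =>
      CfsgLib.MaxClassResidual.mem_normalizer_map.mp (hn _ hK g.2))
  set Ess : Set (Subgroup S) :=
    {K' | ∃ β ∈ F.autGroup S, ∃ K : Subgroup S, F.IsEssential p (K.map S.subtype) ∧ K' = K.map β.toMonoidHom} with hEss
  have hN : ∀ K' ∈ Ess, K'.Normal := by
    rintro _ ⟨β, -, K, hK, rfl⟩
    exact (hnorm K hK).map _ β.surjective
  refine ⟨{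
    pg := hS
    odd := hp
    rank := hsr.1
    rank' := hsr.2
    B := F.autGroup S
    innB := fun g => autInducedBy_le_autGroup le_rfl
      (mem_autInducedBy_iff.mpr ⟨g, g.2, le_normalizer g.2, fun _ => rfl⟩)
    sylB := ?_
    Ess := Ess
    A := autIn F
    nrm := hN
    idx := ?_
    cen := ?_
    conjA := ?_
    rad := ?_
    sylA := ?_
    extB := ?_
    transB := ?_
    core := ?_ }, ?_⟩
  · obtain ⟨-, R, hR⟩ := hF.isFullyAutomized_of_isFullyNormalized hS (isFullyNormalized_self (F := F))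
    have h := R.not_dvd_index
    rw [hR, ← inn_eq_autInducedBy] at h
    exact h
  · rintro _ ⟨β, -, K, hK, rfl⟩
    haveI := hnorm K hK
    exact (index_map_equiv K β).trans (index_eq hp3 hS hsr.1 hF hK)
  · rintro _ ⟨β, -, K, hK, rfl⟩ g hg
    refine ⟨β.symm g, CfsgLib.MaxClassResidual.centralizer_le K hK.1 (mem_centralizer_iff.mpr fun x hx => ?_),
      β.apply_symm_apply g⟩
    apply β.injective
    rw [map_mul, map_mul, β.apply_symm_apply]
    exact mem_centralizer_iff.mp hg (β x) ⟨x, hx, rfl⟩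
  · intro K hK g α hα
    haveI := hN K hK
    rw [show α = MulAut.conjNormal g from MulEquiv.ext fun e => Subtype.ext ((hα e).trans rfl)]
    exact CfsgLib.MaxClassResidual.conjNormal_mem_autIn K g
  · rintro _ ⟨β, hβ, K, hK, rfl⟩ Q hQA hQn hQp
    exact rad_map hS hF hβ hK hQA hQn hQp
  · intro K hK Q hQA hQp hconj α hα
    haveI := hN K hK
    set R := (MulAut.conjNormal : S →* MulAut K).range with hR
    have hRQ : R ≤ Q := by
      rintro _ ⟨g, rfl⟩
      exact hconj g _ fun _ => rfl
    obtain ⟨j, hj⟩ : ∃ j, R.relIndex Q = p ^ j := hQp.index _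
    have h1 : R.relIndex Q = 1 := by
      rcases j with _ | j
      · simpa using hj
      · refine absurd ?_ (CfsgLib.MaxClassResidual.not_dvd_relIndex_normal hS hF K)
        rw [← relIndex_mul_relIndex R Q _ hRQ hQA, hj, pow_succ]
        exact Dvd.dvd.mul_right (dvd_mul_left p _) _
    obtain ⟨g, rfl⟩ := relIndex_eq_one.mp h1 hα
    exact ⟨g, fun _ => rfl⟩
  · intro K hK α hα h
    haveI := hN K hK
    exact exists_extend hS hF hα h
  · intro β hβ K' hK'
    obtain ⟨γ, hγ, K, hK, rfl⟩ := hK'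
    set K₁ := K.map γ.toMonoidHom
    refine ⟨K₁.map β.toMonoidHom, ⟨β * γ, mul_mem hβ hγ, K, hK, ?_⟩, fun g => ?_, fun α hα => ?_⟩
    · rw [map_map]
      rfl
    · exact mem_map_equiv
    · refine ⟨MulAut.congr (β.subgroupMap K₁) α, congr_mem_autIn hβ _ (fun _ => rfl) hα, fun e e' he => ?_⟩
      rw [show e' = β.subgroupMap K₁ e from Subtype.ext he]
      show β ((α ((β.subgroupMap K₁).symm (β.subgroupMap K₁ e)) : K₁) : S) = _
      rw [MulEquiv.symm_apply_apply]
  · intro N hN1 _ hB hE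
    have hQ := hF.eq_bot_of_invariant hS hO (Q := N.map S.subtype) (map_subtype_le N)
      (fun α hα y hy => ⟨α y, hB α hα y ((mem_map_iff_mem S.subtype_injective).mp hy), rfl⟩) (fun E hEe => ?_)
    · exact hN1 ((map_eq_bot_iff_of_injective _ S.subtype_injective).mp hQ)
    · have hEK : (E.subgroupOf S).map S.subtype = E := map_subgroupOf_eq_of_le hEe.1.1
      have hmem : E.subgroupOf S ∈ Ess :=
        ⟨1, one_mem _, E.subgroupOf S, by rw [hEK]; exact hEe, (map_id _).symm⟩
      obtain ⟨hle, hinv⟩ := hE _ hmem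
      refine ⟨by rw [← hEK]; exact map_mono hle, fun α hα y hy => ?_⟩
      obtain ⟨φ, hφ, -, hφe⟩ := F.exists_map_of_mem_autGroup hEe.1.1 hα
      let i := Subgroup.subgroupOfEquivOfLe hEe.1.1
      have hα' : MulAut.congr i.symm α ∈ autIn F (E.subgroupOf S) := by
        refine mem_autIn.mpr ⟨φ.comp (Subgroup.inclusion hEK.le), F.restrict_mem hφ hEK.le, fun x => ?_⟩
        exact hφe _
      obtain ⟨x, rfl⟩ := i.surjective y
      have h2 := hinv _ hα' x ((mem_map_iff_mem S.subtype_injective).mp hy)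
      refine ⟨_, h2, ?_⟩
      rfl
  · rintro _ ⟨β, -, K, hK, rfl⟩
    exact ⟨K, hK, ⟨β.subgroupMap K⟩⟩

end CfsgLib.SectThree
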