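import Cfsg.Agent.Lib.SectThree.GenFrame
import Cfsg.Agent.Lib.RankFrattini

/-!
The translates of the orbit of the centre inside a member commute.
-/

set_option autoImplicit false
set_option linter.unusedSectionVars false
set_option linter.style.haveILetI false

namespace CfsgLib.SectThree

open Subgroup
open scoped commutatorElement

variable {p : ℕ} [hpf : Fact p.Prime] {P : Type*} [Group P] [Finite P]

namespace Pair

variable {D : Sys p P} {E₁ E₂ : Subgroup P} (H : Pair D E₁ E₂)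

include H

theorem αa_pow : H.α H.a ^ p = 1 := Subtype.ext (by rw [Subgroup.coe_pow]; exact H.u_pow)

theorem b_pow : H.b ^ p = 1 := Subtype.ext (by rw [Subgroup.coe_pow]; exact D.mov_pow H.bV)

theorem u_b_pow : ∀ j : ℕ, H.α H.a * H.b ^ j = H.zE ^ j * (H.b ^ j * H.α H.a) := by
  intro j
  induction j with
  | zero => simp
  | succ j ih =>
    rw [pow_succ, ← mul_assoc, ih, mul_assoc, mul_assoc (H.b ^ j), H.conj_b, ← mul_assoc (H.b ^ j),
      mem_center_iff.mp H.zE_center (H.b ^ j), pow_succ]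
    simp [mul_assoc]

theorem sub_decomp {x : E₂} (hx : (x : P) ∈ E₁) : ∃ (j : ℕ) (q : E₂), q ∈ H.Q ∧ x = H.b ^ j * q := by
  obtain ⟨i, j, q, hq, rfl⟩ := H.decomp x
  have hi : H.α H.a ^ i = 1 := by
    by_contra hne
    obtain ⟨m, hm⟩ := exists_pow_pow_eq H.αa_pow hne
    have h1 : H.α H.a ^ i ∈ E₁.subgroupOf E₂ := by
      have h2 := (E₁.subgroupOf E₂).mul_mem
        ((E₁.subgroupOf E₂).mul_mem (mem_subgroupOf.mpr hx) ((E₁.subgroupOf E₂).inv_mem hq.1))
        ((E₁.subgroupOf E₂).inv_mem ((E₁.subgroupOf E₂).pow_mem (mem_subgroupOf.mpr H.b_mem) j))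
      simpa [mul_assoc] using h2
    exact H.u_notMem (mem_subgroupOf.mp (hm ▸ pow_mem h1 m))
  exact ⟨j, q, hq, by rw [hi, one_mul]⟩

theorem conj_u_sub {x : E₂} {j : ℕ} {q : E₂} (hq : q ∈ H.Q) (hx : x = H.b ^ j * q) :
    H.α H.a * x * (H.α H.a)⁻¹ = H.zE ^ j * x := by
  rw [hx, ← mul_assoc, H.u_b_pow, mul_assoc, mul_assoc, mul_assoc (H.b ^ j), ← mul_assoc (H.α H.a) q,
    ← H.Q_comm_u hq, mul_inv_cancel_right]

theorem zE_pow_ne {i : ℕ} (hi : H.b ^ i ≠ 1) : H.zE ^ i ≠ 1 := fun h => by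
  have h1 := H.u_b_pow i
  rw [h, one_mul] at h1
  obtain ⟨m, hm⟩ := exists_pow_pow_eq H.b_pow hi
  exact H.nc (hm ▸ ((show Commute (H.α H.a) (H.b ^ i) from h1).pow_right m).eq)

theorem false : False := by
  classical
  have hpp : p.Prime := hpf.out
  have hE₂ := H.mem
  have hE₁ := H.mover.1
  haveI := D.nrm E₁ hE₁
  haveI := D.nrm E₂ hE₂
  -- an element outside the second member
  obtain ⟨x, hx1, hx2⟩ : ∃ x ∈ E₁, x ∉ E₂ := by
    by_contra hno
    push Not at hno
    have hle : E₁ ≤ E₂ := hno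
    refine H.u_notMem ((eq_of_le_of_card_ge hle (le_of_eq ?_)).ge H.u_mem)
    have h1 := E₁.card_mul_index
    have h2 := E₂.card_mul_index
    rw [D.idx E₁ hE₁] at h1
    rw [D.idx E₂ hE₂, ← h1] at h2
    exact Nat.eq_of_mul_eq_mul_right hpp.pos h2
  set sx := D.cj hE₂ x with hsx
  obtain ⟨n, hn⟩ := (IsPGroup.iff_orderOf.mp D.pg) x
  have hsxn : sx ^ p ^ n = 1 := by rw [hsx, ← map_pow, ← hn, pow_orderOf_eq_one, map_one]
  have hxfix : ∀ v : E₂, (v : P) ∈ D.mov E₁ → sx v = v := fun v hv => Subtype.ext (by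
    rw [hsx, D.coe_cj, D.mov_comm hv hx1, mul_inv_cancel_right])
  have hxb : sx H.b = H.b := hxfix _ H.bV
  have hxz : sx H.zE = H.zE := hxfix _ (mem_subgroupOf.mp H.zE_V)
  -- the commutator
  obtain ⟨i, q, hq, hciq⟩ := H.sub_decomp (x := sx (H.α H.a) * (H.α H.a)⁻¹) (by
    push_cast
    rw [hsx, D.coe_cj]
    exact D.comm_mem_E hE₁ x _)
  have hsu : sx (H.α H.a) = H.b ^ i * q * H.α H.a := by rw [← hciq, inv_mul_cancel_right]
  have hqp : q ^ p = 1 := by
    have hclass : (H.b ^ i * H.α H.a) ^ p = 1 := by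
      rw [mul_pow_class_two D.odd (g := H.b ^ i) (h := H.α H.a) (w := H.zE ^ i)
        (by rw [← pow_mul, mul_comm, pow_mul, H.zE_pow, one_pow])
        (mem_center_iff.mp (pow_mem H.zE_center i) _) (mem_center_iff.mp (pow_mem H.zE_center i) _) (H.u_b_pow i),
        H.αa_pow, mul_one, ← pow_mul, mul_comm, pow_mul, H.b_pow, one_pow]
    have h1 : sx (H.α H.a) ^ p = 1 := by rw [← map_pow, H.αa_pow, map_one]
    rw [hsu, mul_assoc, H.Q_comm_u hq, ← mul_assoc,
      (show Commute (H.b ^ i * H.α H.a) q from mem_center_iff.mp (H.Q_le_center hq) _).mul_pow, hclass, one_mul] at h1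
    exact h1
  have hzΦ2 : H.zE ∈ frattini E₂ := by
    have h := CfsgLib.commutator_le_frattini_pGroup (D.pg.to_subgroup E₂)
      (commutator_mem_commutator (mem_top (H.α H.a)) (mem_top H.b))
    rwa [commutatorElement_def] at h
  obtain ⟨q₀, hq₀, hQ⟩ := H.exists_gen
  have hQmem : ∀ {w : E₂}, w ∈ H.Q → ∃ (k : ℕ) (l : ℕ), w = q₀ ^ k * H.zE ^ l := by
    intro w hw
    rw [hQ] at hw
    obtain ⟨a, ha, b, hb, rfl⟩ := (Subgroup.mem_sup_of_normal_right
      (ht := ⟨fun v hv g => by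
        obtain ⟨k, rfl⟩ := hv
        rw [mem_center_iff.mp (zpow_mem H.zE_center k) g, mul_inv_cancel_right]
        exact zpow_mem (mem_zpowers _) k⟩)).mp hw
    obtain ⟨k, rfl⟩ := mem_powers_iff_mem_zpowers.mpr ha
    obtain ⟨l, rfl⟩ := mem_powers_iff_mem_zpowers.mpr hb
    exact ⟨k, l, rfl⟩
  -- the exponent is not divisible by `p`
  have hbi : H.b ^ i ≠ 1 := by
    intro h1
    rw [h1, one_mul] at hciq
    refine hx2 (D.mem_of_flag1 hE₂ (L := H.Q) (fun _ _ _ hv => H.center_inv hv) (fun w => ?_) fun w hw => ?_)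
    · haveI : (H.Q ⊔ frattini E₂).Normal := by
        haveI : H.Q.Normal := H.center_eq ▸ inferInstance
        exact Subgroup.sup_normal _ _
      refine (QuotientGroup.eq).mp ?_
      let π := QuotientGroup.mk' (H.Q ⊔ frattini E₂)
      show π w = π (sx w)
      have hπQ : ∀ {v}, v ∈ H.Q → π v = 1 := fun hv => (QuotientGroup.eq_one_iff _).mpr (mem_sup_left hv)
      obtain ⟨k, l, r, hr, rfl⟩ := H.decomp w
      simp only [map_mul, map_pow, hxb, hπQ hr, hπQ (H.center_inv hr), hsu, h1, one_mul, hπQ hq]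
    · obtain ⟨k, l, rfl⟩ := hQmem hw
      have hq0f : q₀⁻¹ * sx q₀ ∈ frattini E₂ := by
        obtain ⟨k', l', hkl⟩ := hQmem (H.center_inv (f := sx) hq₀)
        exact cyclic_fix (CfsgLib.pow_mem_frattini_pGroup (D.pg.to_subgroup E₂) q₀) (fun _ hv => Sys.frattini_inv hv)
          (k := k') (by rw [hkl, inv_mul_cancel_left]; exact pow_mem hzΦ2 l') hsxn
      refine (QuotientGroup.eq).mp ?_
      let π := QuotientGroup.mk' (frattini E₂)
      show π (q₀ ^ k * H.zE ^ l) = π (sx (q₀ ^ k * H.zE ^ l))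
      have e : π (sx q₀) = π q₀ := ((QuotientGroup.eq).mpr hq0f).symm
      simp only [map_mul, map_pow, hxz, e]
  have hzi := H.zE_pow_ne hbi
  -- inside the first member
  set s := D.cj hE₁ H.u with hs
  set Vs1 := (D.mov E₁).subgroupOf E₁ with hVs1
  have hqE₁ : (q : P) ∈ E₁ := mem_subgroupOf.mp hq.1
  have hzE₁ : (H.zE : P) ∈ E₁ := D.mov_le (mem_subgroupOf.mp H.zE_V)
  set q1 : E₁ := ⟨q, hqE₁⟩
  set z1 : E₁ := ⟨H.zE, hzE₁⟩
  have hz1V : z1 ∈ Vs1 := mem_subgroupOf.mpr (mem_subgroupOf.mp H.zE_V : (H.zE : P) ∈ D.mov E₁)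
  have hsfix : ∀ (e : E₁) (he : (e : P) ∈ E₂), ∃ (j : ℕ) (r : E₂), r ∈ H.Q ∧
      (⟨(e : P), he⟩ : E₂) = H.b ^ j * r ∧ s e = z1 ^ j * e := by
    intro e he
    obtain ⟨j, r, hr, her⟩ := H.sub_decomp (x := ⟨e, he⟩) e.2
    refine ⟨j, r, hr, her, Subtype.ext ?_⟩
    rw [hs, D.coe_cj]
    exact (congrArg Subtype.val (H.conj_u_sub hr her)).trans (by push_cast; rfl)
  have hVn : ∀ L : Subgroup E₁, L ≤ Vs1 → L.Normal := fun L hL => ⟨fun v hv g => by
    rwa [show g * v = v * g from Subtype.ext (D.mov_comm (mem_subgroupOf.mp (hL hv)) g.2), mul_inv_cancel_right]⟩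
  haveI : Vs1.Normal := hVn _ le_rfl
  haveI hFn : (Vs1 ⊔ frattini E₁).Normal := Subgroup.sup_normal _ _
  by_cases hq1 : q1 ∈ Vs1 ⊔ frattini E₁
  · have hxE : ∀ e : E₁, ∃ (k : ℕ) (f : P), f ∈ E₁ ∧ f ∈ E₂ ∧ (e : P) = x ^ k * f := by
      intro e
      obtain ⟨k, f, hf, he⟩ := D.exists_pow_mul hE₂ hx2 e
      refine ⟨k, f, ?_, hf, he⟩
      have h := mul_mem (inv_mem (pow_mem hx1 k)) e.2
      rwa [he, inv_mul_cancel_left] at h
    have hflag : ∀ e : E₁, e⁻¹ * s e ∈ Vs1 ⊔ frattini E₁ := by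
      intro e
      refine (QuotientGroup.eq).mp ?_
      let π := QuotientGroup.mk' (Vs1 ⊔ frattini E₁)
      show π e = π (s e)
      obtain ⟨k, f, hf1, hf2, he⟩ := hxE e
      rw [show e = (⟨x, hx1⟩ : E₁) ^ k * ⟨f, hf1⟩ from Subtype.ext (by push_cast; exact he), map_mul s, map_pow s,
        map_mul, map_mul, map_pow, map_pow]
      obtain ⟨j, r, -, -, hsf⟩ := hsfix ⟨f, hf1⟩ hf2
      have hπz : π z1 = 1 := (QuotientGroup.eq_one_iff _).mpr (mem_sup_left hz1V)
      rw [hsf, map_mul, map_pow, hπz, one_pow, one_mul]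
      congr 2
      refine (QuotientGroup.eq).mpr ?_
      have hc : (⟨x, hx1⟩ : E₁)⁻¹ * s ⟨x, hx1⟩ =
          (⟨x, hx1⟩ : E₁)⁻¹ * ((⟨(H.b : P), H.b_mem⟩ : E₁) ^ i * q1)⁻¹ * (⟨x, hx1⟩ : E₁)⁻¹⁻¹ := by
        refine Subtype.ext ?_
        push_cast
        have h2 : x * H.u * x⁻¹ = (H.b : P) ^ i * q * H.u := by
          have := congrArg Subtype.val hsu
          rw [hsx, D.coe_cj] at this
          push_cast at this
          exact this
        rw [hs, D.coe_cj]
        have h3 : ((H.b : P) ^ i * (q : P)) = x * H.u * x⁻¹ * H.u⁻¹ := by rw [h2, mul_inv_cancel_right]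
        show x⁻¹ * (H.u * x * H.u⁻¹) = x⁻¹ * ((H.b : P) ^ i * (q : P))⁻¹ * x⁻¹⁻¹
        rw [h3]
        group
      rw [hc]
      have hbV1 : (⟨(H.b : P), H.b_mem⟩ : E₁) ∈ Vs1 ⊔ frattini E₁ :=
        mem_sup_left (show (⟨(H.b : P), H.b_mem⟩ : E₁) ∈ Vs1 from mem_subgroupOf.mpr H.bV)
      exact hFn.conj_mem _ (inv_mem (mul_mem (pow_mem hbV1 i) hq1)) _
    -- the second commutator
    have hcE₂ : x⁻¹ * (H.u * x * H.u⁻¹) ∈ E₂ := by
      rw [show x⁻¹ * (H.u * x * H.u⁻¹) = x⁻¹ * H.u * x⁻¹⁻¹ * H.u⁻¹ by group]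
      exact mul_mem (D.conj_mem hE₂ x⁻¹ H.u_mem) (inv_mem H.u_mem)
    set c0 : E₁ := (⟨x, hx1⟩ : E₁)⁻¹ * s ⟨x, hx1⟩
    obtain ⟨j, r, hr, hjr, hsc⟩ := hsfix c0 (by
      show ((c0 : E₁) : P) ∈ E₂
      simp only [c0, hs]; push_cast; rw [D.coe_cj]; exact hcE₂)
    refine D.false_of_orbit H.mover H.u_notMem (z := z1) (mem_subgroupOf.mp H.zE_V) ?_ ?_ hflag
      (x₀ := ⟨x, hx1⟩) (c := c0) rfl (k := j) (by rw [← hs, hsc, mul_inv_cancel_right]) ?_
    · refine Subtype.ext ?_
      rw [D.coe_cj]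
      show H.u * (H.zE : P) * H.u⁻¹ = H.zE
      have h := congrArg Subtype.val (mem_center_iff.mp H.zE_center (H.α H.a))
      push_cast at h
      rw [show H.u * (H.zE : P) = H.zE * H.u from h, mul_inv_cancel_right]
    · intro v hv
      obtain ⟨j, r, -, -, hsv⟩ := hsfix v (H.le hv)
      rw [← hs, hsv, show z1 ^ j * v = v * z1 ^ j from (Subtype.ext (D.mov_comm hv (z1 ^ j).2)), inv_mul_cancel_left]
      exact pow_mem (mem_zpowers _) j
    · intro hzj
      have hzj' : H.zE ^ j = 1 := Subtype.ext (by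
        have h := congrArg Subtype.val hzj
        push_cast at h ⊢
        exact h)
      have hbj : H.b ^ j = 1 := by
        by_contra hne
        exact H.zE_pow_ne hne hzj'
      rw [hbj, one_mul] at hjr
      -- so the commutator is central, and so is the power of `b`
      have h3 : sx r ∈ H.Q := H.center_inv hr
      have h4 : sx r = q⁻¹ * (H.b ^ i)⁻¹ := by
        refine Subtype.ext ?_
        have h2 : x * H.u * x⁻¹ = (H.b : P) ^ i * q * H.u := by
          have := congrArg Subtype.val hsu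
          rw [hsx, D.coe_cj] at this
          push_cast at this
          exact this
        rw [hsx, D.coe_cj, ← congrArg Subtype.val hjr]
        simp only [c0, hs]
        push_cast
        rw [D.coe_cj, ← mul_inv_rev,
          show (H.b : P) ^ i * (q : P) = x * H.u * x⁻¹ * H.u⁻¹ by rw [h2, mul_inv_cancel_right]]
        group
      have h5 : H.b ^ i ∈ H.Q := by
        rw [show H.b ^ i = (q * sx r)⁻¹ by rw [h4, mul_inv_cancel_left, inv_inv]]
        exact H.Q.inv_mem (H.Q.mul_mem hq h3)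
      obtain ⟨m, hm⟩ := exists_pow_pow_eq H.b_pow hbi
      exact H.b_notMem (hm ▸ (pow_mem h5 m : (H.b ^ i) ^ m ∈ H.Q)).2
  -- the common part has exponent `p`
  have hq0p : q₀ ^ p = 1 := by
    by_contra hne
    obtain ⟨e, l, hel⟩ := hQmem hq
    obtain ⟨m, hm⟩ := (IsPGroup.iff_orderOf.mp (D.pg.to_subgroup E₂)) q₀
    have he : (q₀ ^ e) ^ p = 1 := by
      have h := hqp
      rwa [hel, (show Commute (q₀ ^ e) (H.zE ^ l) from mem_center_iff.mp (pow_mem H.zE_center l) _).mul_pow,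
        ← pow_mul H.zE, mul_comm l, pow_mul H.zE, H.zE_pow, one_pow, mul_one] at h
    have hdvd : p ^ m ∣ e * p := by rw [← hm]; exact orderOf_dvd_of_pow_eq_one (by rwa [pow_mul])
    have hm2 : 2 ≤ m := by
      by_contra h
      refine hne ?_
      rw [← orderOf_dvd_iff_pow_eq_one, hm]
      exact (pow_dvd_pow p (by omega : m ≤ 1)).trans (pow_one p).dvd
    have hpe : p ∣ e := by
      have h := (pow_dvd_pow p hm2).trans hdvd
      rw [pow_two] at h
      exact (Nat.mul_dvd_mul_iff_right hpp.pos).mp h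
    obtain ⟨e', rfl⟩ := hpe
    refine hq1 ?_
    have hq0E₁ : (q₀ : P) ∈ E₁ := mem_subgroupOf.mp hq₀.1
    rw [show q1 = ((⟨(q₀ : P), hq0E₁⟩ : E₁) ^ e') ^ p * z1 ^ l from Subtype.ext (by
      show (q : P) = _
      push_cast
      rw [← pow_mul, mul_comm e', hel]
      push_cast
      rfl)]
    exact mul_mem (mem_sup_right (CfsgLib.pow_mem_frattini_pGroup (D.pg.to_subgroup E₁) _))
      (pow_mem (mem_sup_left hz1V) l)
  have hQexp : ∀ w ∈ H.Q, w ^ p = 1 := by
    intro w hw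
    obtain ⟨k, l, rfl⟩ := hQmem hw
    rw [(show Commute (q₀ ^ k) (H.zE ^ l) from mem_center_iff.mp (pow_mem H.zE_center l) _).mul_pow,
      ← pow_mul, ← pow_mul, mul_comm k, mul_comm l, pow_mul, pow_mul, hq0p, H.zE_pow, one_pow, one_pow, mul_one]
  have hq1V : ∀ k : ℕ, q1 ^ k ∈ Vs1 ⊔ frattini E₁ → q ^ k = 1 := by
    intro k hk
    by_contra hne
    obtain ⟨m, hm⟩ := exists_pow_pow_eq hqp hne
    refine hq1 ?_
    rw [show q1 = (q1 ^ k) ^ m from Subtype.ext (by
      show (q : P) = _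
      conv_lhs => rw [← hm]
      push_cast
      rfl)]
    exact pow_mem hk m
  have hqz : q ∉ zpowers H.zE := fun h => hq1 (mem_sup_left (mem_subgroupOf.mpr
    ((zpowers_le.mpr H.zE_V : zpowers H.zE ≤ H.Vs) h)))
  have hQgen : ∀ w ∈ H.Q, ∃ k l : ℕ, w = q ^ k * H.zE ^ l := by
    intro w hw
    obtain ⟨e, le, hel⟩ := hQmem hq
    have hne : q₀ ^ e ≠ 1 := fun h => hqz (by rw [hel, h, one_mul]; exact pow_mem (mem_zpowers _) le)
    obtain ⟨m, hm⟩ := exists_pow_pow_eq hq0p hne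
    obtain ⟨k, l, rfl⟩ := hQmem hw
    obtain ⟨l', hl'⟩ : ∃ l' : ℕ, H.zE ^ l' = ((H.zE ^ le) ^ (m * k))⁻¹ * H.zE ^ l :=
      mem_powers_iff_mem_zpowers.mpr (mul_mem (inv_mem (pow_mem (pow_mem (mem_zpowers _) _) _))
        (pow_mem (mem_zpowers _) l))
    refine ⟨m * k, l', ?_⟩
    rw [hl', hel, (show Commute (q₀ ^ e) (H.zE ^ le) from mem_center_iff.mp (pow_mem H.zE_center le) _).mul_pow,
      pow_mul (q₀ ^ e), hm, mul_assoc, mul_inv_cancel_left]
  -- the action of `x` on the common part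
  obtain ⟨k₀, hk₀⟩ : ∃ k₀ : ℕ, sx q = q * H.zE ^ k₀ := by
    haveI : (zpowers H.zE).Normal := ⟨fun v hv g => by
      obtain ⟨k, rfl⟩ := hv
      rw [mem_center_iff.mp (zpow_mem H.zE_center k) g, mul_inv_cancel_right]
      exact zpow_mem (mem_zpowers _) k⟩
    obtain ⟨k, l, hkl⟩ := hQgen _ (H.center_inv (f := sx) hq)
    have h := cyclic_fix (M := zpowers H.zE) (by rw [hqp]; exact one_mem _)
      (fun v hv => by obtain ⟨j, rfl⟩ := hv; show sx (H.zE ^ j) ∈ _; rw [map_zpow, hxz]; exact zpow_mem (mem_zpowers _) j)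
      (k := k) (by rw [hkl, inv_mul_cancel_left]; exact pow_mem (mem_zpowers _) l) hsxn
    obtain ⟨k₀, hk₀⟩ := mem_powers_iff_mem_zpowers.mpr h
    exact ⟨k₀, by rw [show H.zE ^ k₀ = q⁻¹ * sx q from hk₀, mul_inv_cancel_left]⟩
  -- the power of `x`
  obtain ⟨l₀, hl₀⟩ : ∃ l : ℕ, x ^ p = (H.zE : P) ^ l := by
    have hxE₂ : x ^ p ∈ E₂ := D.pow_mem_E hE₂ x
    set yx : E₂ := ⟨x ^ p, hxE₂⟩
    obtain ⟨j, r, hr, hjr⟩ := H.sub_decomp (x := yx) (pow_mem hx1 p)
    set cE : E₂ := H.b ^ i * q with hcE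
    have hcp : cE ^ p = 1 := by
      rw [hcE, (show Commute (H.b ^ i) q from mem_center_iff.mp (H.Q_le_center hq) _).mul_pow, ← pow_mul, mul_comm i,
        pow_mul, H.b_pow, one_pow, hqp, one_mul]
    have hxc : x * ((cE : E₂) : P) * x⁻¹ = ((H.zE ^ k₀ * cE : E₂) : P) := by
      have h : sx cE = H.zE ^ k₀ * cE := by
        rw [hcE, map_mul, map_pow, hxb, hk₀, mem_center_iff.mp (pow_mem H.zE_center k₀) q, ← mul_assoc,
          mem_center_iff.mp (pow_mem H.zE_center k₀) (H.b ^ i), mul_assoc]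
      rw [← h, hsx, D.coe_cj]
    have hwcomm : ∀ g ∈ E₁, Commute g (((H.zE ^ k₀)⁻¹ : E₂) : P) := fun g hg => by
      have h := D.mov_comm (mem_subgroupOf.mp (inv_mem (pow_mem H.zE_V k₀) : (H.zE ^ k₀)⁻¹ ∈ H.Vs)) hg
      exact h
    have hcE₁ : ((cE : E₂) : P) ∈ E₁ := mul_mem (pow_mem H.b_mem i) hqE₁
    have hpow : ((((cE : E₂) : P))⁻¹ * x) ^ p = ((cE : E₂) : P)⁻¹ ^ p * x ^ p := by
      refine mul_pow_class_two D.odd (w := (((H.zE ^ k₀)⁻¹ : E₂) : P)) ?_ (hwcomm _ (inv_mem hcE₁)) (hwcomm x hx1) ?_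
      · rw [← Subgroup.coe_pow, inv_pow, ← pow_mul, mul_comm, pow_mul, H.zE_pow, one_pow, inv_one, Subgroup.coe_one]
      · have h1 : x * ((cE : E₂) : P)⁻¹ * x⁻¹ = ((cE : E₂) : P)⁻¹ * (((H.zE ^ k₀)⁻¹ : E₂) : P) := by
          rw [show x * ((cE : E₂) : P)⁻¹ * x⁻¹ = (x * ((cE : E₂) : P) * x⁻¹)⁻¹ by group, hxc]
          push_cast
          rw [mul_inv_rev]
        rw [← mul_assoc, ← (hwcomm _ (inv_mem hcE₁)).eq, ← h1, inv_mul_cancel_right]
    have hux : H.u * x * H.u⁻¹ = ((cE : E₂) : P)⁻¹ * x := by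
      have h2 : x * H.u * x⁻¹ = ((cE : E₂) : P) * H.u := by
        have := congrArg Subtype.val hsu
        rw [hsx, D.coe_cj] at this
        exact this
      rw [show ((cE : E₂) : P) = x * H.u * x⁻¹ * H.u⁻¹ by rw [h2, mul_inv_cancel_right]]
      group
    have huxp : H.u * x ^ p * H.u⁻¹ = x ^ p := by
      rw [← conj_pow, hux, hpow, inv_pow, ← Subgroup.coe_pow, hcp, Subgroup.coe_one, inv_one, one_mul]
    have h6 : H.zE ^ j = 1 := by
      have h7 := H.conj_u_sub hr hjr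
      rw [show H.α H.a * yx * (H.α H.a)⁻¹ = yx from Subtype.ext huxp] at h7
      exact mul_eq_right.mp h7.symm
    have hbj : H.b ^ j = 1 := by
      by_contra hne
      exact H.zE_pow_ne hne h6
    rw [hbj, one_mul] at hjr
    obtain ⟨k, l, hkl⟩ := hQgen r hr
    have hqk : q ^ k = 1 := by
      refine hq1V k ?_
      have e : q1 ^ k = (⟨x, hx1⟩ : E₁) ^ p * (z1 ^ l)⁻¹ := Subtype.ext (by
        push_cast
        have h8 : x ^ p = (q : P) ^ k * (H.zE : P) ^ l := by
          have := congrArg Subtype.val hjr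
          rw [hkl] at this
          push_cast at this
          exact this
        rw [h8, mul_inv_cancel_right])
      rw [e]
      exact mul_mem (mem_sup_right (CfsgLib.pow_mem_frattini_pGroup (D.pg.to_subgroup E₁) _))
        (inv_mem (pow_mem (mem_sup_left hz1V) l))
    refine ⟨l, ?_⟩
    have := congrArg Subtype.val hjr
    rw [hkl, hqk, one_mul] at this
    push_cast at this
    exact this
  -- the Frattini subgroup of the first member
  have hcardE : Nat.card E₁ = Nat.card E₂ := by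
    have h1 := E₁.card_mul_index
    have h2 := E₂.card_mul_index
    rw [D.idx E₁ hE₁] at h1
    rw [D.idx E₂ hE₂, ← h1] at h2
    exact (Nat.eq_of_mul_eq_mul_right hpp.pos h2).symm
  have hzn : (zpowers z1).Normal := hVn _ (zpowers_le.mpr hz1V)
  let π := QuotientGroup.mk' (zpowers z1)
  have hπz : π z1 = 1 := (QuotientGroup.eq_one_iff _).mpr (mem_zpowers _)
  set x1 : E₁ := ⟨x, hx1⟩ with hx1def
  set b1 : E₁ := ⟨(H.b : P), H.b_mem⟩ with hb1def
  have hbx : b1 * x1 = x1 * b1 := Subtype.ext (D.mov_comm H.bV hx1).symm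
  have hbq : b1 * q1 = q1 * b1 := by
    refine Subtype.ext ?_
    show (H.b : P) * (q : P) = q * H.b
    exact (congrArg Subtype.val (H.Q_comm_b hq)).symm
  have hxq : x1 * q1 * x1⁻¹ = q1 * z1 ^ k₀ := Subtype.ext (by
    have h := congrArg Subtype.val hk₀
    rw [hsx, D.coe_cj] at h
    push_cast at h ⊢
    exact h)
  have hgen : ∀ e : E₁, ∃ k l m n : ℕ, e = x1 ^ k * (b1 ^ l * (q1 ^ m * z1 ^ n)) := by
    intro e
    obtain ⟨k, f, hf, he⟩ := D.exists_pow_mul hE₂ hx2 (e : P)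
    have hf1 : f ∈ E₁ := by
      have h := mul_mem (inv_mem (pow_mem hx1 k)) e.2
      rwa [he, inv_mul_cancel_left] at h
    obtain ⟨j, r, hr, hjr⟩ := H.sub_decomp (x := ⟨f, hf⟩) hf1
    obtain ⟨m, n', rfl⟩ := hQgen r hr
    refine ⟨k, j, m, n', Subtype.ext ?_⟩
    push_cast
    rw [he]
    have := congrArg Subtype.val hjr
    push_cast at this
    rw [this]
  have hΦz : frattini E₁ ≤ zpowers z1 := by
    have hπx : π x1 ^ p = 1 := by
      rw [← map_pow, show x1 ^ p = z1 ^ l₀ from Subtype.ext (by push_cast; exact hl₀), map_pow, hπz, one_pow]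
    have hcxq : Commute (π x1) (π q1) := by
      have h := congrArg π hxq
      rw [map_mul, map_mul, map_inv, map_mul, map_pow, hπz, one_pow, mul_one, mul_inv_eq_iff_eq_mul] at h
      exact h
    have hcxb : Commute (π x1) (π b1) := by
      show π x1 * π b1 = π b1 * π x1
      rw [← map_mul, ← map_mul, hbx]
    have hcbq : Commute (π b1) (π q1) := by
      show π b1 * π q1 = π q1 * π b1
      rw [← map_mul, ← map_mul, hbq]
    have hcomm : ∀ e f : E₁, Commute (π e) (π f) := by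
      intro e f
      obtain ⟨k, l, m, n, rfl⟩ := hgen e
      obtain ⟨k', l', m', n', rfl⟩ := hgen f
      simp only [map_mul, map_pow, hπz, one_pow, mul_one]
      exact ((((Commute.refl _).pow_right k').mul_right ((hcxb.pow_right l').mul_right (hcxq.pow_right m'))).pow_left k).mul_left
        ((((hcxb.symm.pow_right k').mul_right (((Commute.refl _).pow_right l').mul_right (hcbq.pow_right m'))).pow_left l).mul_left
          (((hcxq.symm.pow_right k').mul_right ((hcbq.symm.pow_right l').mul_right ((Commute.refl _).pow_right m'))).pow_left m))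
    refine CfsgLib.RankFrattini.frattini_le_of_elementary (p := p) (D.pg.to_subgroup E₁) _ (fun e f => ?_) fun e => ?_
    · rw [← QuotientGroup.eq_one_iff]
      show π _ = 1
      rw [map_commutatorElement, commutatorElement_eq_one_iff_mul_comm]
      exact hcomm e f
    · rw [← QuotientGroup.eq_one_iff]
      show π _ = 1
      obtain ⟨k, l, m, n, rfl⟩ := hgen e
      have hb1p : b1 ^ p = 1 := Subtype.ext (by
        push_cast
        exact congrArg Subtype.val H.b_pow |>.trans rfl |> fun h => by push_cast at h; exact h)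
      have hq1p : q1 ^ p = 1 := Subtype.ext (by
        push_cast
        have := congrArg Subtype.val hqp
        push_cast at this
        exact this)
      rw [map_pow, map_mul, (hcomm _ _).mul_pow, map_mul, (hcomm _ _).mul_pow, map_mul, (hcomm _ _).mul_pow,
        map_pow, map_pow, map_pow, map_pow, hπz, one_pow, one_pow, ← pow_mul, ← pow_mul, ← pow_mul, mul_comm k,
        mul_comm l, mul_comm m, pow_mul, pow_mul, pow_mul, hπx, ← map_pow π b1, hb1p, ← map_pow π q1, hq1p, map_one,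
        one_pow, one_pow, one_pow, one_mul, one_mul, mul_one]
  -- it is not trivial
  have hzΦ : z1 ∈ frattini E₁ := by
    by_contra hno
    have hpow : ∀ l, z1 ^ l ∈ frattini E₁ → z1 ^ l = 1 := fun l hl => by
      by_contra hne
      obtain ⟨m, hm⟩ := exists_pow_pow_eq (G := E₁) (Subtype.ext (by
        rw [Subgroup.coe_pow]; exact D.mov_pow (mem_subgroupOf.mp H.zE_V))) hne
      exact hno (hm ▸ pow_mem hl m)
    have hxp : x1 ^ p = 1 := by
      have e : x1 ^ p = z1 ^ l₀ := Subtype.ext (by push_cast; exact hl₀)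
      rw [e]
      exact hpow _ (e ▸ CfsgLib.pow_mem_frattini_pGroup (D.pg.to_subgroup E₁) x1)
    have hk0 : z1 ^ k₀ = 1 := hpow _ (by
      have h := CfsgLib.commutator_le_frattini_pGroup (D.pg.to_subgroup E₁)
        (commutator_mem_commutator (mem_top x1) (mem_top q1))
      rw [commutatorElement_def, hxq] at h
      have h' := (inferInstance : (frattini E₁).Normal).conj_mem _ h q1⁻¹
      simpa [mul_assoc] using h')
    have hcomm : ∀ e f : E₁, e * f = f * e := by
      have hxq' : Commute x1 q1 := by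
        have h := hxq
        rw [hk0, mul_one, mul_inv_eq_iff_eq_mul] at h
        exact h
      have hzc : ∀ e : E₁, Commute e z1 := fun e => Subtype.ext (D.mov_comm (mem_subgroupOf.mp H.zE_V) e.2)
      intro e f
      obtain ⟨k, l, m, n, rfl⟩ := hgen e
      obtain ⟨k', l', m', n', rfl⟩ := hgen f
      have r1 : ∀ {g : E₁}, Commute g x1 → Commute g b1 → Commute g q1 →
          Commute g (x1 ^ k' * (b1 ^ l' * (q1 ^ m' * z1 ^ n'))) := fun h1 h2 h3 =>
        (h1.pow_right k').mul_right ((h2.pow_right l').mul_right ((h3.pow_right m').mul_right ((hzc _).pow_right n')))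
      exact (((r1 (Commute.refl _) hbx.symm hxq').pow_left k).mul_left
        (((r1 hbx (Commute.refl _) hbq).pow_left l).mul_left
          (((r1 hxq'.symm hbq.symm (Commute.refl _)).pow_left m).mul_left
            ((r1 (hzc x1).symm (hzc b1).symm (hzc q1).symm).pow_left n)))).eq
    have hexp : ∀ e : E₁, e ^ p = 1 := by
      intro e
      obtain ⟨k, l, m, n, rfl⟩ := hgen e
      have cm : ∀ g h : E₁, Commute g h := hcomm
      rw [(cm _ _).mul_pow, (cm _ _).mul_pow, (cm _ _).mul_pow, ← pow_mul, ← pow_mul, ← pow_mul, ← pow_mul,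
        mul_comm k, mul_comm l, mul_comm m, mul_comm n, pow_mul, pow_mul, pow_mul, pow_mul, hxp,
        show b1 ^ p = 1 from Subtype.ext (by rw [Subgroup.coe_pow]; exact D.mov_pow H.bV),
        show q1 ^ p = 1 from Subtype.ext (by rw [Subgroup.coe_pow]; exact (congrArg Subtype.val hqp)),
        show z1 ^ p = 1 from Subtype.ext (by rw [Subgroup.coe_pow]; exact D.mov_pow (mem_subgroupOf.mp H.zE_V)),
        one_pow, one_pow, one_pow, one_pow, mul_one, mul_one, mul_one]
    have hle := D.elementary_le (U := E₁)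
      (fun a ha b hb => congrArg Subtype.val (hcomm ⟨a, ha⟩ ⟨b, hb⟩)) fun a ha => congrArg Subtype.val (hexp ⟨a, ha⟩)
    rw [hcardE, H.card_mem] at hle
    have hlt : p < Nat.card H.Q := by
      have hlt' : zpowers H.zE < H.Q := lt_of_le_of_ne (zpowers_le.mpr H.zE_Q) fun e => hqz (e.ge hq)
      have h := lt_of_le_of_ne (Subgroup.card_le_of_le hlt'.le) fun e => hlt'.ne (eq_of_le_of_card_ge hlt'.le e.ge)
      rwa [Nat.card_zpowers, orderOf_eq_prime H.zE_pow H.zE_ne] at h
    have := Nat.mul_lt_mul_of_pos_left hlt (pow_pos hpp.pos 2)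
    rw [← pow_succ] at this
    norm_num at this
    omega
  -- the orbit of the centre
  have hzinv : ∀ α ∈ D.A E₁, ∀ w ∈ zpowers z1, α w ∈ zpowers z1 := fun α _ w hw =>
    hΦz (Sys.frattini_inv ((zpowers_le.mpr hzΦ : zpowers z1 ≤ frattini E₁) hw))
  refine H.mover.2 fun v hv => ?_
  suffices hsub : D.mov E₁ ≤ zpowers (H.zE : P) by
    obtain ⟨k, rfl⟩ := hsub hv
    refine zpow_mem (mem_center_iff.mpr fun g => ?_) k
    obtain ⟨m, f, hf, rfl⟩ := D.exists_pow_mul hE₂ hx2 g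
    have h1 : Commute x (H.zE : P) := D.mov_comm (mem_subgroupOf.mp H.zE_V) hx1
    have h2 : Commute f (H.zE : P) := congrArg Subtype.val (mem_center_iff.mp H.zE_center ⟨f, hf⟩)
    exact ((h1.pow_left m).mul_left h2).eq
  rw [Sys.mov, closure_le]
  rintro _ ⟨α, hα, e, he, rfl⟩
  suffices hez : e ∈ zpowers z1 by
    obtain ⟨k, hk⟩ := hzinv α hα e hez
    exact ⟨k, by rw [← hk]; push_cast; rfl⟩
  have heV : (e : P) ∈ D.mov E₁ := D.zOne_le_mov hE₁ he
  obtain ⟨j, r, hr, hjr, hse⟩ := hsfix e (H.le heV)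
  have hzj : H.zE ^ j = 1 := by
    have h : H.u * (e : P) * H.u⁻¹ = e := by rw [mem_center_iff.mp he.1 H.u, mul_inv_cancel_right]
    have h' : s e = e := Subtype.ext (by rw [hs, D.coe_cj]; exact h)
    rw [h'] at hse
    refine Subtype.ext ?_
    have := congrArg Subtype.val (mul_eq_right.mp hse.symm)
    push_cast at this ⊢
    exact this
  have hbj : H.b ^ j = 1 := by
    by_contra hne
    exact H.zE_pow_ne hne hzj
  rw [hbj, one_mul] at hjr
  obtain ⟨k, l, hkl⟩ := hQgen r hr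
  have he' : (e : P) = (q : P) ^ k * (H.zE : P) ^ l := by
    have := congrArg Subtype.val hjr
    rw [hkl] at this
    push_cast at this
    exact this
  have hqk : q ^ k = 1 := hq1V k (by
    rw [show q1 ^ k = e * (z1 ^ l)⁻¹ from Subtype.ext (by push_cast; rw [he', mul_inv_cancel_right])]
    exact mul_mem (mem_sup_left (mem_subgroupOf.mpr heV)) (inv_mem (pow_mem (mem_sup_left hz1V) l)))
  rw [show e = z1 ^ l from Subtype.ext (by
    push_cast
    have h9 := congrArg Subtype.val hqk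
    push_cast at h9
    rw [he', h9, one_mul])]
  exact pow_mem (mem_zpowers _) l

end Pair

end CfsgLib.SectThree
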