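import Cfsg.Agent.Lib.SectThree.Torus
import Cfsg.Agent.Lib.SectThree.Basic
import Cfsg.Agent.Lib.Solvable.Frattini

/-!
Two noncommuting translates of the orbit of the centre inside a member: the frame.
-/

set_option autoImplicit false
set_option linter.unusedSectionVars false
set_option linter.style.haveILetI false

namespace CfsgLib.SectThree

open Subgroup

variable {p : ℕ} [hpf : Fact p.Prime] {P : Type*} [Group P] [Finite P]

/-- Noncommuting elements of the orbit of `E₁` and of a translate of it inside `E₂`. -/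
structure Pair (D : Sys p P) (E₁ E₂ : Subgroup P) where
  mover : D.IsMover E₁
  mem : E₂ ∈ D.Ess
  le : D.mov E₁ ≤ E₂
  α : MulAut E₂
  αA : α ∈ D.A E₂
  a : E₂
  b : E₂
  aV : (a : P) ∈ D.mov E₁
  bV : (b : P) ∈ D.mov E₁
  nc : α a * b ≠ b * α a

namespace Pair

variable {D : Sys p P} {E₁ E₂ : Subgroup P} (H : Pair D E₁ E₂)

/-- The moved element. -/
def u : P := ((H.α H.a : E₂) : P)

/-- The orbit inside the member. -/
def Vs (_H : Pair D E₁ E₂) : Subgroup E₂ := (D.mov E₁).subgroupOf E₂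

/-- The translate. -/
def U : Subgroup E₂ := H.Vs.map H.α.toMonoidHom

/-- The part of the intersection commuting with the translate. -/
def Q : Subgroup E₂ := E₁.subgroupOf E₂ ⊓ (E₁.subgroupOf E₂).map H.α.toMonoidHom

/-- The commutator. -/
def zE : E₂ := H.α H.a * H.b * (H.α H.a)⁻¹ * H.b⁻¹

include H

theorem b_mem : (H.b : P) ∈ E₁ := D.mov_le H.bV
theorem a_mem : (H.a : P) ∈ E₁ := D.mov_le H.aV

theorem u_mem : H.u ∈ E₂ := (H.α H.a).2

theorem u_pow : H.u ^ p = 1 := by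
  show ((H.α H.a : E₂) : P) ^ p = 1
  rw [← Subgroup.coe_pow, ← map_pow, show H.a ^ p = 1 from Subtype.ext (by
    rw [Subgroup.coe_pow]; exact D.mov_pow H.aV), map_one, Subgroup.coe_one]

theorem u_notMem : H.u ∉ E₁ := fun h => H.nc (Subtype.ext (by
  push_cast
  exact D.mov_comm H.bV h))

theorem comm_V {x : E₂} (hx : (x : P) ∈ E₁) {v : E₂} (hv : v ∈ H.Vs) : x * v = v * x :=
  Subtype.ext (D.mov_comm (mem_subgroupOf.mp hv) hx)

theorem comm_U {x : E₂} (hx : x ∈ (E₁.subgroupOf E₂).map H.α.toMonoidHom) {v : E₂} (hv : v ∈ H.U) :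
    x * v = v * x := by
  obtain ⟨x', hx', rfl⟩ := hx
  obtain ⟨v', hv', rfl⟩ := hv
  show H.α x' * H.α v' = H.α v' * H.α x'
  rw [← map_mul, ← map_mul, H.comm_V (mem_subgroupOf.mp hx') hv']

theorem αa_U : H.α H.a ∈ H.U := ⟨H.a, mem_subgroupOf.mpr H.aV, rfl⟩

theorem b_notMem : H.b ∉ (E₁.subgroupOf E₂).map H.α.toMonoidHom := fun h =>
  H.nc (H.comm_U h H.αa_U).symm

theorem sub_normal : (E₁.subgroupOf E₂).Normal :=
  haveI := D.nrm E₁ H.mover.1
  Subgroup.normal_subgroupOf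

theorem sub_index : (E₁.subgroupOf E₂).index = p := by
  haveI := D.nrm E₁ H.mover.1
  have hdvd : E₁.relIndex E₂ ∣ p := by
    have h := Subgroup.relIndex_dvd_index_of_normal E₁ E₂
    rwa [D.idx E₁ H.mover.1] at h
  refine ((Nat.dvd_prime hpf.out).mp hdvd).resolve_left fun h => H.u_notMem ?_
  exact Subgroup.relIndex_eq_one.mp h H.u_mem

theorem map_sub_index : ((E₁.subgroupOf E₂).map H.α.toMonoidHom).index = p :=
  (index_map_equiv _ H.α).trans H.sub_index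

theorem decomp (x : E₂) : ∃ (i j : ℕ) (q : E₂), q ∈ H.Q ∧ x = H.α H.a ^ i * H.b ^ j * q := by
  haveI := H.sub_normal
  haveI hn' : ((E₁.subgroupOf E₂).map H.α.toMonoidHom).Normal := H.sub_normal.map _ H.α.surjective
  have hu1 : H.α H.a ∉ E₁.subgroupOf E₂ := fun h => H.u_notMem (mem_subgroupOf.mp h)
  obtain ⟨i, hi⟩ := mem_powers_iff_mem_zpowers.mpr (mem_zpowers_of_prime_card (G := E₂ ⧸ E₁.subgroupOf E₂)
    H.sub_index (g' := (x : E₂ ⧸ E₁.subgroupOf E₂))
    (fun h => hu1 ((QuotientGroup.eq_one_iff (N := E₁.subgroupOf E₂) (H.α H.a)).mp h)))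
  have hd : (H.α H.a ^ i)⁻¹ * x ∈ E₁.subgroupOf E₂ := (QuotientGroup.eq).mp (by
    rw [QuotientGroup.mk_pow]; exact hi)
  obtain ⟨j, hj⟩ := mem_powers_iff_mem_zpowers.mpr (mem_zpowers_of_prime_card
    (G := E₂ ⧸ (E₁.subgroupOf E₂).map H.α.toMonoidHom) H.map_sub_index
    (g' := (((H.α H.a ^ i)⁻¹ * x : E₂) : E₂ ⧸ (E₁.subgroupOf E₂).map H.α.toMonoidHom))
    (fun h => H.b_notMem ((QuotientGroup.eq_one_iff (N := (E₁.subgroupOf E₂).map H.α.toMonoidHom) H.b).mp h)))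
  refine ⟨i, j, (H.b ^ j)⁻¹ * ((H.α H.a ^ i)⁻¹ * x), ⟨(E₁.subgroupOf E₂).mul_mem ((E₁.subgroupOf E₂).inv_mem ((E₁.subgroupOf E₂).pow_mem (mem_subgroupOf.mpr H.b_mem) j)) hd,
    (QuotientGroup.eq).mp (by rw [QuotientGroup.mk_pow]; exact hj)⟩, by group⟩

theorem Q_comm_u {q : E₂} (hq : q ∈ H.Q) : q * H.α H.a = H.α H.a * q := H.comm_U hq.2 H.αa_U

theorem Q_comm_b {q : E₂} (hq : q ∈ H.Q) : q * H.b = H.b * q :=
  H.comm_V (mem_subgroupOf.mp hq.1) (mem_subgroupOf.mpr H.bV)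

theorem zE_V : H.zE ∈ H.Vs := by
  haveI := D.mov_normal H.mover.1
  refine mem_subgroupOf.mpr ?_
  show H.u * (H.b : P) * H.u⁻¹ * (H.b : P)⁻¹ ∈ D.mov E₁
  exact mul_mem ((inferInstance : (D.mov E₁).Normal).conj_mem _ H.bV H.u) (inv_mem H.bV)

theorem zE_U : H.zE ∈ H.U := by
  haveI := D.mov_normal H.mover.1
  haveI : H.Vs.Normal := Subgroup.normal_subgroupOf
  haveI : H.U.Normal := (inferInstance : H.Vs.Normal).map _ H.α.surjective
  show H.α H.a * H.b * (H.α H.a)⁻¹ * H.b⁻¹ ∈ H.U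
  rw [show H.α H.a * H.b * (H.α H.a)⁻¹ * H.b⁻¹ = H.α H.a * (H.b * (H.α H.a)⁻¹ * H.b⁻¹) by group]
  exact mul_mem H.αa_U ((inferInstance : H.U.Normal).conj_mem _ (inv_mem H.αa_U) H.b)

theorem zE_Q : H.zE ∈ H.Q := by
  refine ⟨mem_subgroupOf.mpr (D.mov_le (mem_subgroupOf.mp H.zE_V)), ?_⟩
  obtain ⟨v, hv, he⟩ := H.zE_U
  exact ⟨v, mem_subgroupOf.mpr (D.mov_le (mem_subgroupOf.mp hv)), he⟩

theorem zE_pow : H.zE ^ p = 1 :=
  Subtype.ext (by rw [Subgroup.coe_pow]; exact D.mov_pow (mem_subgroupOf.mp H.zE_V))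

theorem zE_ne : H.zE ≠ 1 := fun h => H.nc (by
  have h' : H.α H.a * H.b * (H.α H.a)⁻¹ * H.b⁻¹ = 1 := h
  rwa [mul_inv_eq_one, mul_inv_eq_iff_eq_mul] at h')

theorem mem_center_of (x : E₂) (hu : x * H.α H.a = H.α H.a * x) (hb : x * H.b = H.b * x)
    (hQ : ∀ q ∈ H.Q, x * q = q * x) : x ∈ center E₂ := by
  refine mem_center_iff.mpr fun g => ?_
  obtain ⟨i, j, q, hq, rfl⟩ := H.decomp g
  exact ((((show Commute x (H.α H.a) from hu).pow_right i).mul_right
    ((show Commute x H.b from hb).pow_right j)).mul_right (hQ q hq)).symm.eq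

theorem zE_center : H.zE ∈ center E₂ :=
  H.mem_center_of _ (H.Q_comm_u H.zE_Q) (H.Q_comm_b H.zE_Q) fun q hq =>
    (H.comm_V (mem_subgroupOf.mp hq.1) H.zE_V).symm

theorem conj_b : H.α H.a * H.b = H.zE * (H.b * H.α H.a) := by
  show H.α H.a * H.b = H.α H.a * H.b * (H.α H.a)⁻¹ * H.b⁻¹ * (H.b * H.α H.a)
  group

theorem indep {i j : ℕ} {q : E₂} (hq : q ∈ H.Q) (h : H.α H.a ^ i * H.b ^ j * q = 1) : p ∣ i ∧ p ∣ j := by
  have hprime : ∀ {M : Subgroup E₂} {g : E₂} {n : ℕ}, g ^ p = 1 → g ∉ M → g ^ n ∈ M → p ∣ n := by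
    intro M g n hg hgM hn
    by_contra hpn
    obtain ⟨m, -, hm⟩ := Nat.exists_mul_mod_eq_one_of_coprime
      ((hpf.out.coprime_iff_not_dvd.mpr hpn).symm) hpf.out.one_lt
    refine hgM ?_
    have h1 := pow_mem hn m
    rwa [← pow_mul, pow_eq_pow_mod _ hg, hm, pow_one] at h1
  have hap : H.α H.a ^ p = 1 := Subtype.ext (by rw [Subgroup.coe_pow]; exact H.u_pow)
  have hbp : H.b ^ p = 1 := Subtype.ext (by rw [Subgroup.coe_pow]; exact D.mov_pow H.bV)
  have hi : p ∣ i := hprime hap (fun h' => H.u_notMem (mem_subgroupOf.mp h') : H.α H.a ∉ E₁.subgroupOf E₂) (by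
    have e : H.α H.a ^ i = (H.b ^ j * q)⁻¹ := eq_inv_of_mul_eq_one_left (by rw [← mul_assoc]; exact h)
    rw [e]
    exact inv_mem (mul_mem (pow_mem (mem_subgroupOf.mpr H.b_mem) j) hq.1))
  refine ⟨hi, hprime hbp H.b_notMem ?_⟩
  obtain ⟨k, rfl⟩ := hi
  rw [pow_mul, hap, one_pow, one_mul] at h
  rw [eq_inv_of_mul_eq_one_left h]
  exact inv_mem hq.2

theorem card_mem : Nat.card E₂ = p ^ 2 * Nat.card H.Q := by
  haveI := H.sub_normal
  haveI : ((E₁.subgroupOf E₂).map H.α.toMonoidHom).Normal := H.sub_normal.map _ H.α.surjective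
  haveI : H.Q.Normal := by unfold Pair.Q; infer_instance
  have hpp : p.Prime := hpf.out
  have hap : H.α H.a ^ p = 1 := Subtype.ext (by rw [Subgroup.coe_pow]; exact H.u_pow)
  have hbp : H.b ^ p = 1 := Subtype.ext (by rw [Subgroup.coe_pow]; exact D.mov_pow H.bV)
  have hbij : Function.Bijective (fun x : Fin p × Fin p =>
      ((H.α H.a ^ (x.1 : ℕ) * H.b ^ (x.2 : ℕ) : E₂) : E₂ ⧸ H.Q)) := by
    constructor
    · rintro ⟨i, j⟩ ⟨i', j'⟩ h
      have hm := (QuotientGroup.eq).mp h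
      -- move everything to the normal form
      let π := QuotientGroup.mk' H.Q
      have hab : Commute (π (H.α H.a)) (π H.b) := by
        show π (H.α H.a) * π H.b = π H.b * π (H.α H.a)
        rw [← map_mul, H.conj_b, map_mul, show π H.zE = 1 from (QuotientGroup.eq_one_iff _).mpr H.zE_Q,
          one_mul, map_mul]
      have he : π (H.α H.a ^ (p - (i : ℕ) + i') * H.b ^ (p - (j : ℕ) + j')) = 1 := by
        have h1 : π (H.α H.a ^ (i : ℕ) * H.b ^ (j : ℕ)) = π (H.α H.a ^ (i' : ℕ) * H.b ^ (j' : ℕ)) := h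
        simp only [map_mul, map_pow] at h1 ⊢
        have hi : (π (H.α H.a)) ^ (p - (i : ℕ)) = ((π (H.α H.a)) ^ (i : ℕ))⁻¹ := (inv_eq_of_mul_eq_one_right (by
          rw [← pow_add, Nat.add_sub_cancel' i.2.le, ← map_pow, hap, map_one])).symm
        have hj : (π H.b) ^ (p - (j : ℕ)) = ((π H.b) ^ (j : ℕ))⁻¹ := (inv_eq_of_mul_eq_one_right (by
          rw [← pow_add, Nat.add_sub_cancel' j.2.le, ← map_pow, hbp, map_one])).symm
        rw [pow_add, pow_add, hi, hj, mul_assoc, ← mul_assoc ((π (H.α H.a)) ^ (i' : ℕ)),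
          ((hab.pow_pow (i' : ℕ) (j : ℕ)).inv_right).eq, mul_assoc, ← mul_assoc, ← mul_inv_rev,
          ((hab.pow_pow (i : ℕ) (j : ℕ))).symm.eq, ← h1, inv_mul_cancel]
      have hmem : H.α H.a ^ (p - (i : ℕ) + i') * H.b ^ (p - (j : ℕ) + j') ∈ H.Q :=
        (QuotientGroup.eq_one_iff _).mp he
      obtain ⟨⟨a, ha⟩, ⟨b, hb⟩⟩ := H.indep (H.Q.inv_mem hmem) (mul_inv_cancel _)
      have key : ∀ {a i i' : ℕ}, p - i + i' = p * a → i < p → i' < p → i = i' := by
        intro a i i' ha hi hi'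
        rcases Nat.lt_trichotomy a 1 with h' | h' | h'
        · rw [show a = 0 by omega] at ha; omega
        · rw [h'] at ha; omega
        · have : p * 2 ≤ p * a := Nat.mul_le_mul_left p h'
          omega
      exact Prod.ext (Fin.ext (key ha i.2 i'.2)) (Fin.ext (key hb j.2 j'.2))
    · intro c
      obtain ⟨x, rfl⟩ := QuotientGroup.mk_surjective c
      obtain ⟨i, j, q, hq, rfl⟩ := H.decomp x
      refine ⟨(⟨i % p, Nat.mod_lt _ hpp.pos⟩, ⟨j % p, Nat.mod_lt _ hpp.pos⟩), (QuotientGroup.eq).mpr ?_⟩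
      show (H.α H.a ^ (i % p) * H.b ^ (j % p))⁻¹ * (H.α H.a ^ i * H.b ^ j * q) ∈ H.Q
      rw [← pow_eq_pow_mod i hap, ← pow_eq_pow_mod j hbp, inv_mul_cancel_left]
      exact hq
  have h1 := H.Q.card_mul_index
  rw [Subgroup.index_eq_card, ← Nat.card_eq_of_bijective _ hbij, Nat.card_prod, Nat.card_fin] at h1
  rw [← h1]; ring

/-- Modulo the commutator the common part is cyclic. -/
theorem exists_gen : ∃ q₀ ∈ H.Q, H.Q = zpowers q₀ ⊔ zpowers H.zE := by
  haveI := H.sub_normal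
  haveI : ((E₁.subgroupOf E₂).map H.α.toMonoidHom).Normal := H.sub_normal.map _ H.α.surjective
  haveI : H.Q.Normal := by unfold Pair.Q; infer_instance
  have hpp : p.Prime := hpf.out
  set M : Subgroup E₂ := (frattini H.Q).map H.Q.subtype ⊔ zpowers H.zE with hM
  haveI : ((frattini H.Q).map H.Q.subtype).Normal := by
    refine ⟨?_⟩
    rintro _ ⟨v, hv, rfl⟩ g
    exact ⟨MulAut.conjNormal g v, (Subgroup.characteristic_iff_comap_eq.mp frattini_characteristic
      (MulAut.conjNormal g)).ge hv, MulAut.conjNormal_apply g v⟩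
  haveI : (zpowers H.zE).Normal := ⟨fun w hw g => by
    obtain ⟨k, rfl⟩ := hw
    rw [mem_center_iff.mp (zpow_mem H.zE_center k) g, mul_inv_cancel_right]
    exact zpow_mem (mem_zpowers _) k⟩
  haveI : M.Normal := Subgroup.sup_normal _ _
  have hMQ : M ≤ H.Q := sup_le (map_subtype_le _) (zpowers_le.mpr H.zE_Q)
  have hpg2 : IsPGroup p E₂ := D.pg.to_subgroup E₂
  have hpg : IsPGroup p H.Q := hpg2.to_subgroup H.Q
  let π := QuotientGroup.mk' M
  have hz : π H.zE = 1 := (QuotientGroup.eq_one_iff _).mpr (mem_sup_right (mem_zpowers _))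
  have hab : Commute (π (H.α H.a)) (π H.b) := by
    show π (H.α H.a) * π H.b = π H.b * π (H.α H.a)
    rw [← map_mul, H.conj_b, map_mul, hz, one_mul, map_mul]
  have hqq : ∀ q ∈ H.Q, ∀ q' ∈ H.Q, Commute (π q) (π q') := fun q hq q' hq' => by
    show π q * π q' = π q' * π q
    rw [← map_mul, ← map_mul]
    refine QuotientGroup.eq.mpr (mem_sup_left ⟨_, CfsgLib.commutator_le_frattini_pGroup hpg
      (commutator_mem_commutator (mem_top (⟨q', hq'⟩ : H.Q)⁻¹) (mem_top (⟨q, hq⟩ : H.Q)⁻¹)), ?_⟩)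
    simp [commutatorElement_def, mul_assoc]
  have hqu : ∀ q ∈ H.Q, Commute (π q) (π (H.α H.a)) := fun q hq => by
    show π q * π _ = π _ * π q
    rw [← map_mul, H.Q_comm_u hq, map_mul]
  have hqb : ∀ q ∈ H.Q, Commute (π q) (π H.b) := fun q hq => by
    show π q * π _ = π _ * π q
    rw [← map_mul, H.Q_comm_b hq, map_mul]
  have hcomm : ∀ x y : E₂, Commute (π x) (π y) := by
    intro x y
    obtain ⟨i, j, q, hq, rfl⟩ := H.decomp x
    obtain ⟨i', j', q', hq', rfl⟩ := H.decomp y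
    simp only [map_mul, map_pow]
    have hu := fun {w} (h : Commute (π (H.α H.a)) w) => h.pow_left i
    refine (((hu ?_).mul_left (?_ : Commute (π H.b ^ j) _))).mul_left ?_
    · exact (((Commute.refl _).pow_right i').mul_right (hab.pow_right j')).mul_right (hqu q' hq').symm
    · exact (((hab.symm.pow_right i').mul_right ((Commute.refl _).pow_right j')).mul_right (hqb q' hq').symm).pow_left j
    · exact (((hqu q hq).pow_right i').mul_right ((hqb q hq).pow_right j')).mul_right (hqq q hq q' hq')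
  have hexp : ∀ x : E₂, x ^ p ∈ M := by
    intro x
    obtain ⟨i, j, q, hq, rfl⟩ := H.decomp x
    rw [← QuotientGroup.eq_one_iff]
    show π _ = 1
    rw [map_pow, map_mul, map_mul,
      (show Commute (π (H.α H.a ^ i) * π (H.b ^ j)) (π q) by rw [← map_mul]; exact hcomm _ _).mul_pow,
      (hcomm (H.α H.a ^ i) (H.b ^ j)).mul_pow, ← map_pow π, ← map_pow π, ← map_pow π,
      ← pow_mul, ← pow_mul, mul_comm i, mul_comm j, pow_mul, pow_mul,
      show H.α H.a ^ p = 1 from Subtype.ext (by rw [Subgroup.coe_pow]; exact H.u_pow),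
      show H.b ^ p = 1 from Subtype.ext (by rw [Subgroup.coe_pow]; exact D.mov_pow H.bV), one_pow, one_pow,
      map_one, one_mul, one_mul]
    exact (QuotientGroup.eq_one_iff _).mpr (mem_sup_left ⟨_, CfsgLib.pow_mem_frattini_pGroup hpg ⟨q, hq⟩, rfl⟩)
  have hle := D.section_le (U := E₂) (N := M.map E₂.subtype) (map_subtype_le _)
    (fun g hg _ hn => by
      obtain ⟨n, hn, rfl⟩ := hn
      exact ⟨⟨g, hg⟩ * n * (⟨g, hg⟩ : E₂)⁻¹, (inferInstance : M.Normal).conj_mem n hn _, rfl⟩)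
    (fun x hx y hy => ⟨⟨x, hx⟩ * ⟨y, hy⟩ * (⟨x, hx⟩ : E₂)⁻¹ * (⟨y, hy⟩ : E₂)⁻¹, by
      refine (QuotientGroup.eq_one_iff _).mp (show π _ = 1 from ?_)
      rw [map_mul, map_mul, map_mul, (hcomm _ _).eq]
      simp, rfl⟩)
    (fun x hx => ⟨⟨x, hx⟩ ^ p, hexp _, rfl⟩)
  rw [card_map_of_injective E₂.subtype_injective, H.card_mem] at hle
  have hQM : Nat.card H.Q ≤ p * Nat.card M :=
    Nat.le_of_mul_le_mul_left (hle.trans (le_of_eq (by ring))) (pow_pos hpp.pos 2)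
  have hgen : ∀ q : E₂, q ∈ H.Q → M ⊔ zpowers q = H.Q → H.Q = zpowers q ⊔ zpowers H.zE := by
    intro q hq he
    refine le_antisymm ?_ (sup_le (zpowers_le.mpr hq) (zpowers_le.mpr H.zE_Q))
    have htop : (zpowers q ⊔ zpowers H.zE).subgroupOf H.Q = ⊤ := by
      refine CfsgLib.FrattiniLemmas.eq_top_of_sup_eq_top le_rfl (eq_top_iff.mpr fun v _ => ?_)
      have hle2 : M ⊔ zpowers q ≤ ((zpowers q ⊔ zpowers H.zE).subgroupOf H.Q ⊔ frattini H.Q).map H.Q.subtype := by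
        refine sup_le (sup_le (map_mono le_sup_right) ?_) ?_
        · exact zpowers_le.mpr ⟨⟨H.zE, H.zE_Q⟩, mem_sup_left (mem_subgroupOf.mpr (mem_sup_right (mem_zpowers _))), rfl⟩
        · exact zpowers_le.mpr ⟨⟨q, hq⟩, mem_sup_left (mem_subgroupOf.mpr (mem_sup_left (mem_zpowers _))), rfl⟩
      exact (mem_map_iff_mem H.Q.subtype_injective).mp (hle2 (he.ge v.2))
    exact subgroupOf_eq_top.mp htop
  by_cases hQM' : H.Q ≤ M
  · exact ⟨1, one_mem _, hgen 1 (one_mem _) (by rw [zpowers_one_eq_bot, sup_bot_eq]; exact le_antisymm hMQ hQM')⟩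
  obtain ⟨q, hq, hqM⟩ := SetLike.not_le_iff_exists.mp hQM'
  refine ⟨q, hq, hgen q hq (eq_of_le_of_card_ge (sup_le hMQ (zpowers_le.mpr hq)) ?_)⟩
  have hlt : M < M ⊔ zpowers q := lt_of_le_of_ne le_sup_left fun e => hqM (e.ge (mem_sup_right (mem_zpowers q)))
  obtain ⟨a, ha⟩ := (hpg2.to_subgroup M).exists_card_eq
  obtain ⟨b, hb⟩ := (hpg2.to_subgroup (M ⊔ zpowers q : Subgroup E₂)).exists_card_eq
  have h1 : Nat.card M < Nat.card (M ⊔ zpowers q : Subgroup E₂) :=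
    lt_of_le_of_ne (Subgroup.card_le_of_le hlt.le) fun e => hlt.ne (eq_of_le_of_card_ge hlt.le e.ge)
  rw [ha, hb, Nat.pow_lt_pow_iff_right hpp.one_lt] at h1
  rw [hb]
  refine le_trans hQM ?_
  rw [ha, ← pow_succ']
  exact Nat.pow_le_pow_right hpp.pos h1

theorem Q_le_center : H.Q ≤ center E₂ := by
  obtain ⟨q₀, hq₀, he⟩ := H.exists_gen
  have hqc : q₀ ∈ center E₂ := H.mem_center_of _ (H.Q_comm_u hq₀) (H.Q_comm_b hq₀) fun q hq => by
    obtain ⟨x, hx, y, hy, rfl⟩ := (Subgroup.mem_sup_of_normal_right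
      (ht := ⟨fun w hw g => by
        obtain ⟨k, rfl⟩ := hw
        rw [mem_center_iff.mp (zpow_mem H.zE_center k) g, mul_inv_cancel_right]
        exact zpow_mem (mem_zpowers _) k⟩)).mp (he ▸ hq : q ∈ zpowers q₀ ⊔ zpowers H.zE)
    obtain ⟨k, rfl⟩ := hx
    exact (((Commute.refl q₀).zpow_right k).mul_right (mem_center_iff.mp ((zpowers_le.mpr H.zE_center) hy) q₀)).eq
  rw [he]
  exact sup_le (zpowers_le.mpr hqc) (zpowers_le.mpr H.zE_center)

theorem center_eq : center E₂ = H.Q := by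
  refine le_antisymm (fun x hx => ?_) H.Q_le_center
  obtain ⟨i, j, q, hq, rfl⟩ := H.decomp x
  have hqc := H.Q_le_center hq
  have hc : H.α H.a ^ i * H.b ^ j ∈ center E₂ := by
    have h := mul_mem hx (inv_mem hqc)
    rwa [mul_inv_cancel_right] at h
  have hap : H.α H.a ^ p = 1 := Subtype.ext (by rw [Subgroup.coe_pow]; exact H.u_pow)
  have hbp : H.b ^ p = 1 := Subtype.ext (by rw [Subgroup.coe_pow]; exact D.mov_pow H.bV)
  have hi : H.α H.a ^ i = 1 := by
    by_contra hne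
    have h1 : Commute H.b (H.α H.a ^ i * H.b ^ j) := mem_center_iff.mp hc H.b
    have h2 : Commute H.b (H.α H.a ^ i) := by
      have h3 := h1.mul_right ((Commute.refl H.b).pow_right j).inv_right
      rwa [mul_inv_cancel_right] at h3
    obtain ⟨m, hm⟩ := exists_pow_pow_eq hap hne
    exact H.nc (hm ▸ (h2.pow_right m)).symm.eq
  rw [hi, one_mul] at hc ⊢
  by_cases hj : H.b ^ j = 1
  · rw [hj, one_mul]; exact hq
  exfalso
  obtain ⟨m, hm⟩ := exists_pow_pow_eq hbp hj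
  exact H.nc (mem_center_iff.mp (hm ▸ pow_mem hc m) (H.α H.a))

theorem center_inv {f : MulAut E₂} {x : E₂} (hx : x ∈ H.Q) : f x ∈ H.Q := by
  rw [← H.center_eq] at hx ⊢
  exact mem_center_iff.mpr fun g => by
    rw [← MulAut.apply_inv_self _ f g, ← map_mul, ← map_mul, mem_center_iff.mp hx]

end Pair

end CfsgLib.SectThree
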