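import Cfsg.Agent.Lib.SectThree.Unique

/-!
The large orbit is invariant and lies in every member, so a third member moves it.
-/

set_option autoImplicit false
set_option linter.unusedSectionVars false
set_option linter.style.haveILetI false

namespace CfsgLib.SectThree

open Subgroup

variable {p : ℕ} [hpf : Fact p.Prime] {P : Type*} [Group P] [Finite P]

namespace Moving

variable {D : Sys p P} {E₁ E₂ : Subgroup P} (M : Moving D E₁ E₂)

include M

theorem mov_image {β : MulAut P} (hβ : β ∈ D.B) {v : P} (hv : v ∈ D.mov E₁) : β v ∈ D.orbit E₂ (D.mov E₁) := by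
  obtain ⟨K, hK, -, hmov⟩ := D.mov_trans hβ M.mover.1
  have hmK := D.mover_trans hK M.mover hmov
  have hvK : β v ∈ D.mov K := (hmov _).mpr (by rw [MulAut.inv_apply_self]; exact hv)
  haveI := D.mov_normal M.mover.1
  haveI := D.mov_normal hK
  by_cases hle : D.mov K ≤ D.mov E₁
  · exact D.le_orbit M.le (hle hvK)
  haveI : (D.mov E₁ ⊔ D.mov K).Normal := Subgroup.sup_normal _ _
  have hKE : D.mov K ≤ E₁ := D.mov_le_ess M.noTv hmK M.mover.1
  have hdec : ∀ {a}, a ∈ D.mov E₁ ⊔ D.mov K → ∃ x ∈ D.mov E₁, ∃ y ∈ D.mov K, x * y = a := fun ha =>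
    Subgroup.mem_sup_of_normal_right.mp ha
  have hcx : ∀ {x y}, x ∈ D.mov E₁ → y ∈ D.mov K → Commute y x := fun hx hy => D.mov_comm hx (hKE hy)
  rw [← M.unique (W' := D.mov E₁ ⊔ D.mov K) (fun a ha b hb => ?_) (fun a ha => ?_) le_sup_left
    fun h => hle (le_sup_right.trans h)]
  · exact mem_sup_right hvK
  · obtain ⟨x, hx, y, hy, rfl⟩ := hdec ha
    obtain ⟨x', hx', y', hy', rfl⟩ := hdec hb
    have h1 : Commute x x' := D.mov_comm hx' (D.mov_le hx)
    have h2 : Commute y y' := D.mov_comm hy' (D.mov_le hy)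
    exact ((h1.mul_right (hcx hx hy').symm).mul_left ((hcx hx' hy).mul_right h2)).eq
  · obtain ⟨x, hx, y, hy, rfl⟩ := hdec ha
    rw [(hcx hx hy).symm.mul_pow, D.mov_pow hx, D.mov_pow hy, one_mul]

theorem wd_B {β : MulAut P} (hβ : β ∈ D.B) {w : P} (hw : w ∈ D.orbit E₂ (D.mov E₁)) :
    β w ∈ D.orbit E₂ (D.mov E₁) := by
  haveI : ((D.orbit E₂ (D.mov E₁)).map β.toMonoidHom).Normal := M.wd_normal.map _ β.surjective
  have hV : D.mov E₁ ≤ (D.orbit E₂ (D.mov E₁)).map β.toMonoidHom := fun v hv =>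
    ⟨β⁻¹ v, M.mov_image ((D.B).inv_mem hβ) hv, MulAut.apply_inv_self _ _ _⟩
  have h := M.unique (W' := (D.orbit E₂ (D.mov E₁)).map β.toMonoidHom)
    (by rintro _ ⟨a, ha, rfl⟩ _ ⟨b, hb, rfl⟩
        show β a * β b = β b * β a
        rw [← map_mul, ← map_mul, M.orbit_comm ha hb])
    (by rintro _ ⟨a, ha, rfl⟩
        show β a ^ p = 1
        rw [← map_pow, M.orbit_pow ha, map_one]) hV
    fun hle => by
      have h1 := Subgroup.card_le_of_le hle
      rw [card_map_of_injective β.injective, M.mov_card.1, M.mov_card.2,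
        Nat.pow_le_pow_iff_right hpf.out.one_lt] at h1
      omega
  exact h.le ⟨w, hw, rfl⟩

theorem fix_or {K : Subgroup P} (hK : K ∈ D.Ess) :
    D.orbit K (D.mov E₁) ≤ D.mov E₁ ∨
      (D.orbit E₂ (D.mov E₁) ≤ K ∧ ∀ α ∈ D.A K, ∀ e : K,
        (e : P) ∈ D.orbit E₂ (D.mov E₁) → ((α e : K) : P) ∈ D.orbit E₂ (D.mov E₁)) := by
  by_cases h : D.orbit K (D.mov E₁) ≤ D.mov E₁
  · exact Or.inl h
  have M' : Moving D E₁ K := ⟨M.noTv, M.mover, hK, h⟩
  haveI := M'.wd_normal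
  have he := M.unique (W' := D.orbit K (D.mov E₁)) (fun _ ha _ hb => M'.orbit_comm ha hb)
    (fun _ ha => M'.orbit_pow ha) (D.le_orbit M'.le) h
  exact Or.inr ⟨he ▸ D.orbit_le, fun α hα e hw => he ▸ D.orbit_inv hα (he.symm ▸ hw)⟩

theorem wd_le {K : Subgroup P} (hK : K ∈ D.Ess) : D.orbit E₂ (D.mov E₁) ≤ K := by
  rcases M.fix_or hK with h | h
  swap
  · exact h.1
  intro w hw
  have hVK : D.mov E₁ ≤ K := D.mov_le_ess M.noTv M.mover hK
  have hinv : ∀ α ∈ D.A K, ∀ x ∈ (D.mov E₁).subgroupOf K, α x ∈ (D.mov E₁).subgroupOf K := fun α hα x hx =>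
    mem_subgroupOf.mpr (h (subset_closure ⟨α, hα, x, mem_subgroupOf.mp hx, rfl⟩))
  have hfix : ∀ x ∈ (D.mov E₁).subgroupOf K, D.cj hK w x = x := fun x hx => Subtype.ext (by
    rw [D.coe_cj, D.mov_comm (mem_subgroupOf.mp hx) (M.orbit_le_E₁ hw), mul_inv_cancel_right])
  refine D.mem_of_series hK (L := (D.mov E₁).subgroupOf K) (W := (D.mov E₁).subgroupOf K) le_rfl hinv hinv
    hfix (fun x hx => by rw [hfix x hx, inv_mul_cancel]; exact one_mem _) fun x => mem_subgroupOf.mpr ?_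
  have e : ((x⁻¹ * D.cj hK w x : K) : P) = ((x : P)⁻¹ * w * (x : P)⁻¹⁻¹ * w⁻¹) := by
    push_cast
    rw [D.coe_cj]
    group
  rw [e]
  exact M.wd_comm _ hw

theorem exists_third : ∃ E₃ ∈ D.Ess, D.orbit E₃ (D.mov E₁) ≤ D.mov E₁ ∧
    ∃ α ∈ D.A E₃, ∃ e : E₃, (e : P) ∈ D.orbit E₂ (D.mov E₁) ∧ ((α e : E₃) : P) ∉ D.orbit E₂ (D.mov E₁) := by
  by_contra hno
  push Not at hno
  refine D.core (D.orbit E₂ (D.mov E₁)) (fun h0 => ?_) M.wd_normal (fun β hβ g hg => M.wd_B hβ hg) fun K hK =>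
    ⟨M.wd_le hK, fun α hα e he => ?_⟩
  · have h := M.mov_card.2
    rw [h0, Subgroup.card_bot] at h
    exact (Nat.one_lt_pow three_ne_zero hpf.out.one_lt).ne h
  · rcases M.fix_or hK with h | h
    · exact hno K hK h α hα e he
    · exact h.2 α hα e he

end Moving

end CfsgLib.SectThree
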