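import Cfsg.Agent.Lib.SectThree.Setup

/-!
An element of order `p` outside one of the subgroups, centralising a maximal subgroup of it.
-/

set_option autoImplicit false
set_option linter.unusedSectionVars false
set_option linter.style.haveILetI false

namespace CfsgLib.SectThree

open Subgroup
open MaxClassEssential (Vec vec lin)

variable {p : ℕ} [hpf : Fact p.Prime] {P : Type*} [Group P] [Finite P]

/-- An element of order `p` outside `E` centralising a maximal subgroup of `E`. -/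
structure Tv (D : Sys p P) (E : Subgroup P) (y : P) : Prop where
  hE : E ∈ D.Ess
  out : y ∉ E
  pow : y ^ p = 1
  idx : (centralizer ({y} : Set P)).relIndex E = p

/-- The frame given by such an element and an opposite conjugate. -/
structure KeyData (D : Sys p P) (E : Subgroup P) (y : P) where
  c : P
  d : P
  z : P
  C : Subgroup P
  hE : E ∈ D.Ess
  out : y ∉ E
  ypow : y ^ p = 1
  cE : c ∈ E
  dE : d ∈ E
  CE : C ≤ E
  cpow : c ^ p = 1
  dpow : d ^ p = 1
  yc : y * c = c * y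
  yd : y * d * y⁻¹ = c * d
  cd : c * d * c⁻¹ = z * d
  zC : z ∈ C
  zpow : z ^ p = 1
  yC : ∀ u ∈ C, y * u = u * y
  cC : ∀ u ∈ C, c * u = u * c
  dC : ∀ u ∈ C, d * u = u * d
  decomp : ∀ x ∈ E, ∃ (i j : ℕ) (u : P), u ∈ C ∧ x = d ^ i * c ^ j * u
  indep : ∀ i j : ℕ, d ^ i * c ^ j ∈ C → p ∣ i ∧ p ∣ j

namespace Tv

variable {D : Sys p P} {E : Subgroup P} {y : P} (h : Tv D E y)

/-- The centralised maximal subgroup. -/
def cenE (_h : Tv D E y) : Subgroup P := E ⊓ centralizer ({y} : Set P)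

include h

theorem mem_cenE {x : P} : x ∈ h.cenE ↔ x ∈ E ∧ x * y = y * x :=
  ⟨fun hx => ⟨hx.1, mem_centralizer_singleton_iff.mp hx.2⟩,
    fun hx => ⟨hx.1, mem_centralizer_singleton_iff.mpr hx.2⟩⟩

theorem fix {x : P} (hx : x ∈ h.cenE) : y * x * y⁻¹ = x := by
  rw [← (h.mem_cenE.mp hx).2, mul_inv_cancel_right]

theorem cenE_index : (h.cenE.subgroupOf E).index = p := by
  have h1 := h.idx
  rw [← Subgroup.inf_relIndex_left] at h1
  exact h1

theorem cenE_normal : h.cenE.Normal := by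
  have hpp : p.Prime := hpf.out
  haveI : Nontrivial E := by
    by_contra hne
    haveI := not_nontrivial_iff_subsingleton.mp hne
    have h1 := h.cenE_index
    rw [Subgroup.index_eq_one.mpr (Subsingleton.elim _ _)] at h1
    exact hpp.one_lt.ne h1
  haveI : (h.cenE.subgroupOf E).Normal := by
    refine normal_of_index_eq_minFac_card ?_
    obtain ⟨k, hk⟩ := (D.pg.to_subgroup E).exists_card_eq
    have hk0 : k ≠ 0 := fun h0 => by
      rw [h0, pow_zero] at hk
      exact (Finite.one_lt_card (α := E)).ne' hk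
    rw [h.cenE_index, hk, Nat.Prime.pow_minFac hpp hk0]
  refine ⟨fun x hx g => ?_⟩
  obtain ⟨i, e, he, rfl⟩ := D.exists_pow_mul h.hE h.out g
  have h1 : e * x * e⁻¹ ∈ h.cenE :=
    mem_subgroupOf.mp ((inferInstance : (h.cenE.subgroupOf E).Normal).conj_mem ⟨x, hx.1⟩
      (mem_subgroupOf.mpr hx) ⟨e, he⟩)
  have h2 : (y ^ i) * (e * x * e⁻¹) * (y ^ i)⁻¹ = e * x * e⁻¹ := by
    rw [((show Commute y (e * x * e⁻¹) from (h.mem_cenE.mp h1).2.symm).pow_left i).eq, mul_inv_cancel_right]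
  rw [show y ^ i * e * x * (y ^ i * e)⁻¹ = y ^ i * (e * x * e⁻¹) * (y ^ i)⁻¹ by group, h2]
  exact h1

theorem exists_out : ∃ e ∈ E, e ∉ h.cenE := by
  by_contra hne
  push Not at hne
  have h1 := h.cenE_index
  rw [Subgroup.index_eq_one.mpr (subgroupOf_eq_top.mpr fun x hx => hne x hx)] at h1
  exact hpf.out.one_lt.ne h1

theorem decomp_cenE {e : P} (he : e ∈ E) (heD : e ∉ h.cenE) {x : P} (hx : x ∈ E) :
    ∃ (i : ℕ) (u : P), u ∈ h.cenE ∧ x = e ^ i * u := by
  haveI := h.cenE_normal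
  haveI : (h.cenE.subgroupOf E).Normal := Subgroup.normal_subgroupOf
  have he1 : ((⟨e, he⟩ : E) : E ⧸ h.cenE.subgroupOf E) ≠ 1 := fun h1 =>
    heD (mem_subgroupOf.mp ((QuotientGroup.eq_one_iff (N := h.cenE.subgroupOf E) _).mp h1))
  obtain ⟨i, hi⟩ := mem_powers_iff_mem_zpowers.mpr
    (mem_zpowers_of_prime_card (G := E ⧸ h.cenE.subgroupOf E) h.cenE_index (g' := ((⟨x, hx⟩ : E) : E ⧸ _)) he1)
  refine ⟨i, (e ^ i)⁻¹ * x, ?_, by rw [mul_inv_cancel_left]⟩
  have h2 : ((⟨e, he⟩ : E) ^ i)⁻¹ * ⟨x, hx⟩ ∈ h.cenE.subgroupOf E := (QuotientGroup.eq).mp (by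
    rw [QuotientGroup.mk_pow]
    exact hi)
  exact mem_subgroupOf.mp h2

theorem comm_mem {e : P} (he : e ∈ E) : y * e * y⁻¹ * e⁻¹ ∈ h.cenE := by
  haveI := h.cenE_normal
  have hcard : Nat.card (P ⧸ h.cenE) = p ^ 2 := by
    rw [← Subgroup.index_eq_card, ← relIndex_mul_index (show h.cenE ≤ E from inf_le_left), Subgroup.relIndex,
      h.cenE_index, D.idx E h.hE, pow_two]
  have hc := IsPGroup.commutative_of_card_eq_prime_sq (p := p) hcard
  rw [← QuotientGroup.eq_one_iff]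
  show ((y : P ⧸ h.cenE) * e * (y : P ⧸ h.cenE)⁻¹ * (e : P ⧸ h.cenE)⁻¹) = 1
  rw [hc (y : P ⧸ h.cenE) e]
  group

theorem comm_central {e : P} (he : e ∈ E) {u : P} (hu : u ∈ h.cenE) :
    (y * e * y⁻¹ * e⁻¹) * u = u * (y * e * y⁻¹ * e⁻¹) := by
  haveI := h.cenE_normal
  set c := y * e * y⁻¹ * e⁻¹
  have h1 : y * (e * (e⁻¹ * u * e) * e⁻¹) * y⁻¹ = e * (e⁻¹ * u * e) * e⁻¹ := by
    rw [show e * (e⁻¹ * u * e) * e⁻¹ = u by group]
    exact h.fix hu
  have hu' : e⁻¹ * u * e ∈ h.cenE := by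
    have := (inferInstance : h.cenE.Normal).conj_mem u hu e⁻¹
    rwa [inv_inv] at this
  have h2 : y * (e * (e⁻¹ * u * e) * e⁻¹) * y⁻¹ =
      (y * e * y⁻¹) * (y * (e⁻¹ * u * e) * y⁻¹) * (y * e * y⁻¹)⁻¹ := by group
  rw [h2, h.fix hu', show y * e * y⁻¹ = c * e by simp [c, mul_assoc],
    show c * e * (e⁻¹ * u * e) * (c * e)⁻¹ = c * u * c⁻¹ by group,
    show e * (e⁻¹ * u * e) * e⁻¹ = u by group] at h1
  calc c * u = c * u * c⁻¹ * c := by group
    _ = u * c := by rw [h1]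

theorem comm_pow {e : P} (he : e ∈ E) : (y * e * y⁻¹ * e⁻¹) ^ p = 1 := by
  set c := y * e * y⁻¹ * e⁻¹
  have hc : y * c * y⁻¹ = c := h.fix (h.comm_mem he)
  have key : ∀ k : ℕ, y ^ k * e * (y ^ k)⁻¹ = c ^ k * e := by
    intro k
    induction k with
    | zero => simp
    | succ k ih =>
      rw [pow_succ', show y * y ^ k * e * (y * y ^ k)⁻¹ = y * (y ^ k * e * (y ^ k)⁻¹) * y⁻¹ by group, ih,
        show y * (c ^ k * e) * y⁻¹ = (y * c ^ k * y⁻¹) * (y * e * y⁻¹) by group, ← conj_pow, hc,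
        show y * e * y⁻¹ = c * e by simp [c, mul_assoc], ← mul_assoc, ← pow_succ]
  have h1 := key p
  rw [h.pow, one_mul, inv_one, mul_one] at h1
  exact mul_eq_right.mp h1.symm

/-- A condition on commutators with `y` holding on the centralised part and one element outside. -/
theorem comm_induction {e : P} (he : e ∈ E) (heD : e ∉ h.cenE) {N : Subgroup P}
    (hN : ∀ g ∈ E, ∀ n ∈ N, g * n * g⁻¹ ∈ N) (hc : y * e * y⁻¹ * e⁻¹ ∈ N) {x : P} (hx : x ∈ E) :
    y * x * y⁻¹ * x⁻¹ ∈ N := by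
  obtain ⟨i, u, hu, rfl⟩ := h.decomp_cenE he heD hx
  have hi : ∀ i : ℕ, y * e ^ i * y⁻¹ * (e ^ i)⁻¹ ∈ N := by
    intro i
    induction i with
    | zero => simp
    | succ i ih =>
      rw [pow_succ, show y * (e ^ i * e) * y⁻¹ * (e ^ i * e)⁻¹ =
        (y * e ^ i * y⁻¹ * (e ^ i)⁻¹) * (e ^ i * (y * e * y⁻¹ * e⁻¹) * (e ^ i)⁻¹) by group]
      exact mul_mem ih (hN _ (pow_mem he i) _ hc)
  rw [show y * (e ^ i * u) * y⁻¹ * (e ^ i * u)⁻¹ = y * e ^ i * y⁻¹ * (y * u * y⁻¹) * (e ^ i * u)⁻¹ by group,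
    h.fix hu, show y * e ^ i * y⁻¹ * u * (e ^ i * u)⁻¹ = y * e ^ i * y⁻¹ * (e ^ i)⁻¹ by group]
  exact hi i

/-! ### The action on the Frattini quotient -/

section Linear

variable [hfE : Fact (IsPGroup p E)]

/-- Conjugation by `y` on the quotient. -/
noncomputable def ly : Module.End (ZMod p) (Vec p E) := lin (D.cj h.hE y)

theorem ly_fix {x : E} (hx : (x : P) ∈ h.cenE) : h.ly (vec x) = vec x := by
  rw [ly, MaxClassEssential.lin_vec]
  exact congrArg vec (Subtype.ext (by rw [D.coe_cj, h.fix hx]))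

theorem ly_step {e : E} (i : ℕ) {u : E} (hu : (u : P) ∈ h.cenE) (c : E)
    (hc : (c : P) = y * e * y⁻¹ * (e : P)⁻¹) :
    h.ly (vec (e ^ i * u)) = vec (e ^ i * u) + i • vec c := by
  have he : h.ly (vec e) = vec e + vec c := by
    rw [ly, MaxClassEssential.lin_vec, show D.cj h.hE y e = c * e from Subtype.ext (by
      rw [D.coe_cj, Subgroup.coe_mul, hc, inv_mul_cancel_right]), MaxClassEssential.vec_mul, add_comm]
  rw [MaxClassEssential.vec_mul, MaxClassEssential.vec_pow, map_add, map_nsmul, he, h.ly_fix hu, nsmul_add]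
  abel

/-- The commutator with an outside element is not in the Frattini subgroup. -/
theorem vec_comm_ne {e : E} (heD : (e : P) ∉ h.cenE) (c : E) (hc : (c : P) = y * e * y⁻¹ * (e : P)⁻¹) :
    (vec c : Vec p E) ≠ 0 := by
  intro h0
  refine h.out (D.mem_of_frattini h.hE fun x => ?_)
  obtain ⟨i, u, hu, hxu⟩ := h.decomp_cenE e.2 heD x.2
  have hx : x = e ^ i * ⟨u, hu.1⟩ := Subtype.ext (by push_cast; exact hxu)
  have h1 := h.ly_step i (u := ⟨u, hu.1⟩) hu c hc
  rw [h0, smul_zero, add_zero, ← hx, ly, MaxClassEssential.lin_vec] at h1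
  have h2 := MaxClassEssential.vec_eq_vec.mp h1
  have h3 := (inferInstance : (frattini E).Normal).conj_mem _ h2 x⁻¹
  simpa [mul_assoc] using h3

theorem mem_of_ly_fix {x : E} (hx : h.ly (vec x) = vec x) : (x : P) ∈ h.cenE := by
  by_contra hxD
  have h1 := h.ly_step (e := x) 1 (u := 1) (one_mem _) ⟨_, (h.comm_mem x.2).1⟩ rfl
  rw [pow_one, mul_one, one_smul, hx, left_eq_add] at h1
  exact h.vec_comm_ne hxD _ rfl h1

end Linear

/-- An automorphism moves a commutator out of the centralised part together with its inverse. -/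
theorem opposite {e : P} (he : e ∈ E) (heD : e ∉ h.cenE) (c : E) (hc : (c : P) = y * e * y⁻¹ * e⁻¹)
    {α : MulAut E} (hα : α ∈ D.A E) (h1 : ((α c : E) : P) ∈ h.cenE) : ((α⁻¹ c : E) : P) ∈ h.cenE := by
  haveI : Fact (IsPGroup p E) := ⟨D.pg.to_subgroup E⟩
  haveI := h.cenE_normal
  have hpp : p.Prime := hpf.out
  set DE := h.cenE.subgroupOf E with hDE
  set cy := D.cj h.hE y with hcy
  set b := α * cy * α⁻¹ with hb
  -- the image of the centralised part under `b`
  have hcyc : ∀ x : E, cy x * x⁻¹ ∈ DE := fun x => mem_subgroupOf.mpr (by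
    push_cast; rw [hcy, D.coe_cj]; exact h.comm_mem x.2)
  have hbx : ∀ x : E, b x * x⁻¹ ∈ DE := by
    intro x
    have e1 : b x * x⁻¹ = α (cy (α⁻¹ x) * (α⁻¹ x)⁻¹) := by
      rw [hb, MulAut.mul_apply, MulAut.mul_apply, map_mul, map_inv, MulAut.apply_inv_self]
    rw [e1]
    let N : Subgroup P := (DE.comap α.toMonoidHom).map E.subtype
    have hNn : ∀ g ∈ E, ∀ n ∈ N, g * n * g⁻¹ ∈ N := by
      rintro g hg _ ⟨n, hn, rfl⟩
      refine ⟨⟨g, hg⟩ * n * (⟨g, hg⟩ : E)⁻¹, ?_, rfl⟩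
      show α _ ∈ DE
      rw [map_mul, map_mul, map_inv]
      exact (Subgroup.normal_subgroupOf (H := E) (N := h.cenE)).conj_mem _ hn _
    obtain ⟨n, hn, hne⟩ : y * (α⁻¹ x : E) * y⁻¹ * ((α⁻¹ x : E) : P)⁻¹ ∈ N :=
      h.comm_induction he heD hNn ⟨c, mem_subgroupOf.mpr h1, hc⟩ (α⁻¹ x).2
    rw [show cy (α⁻¹ x) * (α⁻¹ x)⁻¹ = n from Subtype.ext (by push_cast; rw [hcy, D.coe_cj]; exact hne.symm)]
    exact hn
  have hbD : ∀ x ∈ DE, b x ∈ DE := fun x hx => by
    have := mul_mem (hbx x) hx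
    rwa [inv_mul_cancel_right] at this
  have hcyD : ∀ x ∈ DE, cy x = x := fun x hx => Subtype.ext (by
    rw [hcy, D.coe_cj]; exact h.fix (mem_subgroupOf.mp hx))
  -- the stabiliser of the series
  let R := D.A E ⊓ Cfsg.SmallCentre.stab DE DE le_rfl
  have hR : ∀ w, w ∈ D.A E → (∀ x ∈ DE, w x = x) → (∀ x, x⁻¹ * w x ∈ DE) → w ∈ R := fun w hw h2 h3 =>
    ⟨hw, h2, fun x hx => by rw [h2 x hx, inv_mul_cancel]; exact one_mem _, h3⟩
  let Rc := R ⊔ (D.cj h.hE).range
  have hRn : (D.cj h.hE).range ≤ normalizer (R : Set (MulAut E)) := by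
    rintro _ ⟨g, rfl⟩
    have key : ∀ g : P, ∀ r ∈ R, D.cj h.hE g * r * (D.cj h.hE g)⁻¹ ∈ R := by
      rintro g r ⟨hr, r1, -, r3⟩
      have hg : ∀ x : E, x ∈ DE → D.cj h.hE g x ∈ DE := fun x hx => mem_subgroupOf.mpr (by
        rw [D.coe_cj]; exact (inferInstance : h.cenE.Normal).conj_mem _ (mem_subgroupOf.mp hx) g)
      have hg' : ∀ x : E, x ∈ DE → (D.cj h.hE g)⁻¹ x ∈ DE := fun x hx => mem_subgroupOf.mpr (by
        rw [← map_inv, D.coe_cj]; exact (inferInstance : h.cenE.Normal).conj_mem _ (mem_subgroupOf.mp hx) g⁻¹)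
      refine hR _ ((D.A E).mul_mem ((D.A E).mul_mem (D.cj_mem h.hE g) hr) ((D.A E).inv_mem (D.cj_mem h.hE g)))
        (fun x hx => ?_) fun x => ?_
      · rw [MulAut.mul_apply, MulAut.mul_apply, r1 _ (hg' x hx), MulAut.apply_inv_self]
      · have h4 := hg _ (r3 ((D.cj h.hE g)⁻¹ x))
        rwa [map_mul, map_inv, MulAut.apply_inv_self] at h4
    exact mem_normalizer_iff.mpr fun r => ⟨key g r, fun hr => by
      simpa [mul_assoc] using key g⁻¹ _ hr⟩
  have hRc : IsPGroup p Rc :=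
    IsPGroup.to_sup_of_normal_left' ((Cfsg.SmallCentre.isPGroup_stab (D.pg.to_subgroup E) le_rfl).to_le inf_le_right)
      ((D.pg).of_surjective _ (D.cj h.hE).rangeRestrict_surjective) hRn
  -- the commutator
  set w := (b * cy)⁻¹ * (cy * b) with hw
  have hwR : w ∈ R := by
    have hbA : b ∈ D.A E := (D.A E).mul_mem ((D.A E).mul_mem hα (D.cj_mem h.hE y)) ((D.A E).inv_mem hα)
    have hwA : w ∈ D.A E :=
      (D.A E).mul_mem ((D.A E).inv_mem ((D.A E).mul_mem hbA (D.cj_mem h.hE y))) ((D.A E).mul_mem (D.cj_mem h.hE y) hbA)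
    refine hR w hwA (fun x hx => ?_) fun x => ?_
    · refine (b * cy).injective ?_
      rw [hw, ← MulAut.mul_apply, mul_inv_cancel_left]
      show cy (b x) = b (cy x)
      rw [hcyD x hx, hcyD _ (hbD x hx)]
    · have hinvD : ∀ u : E, u ∈ DE → (b * cy) u ∈ DE := fun u hu => by
        rw [MulAut.mul_apply, hcyD u hu]; exact hbD u hu
      have hback : ∀ u : E, (b * cy) u ∈ DE → u ∈ DE := by
        intro u hu
        have hle : DE.map (b * cy).toMonoidHom ≤ DE := by rintro _ ⟨v, hv, rfl⟩; exact hinvD v hv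
        have heq := eq_of_le_of_card_ge hle (card_map_of_injective (b * cy).injective).ge
        obtain ⟨v, hv, hvu⟩ := heq.ge hu
        rwa [(b * cy).injective hvu] at hv
      refine hback _ ?_
      rw [map_mul, map_inv, hw, ← MulAut.mul_apply, mul_inv_cancel_left]
      have e2 : ((b * cy) x)⁻¹ * (cy * b) x =
          (x⁻¹ * (b (cy x) * (cy x)⁻¹ * (cy x * x⁻¹)) * x)⁻¹ * (x⁻¹ * (cy (b x) * (b x)⁻¹ * (b x * x⁻¹)) * x) := by
        show (b (cy x))⁻¹ * cy (b x) = _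
        generalize b (cy x) = B₁
        generalize cy (b x) = C₁
        generalize b x = B₀
        generalize cy x = C₀
        group
      rw [e2]
      have hn := fun (u : E) (hu : u ∈ DE) => (Subgroup.normal_subgroupOf (H := E) (N := h.cenE)).conj_mem u hu x⁻¹
      simp only [inv_inv] at hn
      exact mul_mem (inv_mem (hn _ (mul_mem (hbx _) (hcyc _)))) (hn _ (mul_mem (hcyc _) (hbx _)))
  obtain ⟨g, hg⟩ := D.sylA E h.hE Rc (sup_le inf_le_left (by rintro _ ⟨g, rfl⟩; exact D.cj_mem h.hE g)) hRc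
    (fun g α' hg => mem_sup_right ⟨g, D.cj_eq h.hE hg⟩) w (mem_sup_left hwR)
  obtain ⟨k, u, hu, rfl⟩ := D.exists_pow_mul h.hE h.out g
  have hwlin : (lin w : Module.End (ZMod p) (Vec p E)) = h.ly ^ k := by
    rw [← D.cj_eq h.hE hg, map_mul, map_mul, map_pow, map_pow, ← D.conj_eq_cj h.hE ⟨u, hu⟩,
      MaxClassEssential.lin_inner, mul_one]
    rfl
  -- the computation on the quotient
  have heE : (⟨e, he⟩ : E) ∈ (⊤ : Subgroup E) := mem_top _
  set B : Module.End (ZMod p) (Vec p E) := lin b with hB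
  set L := h.ly
  have hLe : L (vec ⟨e, he⟩) = vec ⟨e, he⟩ + vec c := by
    have h5 := h.ly_step (e := ⟨e, he⟩) 1 (u := 1) (one_mem _) c hc
    rwa [pow_one, mul_one, one_smul] at h5
  have hcD : (c : P) ∈ h.cenE := hc ▸ h.comm_mem he
  have hLk : ∀ k : ℕ, (L ^ k) (vec ⟨e, he⟩) = vec ⟨e, he⟩ + k • vec c := by
    intro k
    induction k with
    | zero => simp
    | succ k ih =>
      rw [pow_succ', Module.End.mul_apply, ih, map_add, map_nsmul, hLe, h.ly_fix hcD, add_smul, one_smul]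
      abel
  have hBfix : ∀ x : E, ((α⁻¹ x : E) : P) ∈ h.cenE → B (vec x) = vec x := fun x hx => by
    rw [hB, MaxClassEssential.lin_vec, hb, MulAut.mul_apply, MulAut.mul_apply,
      hcyD _ (mem_subgroupOf.mpr hx), MulAut.apply_inv_self]
  have hBstep : ∀ x : E, ∃ i : ℕ, B (vec x) = vec x + i • vec (α c) := by
    intro x
    obtain ⟨i, v, hv, hxv⟩ := h.decomp_cenE he heD (α⁻¹ x).2
    refine ⟨i, ?_⟩
    have h6 := h.ly_step (e := ⟨e, he⟩) i (u := ⟨v, hv.1⟩) hv c hc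
    have h7 := congrArg (lin α : Module.End (ZMod p) (Vec p E)) h6
    rw [map_add, map_nsmul, show (⟨e, he⟩ : E) ^ i * ⟨v, hv.1⟩ = α⁻¹ x from Subtype.ext (by push_cast; exact hxv.symm),
      ly, MaxClassEssential.lin_vec, MaxClassEssential.lin_vec, MaxClassEssential.lin_vec,
      MaxClassEssential.lin_vec, MulAut.apply_inv_self] at h7
    rw [hB, MaxClassEssential.lin_vec, hb, MulAut.mul_apply, MulAut.mul_apply]
    exact h7
  have hLac : L (vec (α c)) = vec (α c) := h.ly_fix h1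
  have heq : L * B = B * L * L ^ k := by
    rw [← hwlin, hw, hB, show L = lin cy from rfl, ← map_mul, ← map_mul, ← map_mul, mul_inv_cancel_left]
  obtain ⟨f, hf⟩ := hBstep ⟨e, he⟩
  obtain ⟨g, hg'⟩ := hBstep c
  have hBac : B (vec (α c)) = vec (α c) := hBfix _ (by rw [MulAut.inv_apply_self]; exact hcD)
  suffices hfix : B (vec c) = vec c by
    refine h.mem_of_ly_fix (x := α⁻¹ c) ?_
    have h8 := congrArg (lin α⁻¹ : Module.End (ZMod p) (Vec p E)) hfix
    rw [hB, MaxClassEssential.lin_vec, MaxClassEssential.lin_vec, MaxClassEssential.lin_vec, hb,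
      MulAut.mul_apply, MulAut.mul_apply, MulAut.inv_apply_self] at h8
    rw [ly, MaxClassEssential.lin_vec]
    exact h8
  have he' := congrArg (fun M : Module.End (ZMod p) (Vec p E) => M (vec ⟨e, he⟩)) heq
  have hLc : L (vec c) = vec c := h.ly_fix hcD
  have hzero : k • (vec c : Vec p E) + ((1 + k) * g) • (vec (α c) : Vec p E) = 0 := by
    simp only [Module.End.mul_apply, hLk, hf, hLe, map_add, map_nsmul, hLac, hLc, hg'] at he'
    have h9 := sub_eq_zero.mpr he'.symm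
    rw [← h9]
    simp only [smul_add, add_smul, mul_smul, one_smul]
    abel
  rw [hg']
  by_cases hk : (k : ZMod p) = 0
  · have hkc : ∀ v : Vec p E, k • v = 0 := fun v => by
      rw [← Nat.cast_smul_eq_nsmul (ZMod p), hk, zero_smul]
    rw [hkc, zero_add, mul_smul, add_smul, one_smul, hkc, add_zero] at hzero
    rw [hzero, add_zero]
  · have hcv : (vec c : Vec p E) = (-((k : ZMod p)⁻¹ * ((1 + k) * g : ℕ)) : ZMod p) • (vec (α c) : Vec p E) := by
      rw [← Nat.cast_smul_eq_nsmul (ZMod p), ← Nat.cast_smul_eq_nsmul (ZMod p) ((1 + k) * g),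
        add_eq_zero_iff_eq_neg] at hzero
      have h10 := congrArg (fun v => (k : ZMod p)⁻¹ • v) hzero
      rw [inv_smul_smul₀ hk, smul_neg, smul_smul, ← neg_smul] at h10
      exact h10
    rw [← hg', hcv, map_smul, hBac]

/-- The frame. -/
theorem exists_keyData : Nonempty (KeyData D E y) := by
  classical
  haveI : Fact (IsPGroup p E) := ⟨D.pg.to_subgroup E⟩
  haveI := h.cenE_normal
  obtain ⟨e, he, heD⟩ := h.exists_out
  set c₀ : E := ⟨y * e * y⁻¹ * e⁻¹, (h.comm_mem he).1⟩ with hc₀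
  have hex : ∃ α ∈ D.A E, ((α c₀ : E) : P) ∉ h.cenE := by
    by_contra hne
    push Not at hne
    let K : Subgroup E := closure {x | ∃ α ∈ D.A E, α c₀ = x}
    have hKD : K ≤ h.cenE.subgroupOf E := by
      rw [closure_le]
      rintro _ ⟨α, hα, rfl⟩
      exact mem_subgroupOf.mpr (hne α hα)
    have hKinv : ∀ α ∈ D.A E, ∀ x ∈ K, α x ∈ K := by
      intro α hα x hx
      have hle : K ≤ K.comap α.toMonoidHom := by
        rw [closure_le]
        rintro _ ⟨α', hα', rfl⟩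
        exact subset_closure ⟨α * α', (D.A E).mul_mem hα hα', rfl⟩
      exact hle hx
    refine h.out (D.mem_of_series h.hE (L := K) (W := K) le_rfl hKinv hKinv (fun x hx => Subtype.ext ?_)
      (fun x hx => ?_) fun x => ?_)
    · rw [D.coe_cj]; exact h.fix (mem_subgroupOf.mp (hKD hx))
    · rw [show D.cj h.hE y x = x from Subtype.ext (by rw [D.coe_cj]; exact h.fix (mem_subgroupOf.mp (hKD hx))),
        inv_mul_cancel]
      exact one_mem _
    · have hN : ∀ g ∈ E, ∀ n ∈ K.map E.subtype, g * n * g⁻¹ ∈ K.map E.subtype := by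
        rintro g hg _ ⟨n, hn, rfl⟩
        refine ⟨MulAut.conj (⟨g, hg⟩ : E) n, hKinv _ ?_ n hn, rfl⟩
        rw [D.conj_eq_cj h.hE]; exact D.cj_mem h.hE _
      obtain ⟨n, hn, hne'⟩ := h.comm_induction he heD hN ⟨c₀, subset_closure ⟨1, one_mem _, rfl⟩, rfl⟩ x.2
      have hxn : D.cj h.hE y x * x⁻¹ = n := Subtype.ext (by push_cast; rw [D.coe_cj]; exact hne'.symm)
      have h1 : x⁻¹ * D.cj h.hE y x = MulAut.conj x⁻¹ n := by rw [← hxn, MulAut.conj_apply]; group
      rw [h1]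
      refine hKinv _ ?_ n hn
      rw [D.conj_eq_cj h.hE]; exact D.cj_mem h.hE _
  obtain ⟨α, hα, hαc⟩ := hex
  have hαc' : ((α⁻¹ c₀ : E) : P) ∉ h.cenE := fun hbad => hαc (by
    have := h.opposite he heD c₀ rfl ((D.A E).inv_mem hα) hbad
    rwa [inv_inv] at this)
  set d : P := ((α c₀ : E) : P) with hd
  have hdE : d ∈ E := (α c₀).2
  set c : P := y * d * y⁻¹ * d⁻¹ with hc
  have hcD : c ∈ h.cenE := h.comm_mem hdE
  let D' : Subgroup P := ((h.cenE.subgroupOf E).map α.toMonoidHom).map E.subtype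
  have hD'E : D' ≤ E := map_subtype_le _
  have hmemD' : ∀ {x : P} (hx : x ∈ E), x ∈ D' ↔ ((α⁻¹ ⟨x, hx⟩ : E) : P) ∈ h.cenE := by
    intro x hx
    constructor
    · rintro ⟨_, ⟨v, hv, rfl⟩, he'⟩
      rw [show (⟨x, hx⟩ : E) = α v from Subtype.ext he'.symm, MulAut.inv_apply_self]
      exact mem_subgroupOf.mp hv
    · exact fun hh => ⟨_, ⟨_, mem_subgroupOf.mpr hh, rfl⟩, by
        show ((α (α⁻¹ ⟨x, hx⟩) : E) : P) = x
        rw [MulAut.apply_inv_self]⟩
  -- `c` is outside the conjugate part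
  have hcD' : c ∉ D' := by
    intro hbad
    rw [hmemD' hcD.1] at hbad
    obtain ⟨i, u, hu, hdu⟩ := h.decomp_cenE he heD hdE
    have h1 := h.ly_step (e := ⟨e, he⟩) i (u := ⟨u, hu.1⟩) hu c₀ rfl
    rw [show (⟨e, he⟩ : E) ^ i * ⟨u, hu.1⟩ = ⟨d, hdE⟩ from Subtype.ext (by push_cast; exact hdu.symm)] at h1
    have h2 := h.ly_step (e := ⟨d, hdE⟩) 1 (u := 1) (one_mem _) ⟨c, hcD.1⟩ rfl
    rw [pow_one, mul_one, one_smul, h1, add_right_inj] at h2
    have hi : (i : ZMod p) ≠ 0 := fun h0 => h.vec_comm_ne (e := ⟨d, hdE⟩) hαc ⟨c, hcD.1⟩ rfl (by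
      rw [← h2, ← Nat.cast_smul_eq_nsmul (ZMod p), h0, zero_smul])
    refine hαc' (h.mem_of_ly_fix ?_)
    have h3 := congrArg (lin α⁻¹ : Module.End (ZMod p) (Vec p E)) h2
    rw [map_nsmul, MaxClassEssential.lin_vec, MaxClassEssential.lin_vec] at h3
    have h4 := congrArg h.ly h3
    rw [map_nsmul, h.ly_fix hbad, ← h3, ← Nat.cast_smul_eq_nsmul (ZMod p), ← Nat.cast_smul_eq_nsmul (ZMod p)] at h4
    exact smul_right_injective _ hi h4
  have hc₀central : ∀ u ∈ h.cenE, (c₀ : P) * u = u * c₀ := fun u hu => h.comm_central he hu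
  have hdD' : ∀ u ∈ D', d * u = u * d := by
    rintro _ ⟨_, ⟨v, hv, rfl⟩, rfl⟩
    show ((α c₀ : E) : P) * ((α v : E) : P) = _
    rw [← Subgroup.coe_mul, ← map_mul, show c₀ * v = v * c₀ from Subtype.ext (hc₀central _ hv), map_mul]
    rfl
  have hpp : p.Prime := hpf.out
  have hD'idx : (D'.subgroupOf E).index = p := by
    have he2 : D'.subgroupOf E = (h.cenE.subgroupOf E).map α.toMonoidHom :=
      comap_map_eq_self_of_injective E.subtype_injective _
    rw [he2]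
    exact (index_map_equiv _ α).trans h.cenE_index
  have hD'comm : ∀ a ∈ E, ∀ b ∈ E, a * b * a⁻¹ * b⁻¹ ∈ D' := by
    intro a ha b hb
    rw [hmemD' (mul_mem (mul_mem (mul_mem ha hb) (inv_mem ha)) (inv_mem hb)),
      show (⟨a * b * a⁻¹ * b⁻¹, _⟩ : E) = ⟨a, ha⟩ * ⟨b, hb⟩ * (⟨a, ha⟩ : E)⁻¹ * (⟨b, hb⟩ : E)⁻¹ from rfl,
      map_mul, map_mul, map_mul, map_inv, map_inv]
    generalize α⁻¹ ⟨a, ha⟩ = a'; generalize α⁻¹ ⟨b, hb⟩ = b'
    obtain ⟨i, u, hu, hau⟩ := h.decomp_cenE he heD a'.2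
    obtain ⟨j, v, hv, hbv⟩ := h.decomp_cenE he heD b'.2
    push_cast
    rw [hau, hbv, ← QuotientGroup.eq_one_iff]
    simp only [QuotientGroup.mk_mul, QuotientGroup.mk_inv, QuotientGroup.mk_pow,
      (QuotientGroup.eq_one_iff u).mpr hu, (QuotientGroup.eq_one_iff v).mpr hv, mul_one]
    group
  refine ⟨{
    c := c
    d := d
    z := c * d * c⁻¹ * d⁻¹
    C := h.cenE ⊓ D'
    hE := h.hE
    out := h.out
    ypow := h.pow
    cE := hcD.1
    dE := hdE
    CE := inf_le_left.trans inf_le_left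
    cpow := h.comm_pow hdE
    dpow := ?_
    yc := (h.mem_cenE.mp hcD).2.symm
    yd := by rw [hc]; group
    cd := by group
    zC := ⟨?_, hD'comm c hcD.1 d hdE⟩
    zpow := ?_
    yC := fun u hu => (h.mem_cenE.mp hu.1).2.symm
    cC := fun u hu => h.comm_central hdE hu.1
    dC := fun u hu => hdD' u hu.2
    decomp := ?_
    indep := ?_ }⟩
  · have h1 : (α c₀) ^ p = 1 := by
      rw [← map_pow, show c₀ ^ p = 1 from Subtype.ext (h.comm_pow he), map_one]
    exact congrArg Subtype.val h1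
  · rw [show c * d * c⁻¹ * d⁻¹ = c * (d * c⁻¹ * d⁻¹) by group]
    exact mul_mem hcD ((inferInstance : h.cenE.Normal).conj_mem _ (inv_mem hcD) d)
  · set z := c * d * c⁻¹ * d⁻¹ with hz
    have hzc : c * z = z * c := h.comm_central hdE (by
      rw [hz, show c * d * c⁻¹ * d⁻¹ = c * (d * c⁻¹ * d⁻¹) by group]
      exact mul_mem hcD ((inferInstance : h.cenE.Normal).conj_mem _ (inv_mem hcD) d))
    have hzd : d * z = z * d := hdD' z (hD'comm c hcD.1 d hdE)
    have h2 : (c * d * c⁻¹) ^ p = z ^ p * d ^ p := by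
      rw [show c * d * c⁻¹ = z * d by simp [hz, mul_assoc], (show Commute z d from hzd.symm).mul_pow]
    have h3 : d ^ p = 1 := by
      have h1 : (α c₀) ^ p = 1 := by
        rw [← map_pow, show c₀ ^ p = 1 from Subtype.ext (h.comm_pow he), map_one]
      exact congrArg Subtype.val h1
    rw [conj_pow, h3, mul_one, mul_inv_cancel, mul_one] at h2
    exact h2.symm
  · intro x hx
    obtain ⟨i, u, hu, rfl⟩ := h.decomp_cenE hdE hαc hx
    have hne : (⟨c, hcD.1⟩ : E) ∉ D'.subgroupOf E := hcD'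
    haveI : (D'.subgroupOf E).Normal := ⟨fun n hn g => by
      have h1 := hD'comm _ g.2 _ n.2
      have h2 := mul_mem h1 (mem_subgroupOf.mp hn)
      rw [inv_mul_cancel_right] at h2
      exact h2⟩
    obtain ⟨j, hj⟩ := mem_powers_iff_mem_zpowers.mpr
      (mem_zpowers_of_prime_card (G := E ⧸ D'.subgroupOf E) hD'idx
        (g' := ((⟨u, hu.1⟩ : E) : E ⧸ D'.subgroupOf E))
        (fun h1 => hne ((QuotientGroup.eq_one_iff (N := D'.subgroupOf E) _).mp h1)))
    refine ⟨i, j, (c ^ j)⁻¹ * u, ⟨h.cenE.mul_mem (h.cenE.inv_mem (h.cenE.pow_mem hcD j)) hu, ?_⟩, by group⟩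
    have h2 : ((⟨c, hcD.1⟩ : E) ^ j)⁻¹ * ⟨u, hu.1⟩ ∈ D'.subgroupOf E := (QuotientGroup.eq).mp (by
      rw [QuotientGroup.mk_pow]
      exact hj)
    exact mem_subgroupOf.mp h2
  · intro i j hij
    have hprime : ∀ {M : Subgroup P} {g : P} {n : ℕ}, g ^ p = 1 → g ∉ M → g ^ n ∈ M → p ∣ n := by
      intro M g n hg hgM hn
      by_contra hpn
      obtain ⟨m, -, hm⟩ := Nat.exists_mul_mod_eq_one_of_coprime ((hpp.coprime_iff_not_dvd.mpr hpn).symm) hpp.one_lt
      refine hgM ?_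
      have h1 := pow_mem hn m
      rwa [← pow_mul, ← Nat.div_add_mod (n * m) p, pow_add, pow_mul, hg, one_pow, one_mul, hm, pow_one] at h1
    have hi : p ∣ i := by
      refine hprime (?_ : d ^ p = 1) hαc ?_
      · have h1 : (α c₀) ^ p = 1 := by
          rw [← map_pow, show c₀ ^ p = 1 from Subtype.ext (h.comm_pow he), map_one]
        exact congrArg Subtype.val h1
      · have h1 := h.cenE.mul_mem hij.1 (h.cenE.inv_mem (h.cenE.pow_mem hcD j))
        rwa [mul_inv_cancel_right] at h1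
    refine ⟨hi, hprime (h.comm_pow hdE) hcD' ?_⟩
    obtain ⟨m, rfl⟩ := hi
    have h1 : (α c₀) ^ p = 1 := by
      rw [← map_pow, show c₀ ^ p = 1 from Subtype.ext (h.comm_pow he), map_one]
    rw [pow_mul, show d ^ p = 1 from congrArg Subtype.val h1, one_pow, one_mul] at hij
    exact hij.2

end Tv

end CfsgLib.SectThree
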