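import Cfsg.Agent.Lib.SectThree.Key
import Cfsg.Agent.Lib.Solvable.Frattini

/-!
The frame of a transvection: the central part is a cyclic group modulo the commutator, and the powers
form a subgroup invariant under all automisers.
-/

set_option autoImplicit false
set_option linter.unusedSectionVars false
set_option linter.style.haveILetI false

namespace CfsgLib.SectThree

open Subgroup
open scoped commutatorElement

variable {p : ℕ} [hpf : Fact p.Prime] {P : Type*} [Group P] [Finite P]

namespace KeyData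

variable {D : Sys p P} {E : Subgroup P} {y : P} (K : KeyData D E y)

include K

theorem cd' : K.c * K.d = K.z * K.d * K.c := by
  rw [← K.cd]; group

theorem zy : y * K.z = K.z * y := K.yC _ K.zC
theorem zc : K.c * K.z = K.z * K.c := K.cC _ K.zC
theorem zd : K.d * K.z = K.z * K.d := K.dC _ K.zC

theorem decompP (x : P) : ∃ (l i j : ℕ) (u : P), u ∈ K.C ∧ x = y ^ l * K.d ^ i * K.c ^ j * u := by
  obtain ⟨l, e, he, rfl⟩ := D.exists_pow_mul K.hE K.out x
  obtain ⟨i, j, u, hu, rfl⟩ := K.decomp e he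
  exact ⟨l, i, j, u, hu, by group⟩

/-- A subgroup containing the generators is everything. -/
theorem mem_of_gen {M : Subgroup P} (hy : y ∈ M) (hc : K.c ∈ M) (hd : K.d ∈ M) (hC : K.C ≤ M) (x : P) : x ∈ M := by
  obtain ⟨l, i, j, u, hu, rfl⟩ := K.decompP x
  exact mul_mem (mul_mem (mul_mem (pow_mem hy l) (pow_mem hd i)) (pow_mem hc j)) (hC hu)

theorem z_center : K.z ∈ center P := by
  refine mem_center_iff.mpr fun g => ?_
  have h := K.mem_of_gen (M := centralizer ({K.z} : Set P)) (mem_centralizer_singleton_iff.mpr K.zy)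
    (mem_centralizer_singleton_iff.mpr K.zc) (mem_centralizer_singleton_iff.mpr K.zd) ?_ g
  · exact mem_centralizer_singleton_iff.mp h
  intro u hu
  refine mem_centralizer_singleton_iff.mpr ?_
  have e : K.z = K.c * K.d * K.c⁻¹ * K.d⁻¹ := by rw [K.cd]; group
  have hcu := (show Commute K.c u from K.cC u hu)
  have hdu := (show Commute K.d u from K.dC u hu)
  rw [e]
  exact (((hcu.mul_left hdu).mul_left hcu.inv_left).mul_left hdu.inv_left).symm.eq

theorem C_normal : K.C.Normal := by
  refine ⟨fun u hu g => ?_⟩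
  have hcn : ∀ x : P, (∀ u ∈ K.C, x * u = u * x) → x ∈ normalizer (K.C : Set P) := fun x hx => by
    refine mem_normalizer_iff.mpr fun u => ⟨fun hu => by rwa [hx u hu, mul_inv_cancel_right], fun hu => ?_⟩
    have h1 := hx _ hu
    rw [inv_mul_cancel_right] at h1
    rwa [mul_left_cancel h1] at hu
  have h := K.mem_of_gen (M := normalizer (K.C : Set P)) (hcn y K.yC) (hcn K.c K.cC) (hcn K.d K.dC)
    Subgroup.le_normalizer g
  exact (mem_normalizer_iff.mp h u).mp hu

/-- The subgroup generated by the two commutators. -/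
def comms : Subgroup P := zpowers K.z ⊔ zpowers K.c

theorem comms_normal : K.comms.Normal := by
  have hz : ∀ g, g * K.z * g⁻¹ = K.z := fun g => by rw [mem_center_iff.mp K.z_center g, mul_inv_cancel_right]
  have hzmem : K.z ∈ K.comms := mem_sup_left (mem_zpowers _)
  have hcmem : K.c ∈ K.comms := mem_sup_right (mem_zpowers _)
  have hcg : ∀ g, g * K.c * g⁻¹ ∈ K.comms := by
    intro g
    obtain ⟨l, i, j, u, hu, rfl⟩ := K.decompP g
    have hcu : u * K.c * u⁻¹ = K.c := by rw [← K.cC u hu, mul_inv_cancel_right]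
    have hdi : ∀ i : ℕ, ∃ w ∈ K.comms, y * w * y⁻¹ ∈ K.comms ∧ K.d ^ i * K.c * (K.d ^ i)⁻¹ = w := by
      intro i
      induction i with
      | zero => exact ⟨K.c, hcmem, by rw [K.yc, mul_inv_cancel_right]; exact hcmem, by simp⟩
      | succ i ih =>
        obtain ⟨w, hw, hyw, he⟩ := ih
        have e1 : K.d * K.c * K.d⁻¹ = K.z⁻¹ * K.c := by
          calc K.d * K.c * K.d⁻¹ = K.z⁻¹ * (K.z * K.d * K.c) * K.d⁻¹ := by group
            _ = K.z⁻¹ * K.c := by rw [← K.cd']; group
        have e2 : K.d ^ (i + 1) * K.c * (K.d ^ (i + 1))⁻¹ = K.z⁻¹ * w := by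
          rw [pow_succ, show K.d ^ i * K.d * K.c * (K.d ^ i * K.d)⁻¹ = K.d ^ i * (K.d * K.c * K.d⁻¹) * (K.d ^ i)⁻¹
            by group, e1, show K.d ^ i * (K.z⁻¹ * K.c) * (K.d ^ i)⁻¹ =
              (K.d ^ i * K.z * (K.d ^ i)⁻¹)⁻¹ * (K.d ^ i * K.c * (K.d ^ i)⁻¹) by group, hz, he]
        refine ⟨_, mul_mem (inv_mem hzmem) hw, ?_, e2⟩
        rw [show y * (K.z⁻¹ * w) * y⁻¹ = (y * K.z * y⁻¹)⁻¹ * (y * w * y⁻¹) by group, hz]
        exact mul_mem (inv_mem hzmem) hyw
    obtain ⟨w, hw, hyw, he⟩ := hdi i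
    rw [show y ^ l * K.d ^ i * K.c ^ j * u * K.c * (y ^ l * K.d ^ i * K.c ^ j * u)⁻¹ =
      y ^ l * (K.d ^ i * (K.c ^ j * (u * K.c * u⁻¹) * (K.c ^ j)⁻¹) * (K.d ^ i)⁻¹) * (y ^ l)⁻¹ by group, hcu,
      show K.c ^ j * K.c * (K.c ^ j)⁻¹ = K.c by group, he]
    clear he hyw
    induction l with
    | zero => simpa using hw
    | succ l ih =>
      rw [pow_succ', show y * y ^ l * w * (y * y ^ l)⁻¹ = y * (y ^ l * w * (y ^ l)⁻¹) * y⁻¹ by group]
      have hle : K.comms ≤ K.comms.comap (MulAut.conj y).toMonoidHom := by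
        refine sup_le (zpowers_le.mpr ?_) (zpowers_le.mpr ?_)
        · show y * K.z * y⁻¹ ∈ K.comms
          rw [hz]; exact hzmem
        · show y * K.c * y⁻¹ ∈ K.comms
          rw [K.yc, mul_inv_cancel_right]; exact hcmem
      exact hle ih
  refine ⟨fun w hw g => ?_⟩
  have hle : K.comms ≤ K.comms.comap (MulAut.conj g).toMonoidHom := by
    refine sup_le (zpowers_le.mpr ?_) (zpowers_le.mpr (hcg g))
    show g * K.z * g⁻¹ ∈ K.comms
    rw [hz]; exact hzmem
  exact hle hw

theorem card_eq : Nat.card P = p ^ 3 * Nat.card K.C := by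
  haveI := K.C_normal
  have hpp : p.Prime := hpf.out
  have hCE : K.C.relIndex E = p ^ 2 := by
    haveI : (K.C.subgroupOf E).Normal := Subgroup.normal_subgroupOf
    show Nat.card (E ⧸ K.C.subgroupOf E) = p ^ 2
    have hbij : Function.Bijective (fun x : Fin p × Fin p =>
        ((⟨K.d ^ (x.1 : ℕ) * K.c ^ (x.2 : ℕ), mul_mem (pow_mem K.dE _) (pow_mem K.cE _)⟩ : E) :
          E ⧸ K.C.subgroupOf E)) := by
      constructor
      · rintro ⟨i, j⟩ ⟨i', j'⟩ h
        have h1 : ∀ i j i' j' : ℕ, ((K.d ^ i * K.c ^ j)⁻¹ * (K.d ^ i' * K.c ^ j')) ∈ K.C → i < p → i' < p →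
            j < p → j' < p → i = i' ∧ j = j' := by
          intro i j i' j' hm hi hi' hj hj'
          have e1 : K.d ^ ((p - i) + i') * K.c ^ ((p - j) + j') ∈ K.C := by
            have hcm : ∀ m : ℕ, ∀ u ∈ K.C, K.c ^ m * u * (K.c ^ m)⁻¹ = u := fun m u hu => by
              rw [((show Commute K.c u from K.cC u hu).pow_left m).eq, mul_inv_cancel_right]
            have e2 : (K.d ^ i * K.c ^ j)⁻¹ * (K.d ^ i' * K.c ^ j') =
                (K.c ^ j)⁻¹ * K.d ^ ((p - i) + i') * K.c ^ j' := by
              have hdi : (K.d ^ i)⁻¹ = K.d ^ (p - i) := inv_eq_of_mul_eq_one_right (by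
                rw [← pow_add, Nat.add_sub_cancel' hi.le, K.dpow])
              rw [mul_inv_rev, hdi, pow_add]
              group
            rw [e2] at hm
            have hci : K.c ^ (p - j) = (K.c ^ j)⁻¹ := (inv_eq_of_mul_eq_one_right (by
              rw [← pow_add, Nat.add_sub_cancel' hj.le, K.cpow])).symm
            have e3 : K.d ^ ((p - i) + i') * K.c ^ ((p - j) + j') =
                K.c ^ j * ((K.c ^ j)⁻¹ * K.d ^ ((p - i) + i') * K.c ^ j') * (K.c ^ j)⁻¹ := by
              rw [pow_add K.c, hci]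
              group
            rw [e3, hcm j _ hm]
            exact hm
          obtain ⟨⟨a, ha⟩, ⟨b, hb⟩⟩ := K.indep _ _ e1
          have key : ∀ {a i i' : ℕ}, p - i + i' = p * a → i < p → i' < p → i = i' := by
            intro a i i' ha hi hi'
            rcases Nat.lt_trichotomy a 1 with h' | h' | h'
            · rw [show a = 0 by omega] at ha; omega
            · rw [h'] at ha; omega
            · have : p * 2 ≤ p * a := Nat.mul_le_mul_left p h'
              omega
          exact ⟨key ha hi hi', key hb hj hj'⟩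
        have h2 := h1 i j i' j' (mem_subgroupOf.mp ((QuotientGroup.eq).mp h)) i.2 i'.2 j.2 j'.2
        exact Prod.ext (Fin.ext h2.1) (Fin.ext h2.2)
      · intro q
        obtain ⟨x, rfl⟩ := QuotientGroup.mk_surjective q
        obtain ⟨i, j, u, hu, hx⟩ := K.decomp x x.2
        refine ⟨(⟨i % p, Nat.mod_lt _ hpp.pos⟩, ⟨j % p, Nat.mod_lt _ hpp.pos⟩), ?_⟩
        refine (QuotientGroup.eq).mpr (mem_subgroupOf.mpr ?_)
        push_cast
        rw [hx, pow_eq_pow_mod i K.dpow, pow_eq_pow_mod j K.cpow, inv_mul_cancel_left]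
        exact hu
    rw [← Nat.card_eq_of_bijective _ hbij, Nat.card_prod, Nat.card_fin, pow_two]
  have h := K.C.card_mul_index
  rw [← relIndex_mul_index K.CE, hCE, D.idx E K.hE] at h
  rw [← h]; ring

/-- Modulo the commutator the central part is cyclic. -/
theorem exists_gen : ∃ u ∈ K.C, K.C = zpowers u ⊔ zpowers K.z := by
  haveI := K.C_normal
  haveI := K.comms_normal
  set M : Subgroup P := ((frattini K.C).map K.C.subtype) ⊔ zpowers K.z with hM
  haveI : ((frattini K.C).map K.C.subtype).Normal := by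
    refine ⟨?_⟩
    rintro _ ⟨v, hv, rfl⟩ g
    exact ⟨MulAut.conjNormal g v, (Subgroup.characteristic_iff_comap_eq.mp frattini_characteristic
      (MulAut.conjNormal g)).ge hv, MulAut.conjNormal_apply g v⟩
  haveI : (zpowers K.z).Normal := ⟨fun w hw g => by
    obtain ⟨k, rfl⟩ := hw
    rw [mem_center_iff.mp (zpow_mem K.z_center k) g, mul_inv_cancel_right]
    exact zpow_mem (mem_zpowers _) k⟩
  haveI : M.Normal := Subgroup.sup_normal _ _
  have hMC : M ≤ K.C := sup_le (map_subtype_le _) (zpowers_le.mpr K.zC)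
  set N := M ⊔ zpowers K.c with hN
  haveI hNn : N.Normal := by
    have e : N = M ⊔ K.comms := by rw [hN, comms, ← sup_assoc, sup_eq_left.mpr (le_sup_right : zpowers K.z ≤ M)]
    rw [e]; exact Subgroup.sup_normal _ _
  have hcN : K.c ∈ N := mem_sup_right (mem_zpowers _)
  have hzN : K.z ∈ N := mem_sup_left (mem_sup_right (mem_zpowers _))
  have hfN : ∀ v : K.C, v ∈ frattini K.C → (v : P) ∈ N := fun v hv => mem_sup_left (mem_sup_left ⟨v, hv, rfl⟩)
  have hpg : IsPGroup p K.C := D.pg.to_subgroup K.C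
  -- the quotient by `N` is elementary
  let π := QuotientGroup.mk' N
  have hgenc : ∀ a b : P ⧸ N, a * b = b * a := by
    have hy : ∀ g : P, π g * π y = π y * π g := fun g => by
      have h := K.mem_of_gen (M := (centralizer ({π y} : Set (P ⧸ N))).comap π) (mem_centralizer_singleton_iff.mpr rfl)
        (mem_centralizer_singleton_iff.mpr (by rw [← map_mul, ← map_mul, K.yc]))
        (mem_centralizer_singleton_iff.mpr (by
          have h1 : y * K.d = K.c * K.d * y := by rw [← K.yd]; group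
          rw [← map_mul π y K.d, h1, map_mul π _ y, map_mul π, show π K.c = 1 from
            (QuotientGroup.eq_one_iff _).mpr hcN, one_mul]))
        (fun u hu => mem_centralizer_singleton_iff.mpr (by rw [← map_mul, ← map_mul, K.yC u hu])) g
      exact mem_centralizer_singleton_iff.mp h
    have hc : π K.c = 1 := (QuotientGroup.eq_one_iff _).mpr hcN
    have hd : ∀ g : P, π g * π K.d = π K.d * π g := fun g => by
      have h := K.mem_of_gen (M := (centralizer ({π K.d} : Set (P ⧸ N))).comap π)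
        (mem_centralizer_singleton_iff.mpr (hy K.d).symm)
        (mem_centralizer_singleton_iff.mpr (by rw [hc, one_mul, mul_one]))
        (mem_centralizer_singleton_iff.mpr rfl)
        (fun u hu => mem_centralizer_singleton_iff.mpr (by rw [← map_mul, ← map_mul, K.dC u hu])) g
      exact mem_centralizer_singleton_iff.mp h
    intro a b
    obtain ⟨a, rfl⟩ := QuotientGroup.mk'_surjective N a
    obtain ⟨b, rfl⟩ := QuotientGroup.mk'_surjective N b
    have h := K.mem_of_gen (M := (centralizer ({π b} : Set (P ⧸ N))).comap π)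
      (mem_centralizer_singleton_iff.mpr (hy b).symm)
      (mem_centralizer_singleton_iff.mpr (by rw [hc, one_mul, mul_one]))
      (mem_centralizer_singleton_iff.mpr (hd b).symm) (fun u hu => mem_centralizer_singleton_iff.mpr ?_) a
    · exact mem_centralizer_singleton_iff.mp h
    have h' := K.mem_of_gen (M := (centralizer ({π u} : Set (P ⧸ N))).comap π)
      (mem_centralizer_singleton_iff.mpr (hy u).symm)
      (mem_centralizer_singleton_iff.mpr (by rw [hc, one_mul, mul_one]))
      (mem_centralizer_singleton_iff.mpr (hd u).symm) (fun v hv => mem_centralizer_singleton_iff.mpr ?_) b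
    · exact (mem_centralizer_singleton_iff.mp h').symm
    rw [← map_mul, ← map_mul]
    refine QuotientGroup.eq.mpr ?_
    have h3 := CfsgLib.commutator_le_frattini_pGroup hpg
      (commutator_mem_commutator (mem_top (⟨u, hu⟩ : K.C)⁻¹) (mem_top (⟨v, hv⟩ : K.C)⁻¹))
    have h4 := hfN _ h3
    simpa [commutatorElement_def, mul_assoc] using h4
  have hexp : ∀ a : P, a ^ p ∈ N := by
    intro a
    obtain ⟨l, i, j, u, hu, rfl⟩ := K.decompP a
    rw [← QuotientGroup.eq_one_iff]
    show π _ = 1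
    rw [map_pow, map_mul, map_mul, map_mul]
    have hcm : ∀ x w : P ⧸ N, Commute x w := fun x w => hgenc x w
    rw [(hcm _ _).mul_pow, (hcm _ _).mul_pow, (hcm _ _).mul_pow, ← map_pow, ← map_pow, ← map_pow, ← map_pow,
      ← pow_mul, ← pow_mul, ← pow_mul, mul_comm l, mul_comm i, mul_comm j, pow_mul, pow_mul, pow_mul, K.ypow,
      K.dpow, K.cpow, one_pow, one_pow, one_pow, map_one, one_mul, one_mul, one_mul]
    exact (QuotientGroup.eq_one_iff _).mpr (hfN (⟨u, hu⟩ ^ p) (CfsgLib.pow_mem_frattini_pGroup hpg _))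
  have hle := D.section_le (U := ⊤) (N := N) le_top (fun g _ x hx => hNn.conj_mem x hx g)
    (fun a _ b _ => by
      rw [← QuotientGroup.eq_one_iff]
      show π (a * b * a⁻¹ * b⁻¹) = 1
      rw [map_mul, map_mul, map_mul, hgenc (π a) (π b)]
      simp) fun a _ => hexp a
  rw [Subgroup.card_top, K.card_eq] at hle
  have hNle : Nat.card N ≤ Nat.card M * p := by
    have h1 := Subgroup.card_mul_index (M.subgroupOf N)
    rw [Nat.card_congr (subgroupOfEquivOfLe (le_sup_left : M ≤ N)).toEquiv] at h1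
    rw [← h1]
    refine Nat.mul_le_mul_left _ ?_
    rw [← Subgroup.relIndex, hN, sup_comm, Subgroup.relIndex_sup_right]
    calc M.relIndex (zpowers K.c) ≤ Nat.card (zpowers K.c) := Nat.le_of_dvd Nat.card_pos (relIndex_dvd_card _ _)
      _ ≤ p := by rw [Nat.card_zpowers]; exact orderOf_le_of_pow_eq_one hpf.out.pos K.cpow
  have hCM : Nat.card K.C ≤ Nat.card M * p :=
    le_trans (Nat.le_of_mul_le_mul_left hle (pow_pos hpf.out.pos 3)) hNle
  -- a generator
  have hgen : ∀ u : P, u ∈ K.C → M ⊔ zpowers u = K.C → K.C = zpowers u ⊔ zpowers K.z := by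
    intro u hu he
    refine le_antisymm ?_ (sup_le (zpowers_le.mpr hu) (zpowers_le.mpr K.zC))
    have htop : (zpowers u ⊔ zpowers K.z).subgroupOf K.C = ⊤ := by
      refine CfsgLib.FrattiniLemmas.eq_top_of_sup_eq_top le_rfl (eq_top_iff.mpr fun v _ => ?_)
      have hv : (v : P) ∈ M ⊔ zpowers u := he.ge v.2
      have hle2 : M ⊔ zpowers u ≤
          ((zpowers u ⊔ zpowers K.z).subgroupOf K.C ⊔ frattini K.C).map K.C.subtype := by
        refine sup_le (sup_le (map_mono le_sup_right) ?_) ?_
        · exact zpowers_le.mpr ⟨⟨K.z, K.zC⟩, mem_sup_left (mem_subgroupOf.mpr (mem_sup_right (mem_zpowers _))), rfl⟩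
        · exact zpowers_le.mpr ⟨⟨u, hu⟩, mem_sup_left (mem_subgroupOf.mpr (mem_sup_left (mem_zpowers _))), rfl⟩
      exact (mem_map_iff_mem K.C.subtype_injective).mp (hle2 hv)
    exact subgroupOf_eq_top.mp htop
  by_cases hMC' : K.C ≤ M
  · exact ⟨1, one_mem _, hgen 1 (one_mem _) (by
      rw [zpowers_one_eq_bot, sup_bot_eq]; exact le_antisymm hMC hMC')⟩
  obtain ⟨u, hu, huM⟩ := SetLike.not_le_iff_exists.mp hMC'
  refine ⟨u, hu, hgen u hu (eq_of_le_of_card_ge (sup_le hMC (zpowers_le.mpr hu)) ?_)⟩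
  have hlt : M < M ⊔ zpowers u := lt_of_le_of_ne le_sup_left fun e => huM (e.ge (mem_sup_right (mem_zpowers u)))
  obtain ⟨a, ha⟩ := (D.pg.to_subgroup M).exists_card_eq
  obtain ⟨b, hb⟩ := (D.pg.to_subgroup (M ⊔ zpowers u : Subgroup P)).exists_card_eq
  have h1 : Nat.card M < Nat.card (M ⊔ zpowers u : Subgroup P) :=
    lt_of_le_of_ne (Subgroup.card_le_of_le hlt.le) fun e => hlt.ne (eq_of_le_of_card_ge hlt.le e.ge)
  rw [ha, hb, Nat.pow_lt_pow_iff_right hpf.out.one_lt] at h1
  rw [hb]
  refine le_trans hCM ?_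
  rw [ha, ← pow_succ]
  exact Nat.pow_le_pow_right hpf.out.pos h1

theorem C_le_center : K.C ≤ center P := by
  obtain ⟨u, hu, he⟩ := K.exists_gen
  have huc : u ∈ center P := mem_center_iff.mpr fun g => by
    have h := K.mem_of_gen (M := centralizer ({u} : Set P)) (mem_centralizer_singleton_iff.mpr (K.yC u hu))
      (mem_centralizer_singleton_iff.mpr (K.cC u hu)) (mem_centralizer_singleton_iff.mpr (K.dC u hu))
      (by
        rw [he]
        exact sup_le (zpowers_le.mpr (mem_centralizer_singleton_iff.mpr rfl))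
          (zpowers_le.mpr (mem_centralizer_singleton_iff.mpr (mem_center_iff.mp K.z_center u).symm))) g
    exact mem_centralizer_singleton_iff.mp h
  rw [he]
  exact sup_le (zpowers_le.mpr huc) (zpowers_le.mpr K.z_center)

/-- The `p`-th powers lie in the powers of the central part and the commutator. -/
theorem pow_mem_agemo (x : P) : ∃ v ∈ K.C, ∃ k : ℕ, x ^ p = K.z ^ k * v ^ p := by
  haveI := K.comms_normal
  haveI hzn : (zpowers K.z).Normal := ⟨fun w hw g => by
    obtain ⟨k, rfl⟩ := hw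
    rw [mem_center_iff.mp (zpow_mem K.z_center k) g, mul_inv_cancel_right]
    exact zpow_mem (mem_zpowers _) k⟩
  set Q := P ⧸ zpowers K.z
  let π := QuotientGroup.mk' (zpowers K.z)
  have hz : π K.z = 1 := (QuotientGroup.eq_one_iff _).mpr (mem_zpowers _)
  have hcc : π K.c ∈ center Q := mem_center_iff.mpr fun q => by
    obtain ⟨g, rfl⟩ := QuotientGroup.mk'_surjective _ q
    have h := K.mem_of_gen (M := (centralizer ({π K.c} : Set Q)).comap π)
      (mem_centralizer_singleton_iff.mpr (by rw [← map_mul, ← map_mul, K.yc]))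
      (mem_centralizer_singleton_iff.mpr rfl)
      (mem_centralizer_singleton_iff.mpr (by
        rw [← map_mul π K.c, K.cd', map_mul π, map_mul π, hz, one_mul]))
      (fun u hu => mem_centralizer_singleton_iff.mpr (by rw [← map_mul, ← map_mul, K.cC u hu])) g
    exact mem_centralizer_singleton_iff.mp h
  have hCc : ∀ u ∈ K.C, π u ∈ center Q := fun u hu => mem_center_iff.mpr fun q => by
    obtain ⟨g, rfl⟩ := QuotientGroup.mk'_surjective _ q
    rw [← map_mul, ← map_mul, mem_center_iff.mp (K.C_le_center hu) g]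
  haveI : (zpowers (π K.c)).Normal := ⟨fun w hw g => by
    obtain ⟨k, rfl⟩ := hw
    rw [mem_center_iff.mp (zpow_mem hcc k) g, mul_inv_cancel_right]
    exact zpow_mem (mem_zpowers _) k⟩
  have hcomm : _root_.commutator Q ≤ zpowers (π K.c) := by
    rw [commutator_def, commutator_le]
    intro a _ b _
    rw [← QuotientGroup.eq_one_iff, ← QuotientGroup.mk'_apply, map_commutatorElement,
      commutatorElement_eq_one_iff_mul_comm]
    -- all generators commute modulo the two commutators
    let σ := (QuotientGroup.mk' (zpowers (π K.c))).comp π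
    have hσc : σ K.c = 1 := (QuotientGroup.eq_one_iff _).mpr (mem_zpowers _)
    have hσC : ∀ u ∈ K.C, ∀ g, σ g * σ u = σ u * σ g := fun u hu g => by
      rw [← map_mul, ← map_mul, mem_center_iff.mp (K.C_le_center hu) g]
    have hσy : ∀ g, σ g * σ y = σ y * σ g := fun g => by
      have h := K.mem_of_gen (M := (centralizer ({σ y} : Set _)).comap σ) (mem_centralizer_singleton_iff.mpr rfl)
        (mem_centralizer_singleton_iff.mpr (by rw [hσc, one_mul, mul_one]))
        (mem_centralizer_singleton_iff.mpr (by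
          have h1 : y * K.d = K.c * K.d * y := by rw [← K.yd]; group
          rw [← map_mul σ y K.d, h1, map_mul σ, map_mul σ, hσc, one_mul]))
        (fun u hu => mem_centralizer_singleton_iff.mpr (hσC u hu y).symm) g
      exact mem_centralizer_singleton_iff.mp h
    obtain ⟨a, rfl⟩ := QuotientGroup.mk'_surjective _ a
    obtain ⟨b, rfl⟩ := QuotientGroup.mk'_surjective _ b
    show σ a * σ b = σ b * σ a
    have h := K.mem_of_gen (M := (centralizer ({σ b} : Set _)).comap σ)
      (mem_centralizer_singleton_iff.mpr (hσy b).symm)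
      (mem_centralizer_singleton_iff.mpr (by rw [hσc, one_mul, mul_one]))
      (mem_centralizer_singleton_iff.mpr ?_)
      (fun u hu => mem_centralizer_singleton_iff.mpr (hσC u hu b).symm) a
    · exact mem_centralizer_singleton_iff.mp h
    have h' := K.mem_of_gen (M := (centralizer ({σ K.d} : Set _)).comap σ)
      (mem_centralizer_singleton_iff.mpr (hσy K.d).symm)
      (mem_centralizer_singleton_iff.mpr (by rw [hσc, one_mul, mul_one]))
      (mem_centralizer_singleton_iff.mpr rfl)
      (fun u hu => mem_centralizer_singleton_iff.mpr (hσC u hu K.d).symm) b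
    exact (mem_centralizer_singleton_iff.mp h').symm
  have hmul : ∀ a b : Q, (a * b) ^ p = a ^ p * b ^ p :=
    CfsgLib.CyclicMax.mul_pow_of_central_commutators D.odd (hcomm.trans (zpowers_le.mpr hcc)) fun w hw => by
      obtain ⟨k, rfl⟩ := hcomm hw
      rw [← zpow_natCast, ← zpow_mul, mul_comm, zpow_mul, zpow_natCast, ← map_pow, K.cpow, map_one, one_zpow]
  obtain ⟨l, i, j, u, hu, rfl⟩ := K.decompP x
  have hone : ∀ {g : P} (m : ℕ), g ^ p = 1 → π (g ^ m) ^ p = 1 := fun {g} m hg => by
    rw [← map_pow, ← pow_mul, mul_comm, pow_mul, hg, one_pow, map_one]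
  have h1 : π ((y ^ l * K.d ^ i * K.c ^ j * u) ^ p) = π (u ^ p) := by
    rw [map_pow, map_mul, map_mul, map_mul, hmul, hmul, hmul, hone l K.ypow, hone i K.dpow, hone j K.cpow,
      one_mul, one_mul, one_mul, map_pow]
  obtain ⟨k, hk⟩ := mem_powers_iff_mem_zpowers.mpr ((QuotientGroup.eq).mp h1.symm)
  refine ⟨u, hu, k, ?_⟩
  have hk' : K.z ^ k = (u ^ p)⁻¹ * (y ^ l * K.d ^ i * K.c ^ j * u) ^ p := hk
  calc (y ^ l * K.d ^ i * K.c ^ j * u) ^ p = u ^ p * K.z ^ k := by rw [hk', mul_inv_cancel_left]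
    _ = K.z ^ k * u ^ p := mem_center_iff.mp (pow_mem K.z_center k) (u ^ p)

theorem c_ne : K.c ≠ 1 := fun h1 => by
  have h2 := K.indep 0 1 (by rw [pow_zero, one_mul, pow_one, h1]; exact one_mem _)
  exact hpf.out.one_lt.ne' (Nat.dvd_one.mp h2.2)

theorem not_comm : y * K.d ≠ K.d * y := fun h => K.c_ne (by
  have h1 := K.yd
  rw [h, mul_inv_cancel_right] at h1
  exact (right_eq_mul.mp h1))

/-- The central part is not trivial. -/
theorem C_ne_bot : K.C ≠ ⊥ := by
  intro hC
  have hpp : p.Prime := hpf.out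
  have hcard := K.card_eq
  rw [hC, Subgroup.card_bot, mul_one] at hcard
  refine D.rank' fun H N hN A hA hexp => ?_
  by_contra hlt
  push Not at hlt
  obtain ⟨k, -, hk⟩ := (Nat.dvd_prime_pow hpp).mp (hcard ▸ card_subgroup_dvd_card H)
  have h2 : Nat.card A ≤ Nat.card H := by
    refine le_trans (Subgroup.card_le_card_group A) ?_
    rw [← Subgroup.index_eq_card]
    exact Nat.le_of_dvd Nat.card_pos N.index_dvd_card
  obtain ⟨a, -, ha⟩ := (Nat.dvd_prime_pow hpp).mp (show Nat.card A ∣ p ^ k from by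
    rw [← hk]
    exact (card_subgroup_dvd_card A).trans (N.index_eq_card ▸ N.index_dvd_card))
  rw [ha, Nat.pow_lt_pow_iff_right hpp.one_lt] at hlt
  rw [ha, hk, Nat.pow_le_pow_iff_right hpp.one_lt] at h2
  have hkle : k ≤ 3 := by
    have h3 := Subgroup.card_le_card_group H
    rwa [hk, hcard, Nat.pow_le_pow_iff_right hpp.one_lt] at h3
  have hA3 : a = 3 := by omega
  have hk3 : k = 3 := by omega
  have hH : H = ⊤ := Subgroup.eq_top_of_card_eq _ (by rw [hk, hcard, hk3])
  have hN' : N = ⊥ := by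
    refine Subgroup.eq_bot_of_card_eq _ ?_
    have h4 := N.card_mul_index
    have h5 := Nat.le_of_dvd Nat.card_pos (card_subgroup_dvd_card A)
    rw [ha, hA3, ← Subgroup.index_eq_card] at h5
    rw [hk, hk3] at h4
    have hpos : 0 < Nat.card N := Nat.card_pos
    by_contra hne
    have h2N : 2 ≤ Nat.card N := by omega
    nlinarith [Nat.mul_le_mul h2N h5, pow_pos hpp.pos 3]
  subst hH hN'
  have hAtop : A = ⊤ := Subgroup.eq_top_of_card_eq _ (le_antisymm (Subgroup.card_le_card_group A) (by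
    rw [ha, hA3, ← Subgroup.index_eq_card, Subgroup.index_bot, hk, hk3]))
  refine K.not_comm ?_
  have h6 := hA.is_comm.comm (⟨QuotientGroup.mk ⟨y, mem_top y⟩, hAtop.ge (mem_top _)⟩ : A)
    ⟨QuotientGroup.mk ⟨K.d, mem_top _⟩, hAtop.ge (mem_top _)⟩
  have h7 := (QuotientGroup.eq).mp (congrArg Subtype.val h6)
  rw [mem_bot] at h7
  exact congrArg Subtype.val (inv_mul_eq_one.mp h7)

theorem c_notMem : K.c ∉ K.C := fun h => by
  have h2 := K.indep 0 1 (by rwa [pow_zero, one_mul, pow_one])
  exact hpf.out.one_lt.ne' (Nat.dvd_one.mp h2.2)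

/-- The central part is cyclic. -/
theorem exists_cyclic : ∃ u, K.C = zpowers u := by
  classical
  have hpp : p.Prime := hpf.out
  obtain ⟨u, hu, he⟩ := K.exists_gen
  by_cases hz : K.z ∈ zpowers u
  · exact ⟨u, by rw [he, sup_eq_left.mpr (zpowers_le.mpr hz)]⟩
  obtain ⟨m, hm⟩ := (IsPGroup.iff_orderOf.mp D.pg) u
  rcases Nat.eq_zero_or_pos m with hm0 | hm0
  · rw [hm0, pow_zero, orderOf_eq_one_iff] at hm
    exact ⟨K.z, by rw [he, hm, zpowers_one_eq_bot, bot_sup_eq]⟩
  exfalso
  set w := u ^ p ^ (m - 1) with hw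
  have hmm : p ^ m = p ^ (m - 1) * p := by rw [← pow_succ]; congr 1; omega
  have hwp : w ^ p = 1 := by rw [hw, ← pow_mul, ← hmm, ← hm, pow_orderOf_eq_one]
  have hw1 : w ≠ 1 := by
    intro h1
    have h2 := orderOf_dvd_of_pow_eq_one h1
    rw [hm, hmm] at h2
    have h4 := Nat.le_of_dvd (pow_pos hpp.pos _) h2
    have h5 := pow_pos hpp.pos (m - 1)
    have := hpp.two_le
    nlinarith
  have hwz : w ∉ zpowers K.z := by
    intro hmem
    obtain ⟨k, hk⟩ := mem_powers_iff_mem_zpowers.mpr hmem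
    have hk' : K.z ^ k = w := hk
    have hpk : ¬ p ∣ k := by
      rintro ⟨a, rfl⟩
      rw [pow_mul, K.zpow, one_pow] at hk'
      exact hw1 hk'.symm
    obtain ⟨a, -, ha⟩ := Nat.exists_mul_mod_eq_one_of_coprime ((hpp.coprime_iff_not_dvd.mpr hpk).symm) hpp.one_lt
    refine hz ?_
    have h1 : K.z = w ^ a := by
      rw [← hk', ← pow_mul, pow_eq_pow_mod _ K.zpow, ha, pow_one]
    rw [h1, hw, ← pow_mul]
    exact pow_mem (mem_zpowers u) _
  have hwC : w ∈ K.C := pow_mem hu _
  have hz1 : K.z ≠ 1 := fun h1 => hz (by rw [h1]; exact one_mem _)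
  -- four commuting elements of order `p`
  let f : Fin p × Fin p × Fin p × Fin p → P := fun x =>
    y ^ (x.1 : ℕ) * K.c ^ (x.2.1 : ℕ) * K.z ^ (x.2.2.1 : ℕ) * w ^ (x.2.2.2 : ℕ)
  set U : Subgroup P := closure {y, K.c, K.z, w} with hU
  have hUc : ∀ a ∈ ({y, K.c, K.z, w} : Set P), ∀ b ∈ ({y, K.c, K.z, w} : Set P), a * b = b * a := by
    intro a ha b hb
    simp only [Set.mem_insert_iff, Set.mem_singleton_iff] at ha hb
    have hyw := K.yC w hwC
    have hcw := K.cC w hwC
    have hzw := (mem_center_iff.mp K.z_center w).symm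
    rcases ha with rfl | rfl | rfl | rfl <;> rcases hb with rfl | rfl | rfl | rfl <;>
      first
        | rfl
        | exact K.yc | exact K.yc.symm | exact K.zy | exact K.zy.symm | exact K.zc | exact K.zc.symm
        | exact hyw | exact hyw.symm | exact hcw | exact hcw.symm | exact hzw | exact hzw.symm
  haveI := Subgroup.isMulCommutative_closure hUc
  have hcomm : ∀ a ∈ U, ∀ b ∈ U, a * b = b * a := fun a ha b hb =>
    congrArg Subtype.val (IsMulCommutative.is_comm.comm (⟨a, ha⟩ : U) ⟨b, hb⟩)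
  have hexp : ∀ a ∈ U, a ^ p = 1 := by
    intro a ha
    induction ha using Subgroup.closure_induction with
    | mem x hx =>
      simp only [Set.mem_insert_iff, Set.mem_singleton_iff] at hx
      rcases hx with rfl | rfl | rfl | rfl
      exacts [K.ypow, K.cpow, K.zpow, hwp]
    | one => exact one_pow p
    | mul x x' hx hx' h1 h2 => rw [(show Commute x x' from hcomm x hx x' hx').mul_pow, h1, h2, one_mul]
    | inv x _ h1 => rw [inv_pow, h1, inv_one]
  have hle := D.elementary_le hcomm hexp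
  have hfU : ∀ x, f x ∈ U := fun x =>
    mul_mem (mul_mem (mul_mem (pow_mem (subset_closure (by simp)) _) (pow_mem (subset_closure (by simp)) _))
      (pow_mem (subset_closure (by simp)) _)) (pow_mem (subset_closure (by simp)) _)
  have hinj : Function.Injective (fun x => (⟨f x, hfU x⟩ : U)) := by
    rintro ⟨a, b, c, d⟩ ⟨a', b', c', d'⟩ h
    have h' : f (a, b, c, d) = f (a', b', c', d') := congrArg Subtype.val h
    simp only [f] at h'
    have hord : ∀ {g : P} {M : Subgroup P}, g ^ p = 1 → g ∉ M → ∀ {i j : Fin p} {s t : P},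
        s ∈ M → t ∈ M → g ^ (i : ℕ) * s = g ^ (j : ℕ) * t → i = j := by
      intro g M hg hgM i j s t hs ht he2
      by_contra hne
      have key : ∀ {i j : ℕ} {s t : P}, i < j → j < p → s ∈ M → t ∈ M → g ^ i * s = g ^ j * t → False := by
        intro i j s t hij hj hs ht he3
        have h1 : g ^ (j - i) ∈ M := by
          have h2 : g ^ (j - i) = s * t⁻¹ := by
            rw [pow_sub g hij.le]
            calc g ^ j * (g ^ i)⁻¹ = (g ^ i)⁻¹ * (g ^ j * t) * t⁻¹ := by group
              _ = s * t⁻¹ := by rw [← he3]; group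
          rw [h2]; exact mul_mem hs (inv_mem ht)
        have hnd : ¬ p ∣ j - i := Nat.not_dvd_of_pos_of_lt (by omega) (by omega)
        obtain ⟨a, -, ha⟩ := Nat.exists_mul_mod_eq_one_of_coprime
          ((hpp.coprime_iff_not_dvd.mpr hnd).symm) hpp.one_lt
        refine hgM ?_
        have h3 := pow_mem h1 a
        rwa [← pow_mul, pow_eq_pow_mod _ hg, ha, pow_one] at h3
      rcases Nat.lt_or_gt_of_ne (fun h9 => hne (Fin.ext h9)) with h9 | h9
      · exact key h9 j.2 hs ht he2
      · exact key h9 i.2 ht hs he2.symm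
    have hcE : K.c ∈ E := K.cE
    have hzE : K.z ∈ E := K.CE K.zC
    have hwE : w ∈ E := K.CE hwC
    have e1 : a = a' := hord K.ypow K.out
      (mul_mem (mul_mem (pow_mem hcE _) (pow_mem hzE _)) (pow_mem hwE _))
      (mul_mem (mul_mem (pow_mem hcE _) (pow_mem hzE _)) (pow_mem hwE _))
      (by simpa [mul_assoc] using h')
    subst e1
    rw [mul_assoc, mul_assoc, mul_assoc, mul_assoc, mul_left_cancel_iff] at h'
    have e2 : b = b' := hord K.cpow K.c_notMem (mul_mem (pow_mem K.zC _) (pow_mem hwC _))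
      (mul_mem (pow_mem K.zC _) (pow_mem hwC _)) h'
    subst e2
    rw [mul_left_cancel_iff] at h'
    have e3 : d = d' := hord hwp hwz (pow_mem (mem_zpowers K.z) (c : ℕ)) (pow_mem (mem_zpowers K.z) (c' : ℕ)) 
      ((mem_center_iff.mp (pow_mem K.z_center (c : ℕ)) (w ^ (d : ℕ))).trans
        (h'.trans (mem_center_iff.mp (pow_mem K.z_center (c' : ℕ)) (w ^ (d' : ℕ))).symm))
    subst e3
    rw [mul_right_cancel_iff] at h'
    have e4 : c = c' := hord K.zpow (M := ⊥) (fun h1 => hz1 (mem_bot.mp h1)) (one_mem _) (one_mem _) (by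
      rw [mul_one, mul_one]; exact h')
    subst e4
    rfl
  have hcardle := Nat.card_le_card_of_injective _ hinj
  rw [Nat.card_prod, Nat.card_prod, Nat.card_prod, Nat.card_fin] at hcardle
  have := pow_pos hpp.pos 3
  have := hpp.two_le
  nlinarith [hle, hcardle]

/-- The powers of the central part are trivial. -/
theorem C_pow : ∀ v ∈ K.C, v ^ p = 1 := by
  have hpp : p.Prime := hpf.out
  obtain ⟨u, hCu⟩ := K.exists_cyclic
  have huC : u ∈ K.C := hCu.ge (mem_zpowers u)
  intro v hv
  obtain ⟨k, rfl⟩ := hCu.le hv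
  suffices hu : u ^ p = 1 by rw [← zpow_natCast, ← zpow_mul, mul_comm, zpow_mul, zpow_natCast, hu, one_zpow]
  by_contra hup
  set N := zpowers (u ^ p) with hN
  have hvp : ∀ w ∈ K.C, w ^ p ∈ N := by
    intro w hw
    obtain ⟨k, rfl⟩ := hCu.le hw
    rw [← zpow_natCast, ← zpow_mul, mul_comm, zpow_mul, zpow_natCast]
    exact zpow_mem (mem_zpowers _) k
  have hzN : K.z ∈ N := by
    obtain ⟨k, hk⟩ := mem_powers_iff_mem_zpowers.mpr (hCu.le K.zC)
    have hk' : u ^ k = K.z := hk
    by_cases hpk : p ∣ k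
    · obtain ⟨a, rfl⟩ := hpk
      rw [← hk', pow_mul]
      exact pow_mem (mem_zpowers _) a
    refine absurd ?_ hup
    have h1 : orderOf u ∣ k * p := orderOf_dvd_of_pow_eq_one (by rw [pow_mul, hk', K.zpow])
    obtain ⟨m, hm⟩ := (IsPGroup.iff_orderOf.mp D.pg) u
    rw [hm] at h1
    have h3 : p ^ m ∣ p :=
      (Nat.Coprime.pow_left m (hpp.coprime_iff_not_dvd.mpr hpk)).dvd_of_dvd_mul_left h1
    rw [← orderOf_dvd_iff_pow_eq_one, hm]
    exact h3
  have hpow : ∀ x : P, x ^ p ∈ N := by
    intro x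
    obtain ⟨w, hw, k, hk⟩ := K.pow_mem_agemo x
    rw [hk]
    exact mul_mem (pow_mem hzN k) (hvp w hw)
  have hNC : N ≤ center P := zpowers_le.mpr (pow_mem (K.C_le_center huC) p)
  refine D.core N (fun h0 => hup (zpowers_eq_bot.mp h0)) ⟨fun n hn g => ?_⟩ (fun β _ g hg => ?_)
    fun K' hK' => ⟨hNC.trans (D.center_le hK'), fun α _ e he => ?_⟩
  · rw [mem_center_iff.mp (hNC hn) g, mul_inv_cancel_right]
    exact hn
  · obtain ⟨k, rfl⟩ := hg
    show β ((u ^ p) ^ k) ∈ N
    rw [map_zpow, map_pow]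
    exact zpow_mem (hpow _) k
  · obtain ⟨k, hk⟩ := he
    have hu' : u ^ k ∈ K' := D.center_le hK' (zpow_mem (K.C_le_center huC) k)
    have he2 : e = (⟨u ^ k, hu'⟩ : K') ^ p := Subtype.ext (by
      rw [Subgroup.coe_pow, ← hk]
      show (u ^ p) ^ k = (u ^ k) ^ p
      rw [← zpow_natCast, ← zpow_natCast, ← zpow_mul, ← zpow_mul, mul_comm])
    rw [he2, map_pow, Subgroup.coe_pow]
    exact hpow _

theorem card_C : Nat.card K.C = p := by
  obtain ⟨u, hu⟩ := K.exists_cyclic
  have huC : u ∈ K.C := hu.ge (mem_zpowers u)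
  have h1 : u ≠ 1 := fun h => K.C_ne_bot (by rw [hu, h, zpowers_one_eq_bot])
  rw [hu, Nat.card_zpowers]
  exact orderOf_eq_prime (K.C_pow u huC) h1

theorem card_P : Nat.card P = p ^ 4 := by
  rw [K.card_eq, K.card_C]; ring

end KeyData

end CfsgLib.SectThree
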