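import Cfsg.Agent.Lib.SectThree.Flag
import Cfsg.Agent.Lib.SectThree.Key

/-!
The orbits of the central elements of order `p`.
-/

set_option autoImplicit false
set_option linter.unusedSectionVars false
set_option linter.style.haveILetI false

namespace CfsgLib.SectThree

open Subgroup

variable {p : ℕ} [hpf : Fact p.Prime] {P : Type*} [Group P] [Finite P]

namespace Sys

variable (D : Sys p P) {K : Subgroup P}

/-- The subgroup generated by the images of the central elements of order `p`. -/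
def mov (K : Subgroup P) : Subgroup P :=
  closure {g | ∃ α ∈ D.A K, ∃ e : K, (e : P) ∈ zOne p P ∧ ((α e : K) : P) = g}

/-- The subgroup moves the central elements of order `p`. -/
def IsMover (K : Subgroup P) : Prop := K ∈ D.Ess ∧ ¬ D.mov K ≤ center P

/-- No element of order `p` centralises a maximal subgroup of a member not containing it. -/
def NoTv : Prop := ∀ (E : Subgroup P) (y : P), ¬ Tv D E y

theorem zOne_le_mov (hK : K ∈ D.Ess) : zOne p P ≤ D.mov K := fun z hz =>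
  subset_closure ⟨1, one_mem _, ⟨z, D.zOne_le hK hz⟩, hz, rfl⟩

theorem mov_le : D.mov K ≤ K := by
  rw [mov, closure_le]
  rintro _ ⟨α, -, e, -, rfl⟩
  exact (α e).2

theorem mov_comm {g : P} (hg : g ∈ D.mov K) {k : P} (hk : k ∈ K) : k * g = g * k := by
  have hle : D.mov K ≤ centralizer ({k} : Set P) := by
    rw [mov, closure_le]
    rintro _ ⟨α, -, e, he, rfl⟩
    refine mem_centralizer_singleton_iff.mpr (congrArg Subtype.val (?_ : α e * ⟨k, hk⟩ = ⟨k, hk⟩ * α e))
    have h : α⁻¹ ⟨k, hk⟩ * e = e * α⁻¹ ⟨k, hk⟩ := Subtype.ext (mem_center_iff.mp he.1 _)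
    have h' := congrArg α h
    rw [map_mul, map_mul, MulAut.apply_inv_self] at h'
    exact h'.symm
  exact (mem_centralizer_singleton_iff.mp (hle hg)).symm

theorem mov_pow {g : P} (hg : g ∈ D.mov K) : g ^ p = 1 := by
  induction hg using Subgroup.closure_induction with
  | mem x hx =>
    obtain ⟨α, -, e, he, rfl⟩ := hx
    rw [← Subgroup.coe_pow, ← map_pow, show e ^ p = 1 from Subtype.ext he.2, map_one, Subgroup.coe_one]
  | one => exact one_pow p
  | mul x x' hx hx' h1 h2 =>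
    rw [(show Commute x x' from D.mov_comm hx' (D.mov_le hx)).mul_pow, h1, h2, one_mul]
  | inv x _ h1 => rw [inv_pow, h1, inv_one]

theorem mov_card : Nat.card (D.mov K) ≤ p ^ 3 :=
  D.elementary_le (fun _ ha _ hb => D.mov_comm hb (D.mov_le ha)) fun _ ha => D.mov_pow ha

theorem mov_inv {α : MulAut K} (hα : α ∈ D.A K) {e : K} (he : (e : P) ∈ D.mov K) : ((α e : K) : P) ∈ D.mov K := by
  have hle : (D.mov K).subgroupOf K ≤ ((D.mov K).subgroupOf K).comap α.toMonoidHom := by
    have h1 : D.mov K ≤ (((D.mov K).subgroupOf K).comap α.toMonoidHom).map K.subtype := by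
      rw [mov, closure_le]
      rintro _ ⟨α', hα', e', he', rfl⟩
      refine ⟨α' e', ?_, rfl⟩
      show ((α (α' e') : K) : P) ∈ D.mov K
      exact subset_closure ⟨α * α', (D.A K).mul_mem hα hα', e', he', rfl⟩
    exact fun x hx => (mem_map_iff_mem K.subtype_injective).mp (h1 (mem_subgroupOf.mp hx))
  exact mem_subgroupOf.mp (hle (mem_subgroupOf.mpr he))

theorem mov_normal (hK : K ∈ D.Ess) : (D.mov K).Normal :=
  ⟨fun x hx g => by
    have hxK : x ∈ K := D.mov_le hx
    have h := D.mov_inv (K := K) (D.cj_mem hK g) (e := ⟨x, hxK⟩) hx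
    rwa [D.coe_cj] at h⟩

theorem mov_eq_zOne (hK : K ∈ D.Ess) (h : D.mov K ≤ center P) : D.mov K = zOne p P :=
  le_antisymm (fun _ hg => ⟨h hg, D.mov_pow hg⟩) (D.zOne_le_mov hK)

theorem cen_mov {g : P} (hK : D.IsMover K) (hg : ∀ v ∈ D.mov K, g * v = v * g) : g ∈ K := by
  by_contra hgK
  refine hK.2 fun v hv => mem_center_iff.mpr fun x => ?_
  obtain ⟨i, e, he, rfl⟩ := D.exists_pow_mul hK.1 hgK x
  rw [mul_assoc, D.mov_comm hv he, ← mul_assoc, ((show Commute g v from hg v hv).pow_left i).eq, mul_assoc]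

include D in
theorem zOne_ne_bot [Nontrivial P] : zOne p P ≠ ⊥ := by
  intro h
  haveI : Fact (IsPGroup p P) := ⟨D.pg⟩
  haveI := D.pg.center_nontrivial
  obtain ⟨k, hk⟩ := (D.pg.to_subgroup (center P)).exists_card_eq
  have hk0 : k ≠ 0 := fun h0 => by
    rw [h0, pow_zero] at hk
    exact (Finite.one_lt_card (α := center P)).ne' hk
  obtain ⟨z, hz⟩ := exists_prime_orderOf_dvd_card' (G := center P) p (hk ▸ dvd_pow_self p hk0)
  have hmem : (z : P) ∈ zOne p P := ⟨z.2, by
    rw [← Subgroup.coe_pow, ← hz, pow_orderOf_eq_one, Subgroup.coe_one]⟩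
  rw [h, mem_bot] at hmem
  rw [show z = 1 from Subtype.ext hmem, orderOf_one] at hz
  exact hpf.out.one_lt.ne hz

include D in
theorem nontrivial : Nontrivial P := by
  by_contra h
  haveI := not_nontrivial_iff_subsingleton.mp h
  refine D.rank' fun H N hN A hA _ => ?_
  rw [Nat.card_unique]
  exact Nat.one_le_pow _ _ hpf.out.pos

theorem exists_mover : ∃ K, D.IsMover K := by
  by_contra hno
  push Not at hno
  haveI := D.nontrivial
  refine D.core (zOne p P) D.zOne_ne_bot ⟨fun z hz g => ?_⟩ (fun β _ g hg => ⟨mem_center_iff.mpr fun x => ?_, ?_⟩)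
    fun K hK => ⟨D.zOne_le hK, fun α hα e he => ?_⟩
  · rw [mem_center_iff.mp hz.1 g, mul_inv_cancel_right]; exact hz
  · rw [← MulAut.apply_inv_self _ β x, ← map_mul, ← map_mul, mem_center_iff.mp hg.1]
  · rw [← map_pow, hg.2, map_one]
  · have h : D.mov K ≤ center P := by
      by_contra h
      exact hno K ⟨hK, h⟩
    exact D.mov_eq_zOne hK h ▸ subset_closure ⟨α, hα, e, he, rfl⟩

theorem mov_le_ess (hT : D.NoTv) {E : Subgroup P} (hE : D.IsMover E) {K' : Subgroup P} (hK : K' ∈ D.Ess) :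
    D.mov E ≤ K' := by
  intro y hy
  by_contra hyK
  refine hT K' y ⟨hK, hyK, D.mov_pow hy, ?_⟩
  haveI := D.nrm E hE.1
  have hdvd : (centralizer ({y} : Set P)).relIndex K' ∣ p := by
    refine (Subgroup.relIndex_dvd_of_le_left K' (fun k hk => mem_centralizer_singleton_iff.mpr
      (D.mov_comm hy hk) : E ≤ centralizer ({y} : Set P))).trans ?_
    have h1 := Subgroup.relIndex_dvd_index_of_normal E K'
    rwa [D.idx E hE.1] at h1
  refine (Nat.dvd_prime hpf.out).mp hdvd |>.resolve_left fun h1 => hyK (D.cen K' hK ?_)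
  exact mem_centralizer_iff.mpr fun k hk => mem_centralizer_singleton_iff.mp (Subgroup.relIndex_eq_one.mp h1 hk)

theorem mov_trans {β : MulAut P} (hβ : β ∈ D.B) (hK : K ∈ D.Ess) :
    ∃ K' ∈ D.Ess, (∀ g, g ∈ K' ↔ β⁻¹ g ∈ K) ∧ ∀ g, g ∈ D.mov K' ↔ β⁻¹ g ∈ D.mov K := by
  have key : ∀ {β : MulAut P}, β ∈ D.B → ∀ {K : Subgroup P}, K ∈ D.Ess →
      ∃ K' ∈ D.Ess, (∀ g, g ∈ K' ↔ β⁻¹ g ∈ K) ∧ ∀ g ∈ D.mov K, β g ∈ D.mov K' := by
    intro β hβ K hK
    obtain ⟨K', hK', hmem, htr⟩ := D.transB β hβ K hK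
    refine ⟨K', hK', hmem, fun g hg => ?_⟩
    have hle : D.mov K ≤ (D.mov K').comap β.toMonoidHom := by
      rw [mov, closure_le]
      rintro _ ⟨α, hα, e, he, rfl⟩
      obtain ⟨α', hα', h⟩ := htr α hα
      have heK : β (e : P) ∈ K' := (hmem _).mpr (by rw [MulAut.inv_apply_self]; exact e.2)
      refine subset_closure ⟨α', hα', ⟨_, heK⟩, ⟨mem_center_iff.mpr fun x => ?_, ?_⟩, h e ⟨_, heK⟩ rfl⟩
      · show x * β (e : P) = β (e : P) * x
        rw [← MulAut.apply_inv_self _ β x, ← map_mul, ← map_mul, mem_center_iff.mp he.1]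
      · show β (e : P) ^ p = 1
        rw [← map_pow, he.2, map_one]
    exact hle hg
  obtain ⟨K', hK', hmem, h1⟩ := key hβ hK
  refine ⟨K', hK', hmem, fun g => ⟨fun hg => ?_, fun hg => ?_⟩⟩
  · obtain ⟨K'', -, hmem', h2⟩ := key ((D.B).inv_mem hβ) hK'
    have e : K'' = K := Subgroup.ext fun x => by
      rw [hmem', hmem, inv_inv, MulAut.inv_apply_self]
    exact e ▸ h2 g hg
  · have h := h1 _ hg
    rwa [MulAut.apply_inv_self] at h

theorem mover_trans {β : MulAut P} {K K' : Subgroup P} (hK' : K' ∈ D.Ess) (hK : D.IsMover K)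
    (h : ∀ g, g ∈ D.mov K' ↔ β⁻¹ g ∈ D.mov K) : D.IsMover K' := by
  refine ⟨hK', fun hle => hK.2 fun v hv => mem_center_iff.mpr fun x => β.injective ?_⟩
  rw [map_mul, map_mul]
  exact mem_center_iff.mp (hle ((h _).mpr (by rw [MulAut.inv_apply_self]; exact hv))) _

/-- Some member moves the orbit of some other one. -/
theorem exists_moving (hT : D.NoTv) : ∃ E₁, D.IsMover E₁ ∧ ∃ E₂ ∈ D.Ess, ∃ α ∈ D.A E₂, ∃ e : E₂,
    (e : P) ∈ D.mov E₁ ∧ ((α e : E₂) : P) ∉ D.mov E₁ := by
  by_contra hno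
  push Not at hno
  obtain ⟨E₀, hE₀⟩ := D.exists_mover
  let N : Subgroup P := closure {g | ∃ K, D.IsMover K ∧ g ∈ D.mov K}
  refine D.core N (fun h0 => hE₀.2 fun v hv => ?_) ⟨fun n hn g => ?_⟩ (fun β hβ g hg => ?_)
    fun K hK => ⟨?_, fun α hα e he => ?_⟩
  · have hvN : v ∈ N := subset_closure ⟨E₀, hE₀, hv⟩
    rw [h0, mem_bot] at hvN
    rw [hvN]
    exact one_mem _
  · have hle : N ≤ N.comap (MulAut.conj g).toMonoidHom := by
      rw [closure_le]
      rintro x ⟨K, hK, hx⟩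
      exact subset_closure ⟨K, hK, (D.mov_normal hK.1).conj_mem x hx g⟩
    exact hle hn
  · have hle : N ≤ N.comap β.toMonoidHom := by
      rw [closure_le]
      rintro x ⟨K, hK, hx⟩
      obtain ⟨K', hK', -, hmov⟩ := D.mov_trans hβ hK.1
      exact subset_closure ⟨K', D.mover_trans hK' hK hmov, (hmov _).mpr (by
        show β⁻¹ (β x) ∈ _
        rw [MulAut.inv_apply_self]; exact hx)⟩
    exact hle hg
  · rw [closure_le]
    rintro x ⟨K', hK', hx⟩
    exact D.mov_le_ess hT hK' hK hx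
  · have hle : N ≤ ((N.subgroupOf K).comap α.toMonoidHom).map K.subtype := by
      rw [closure_le]
      rintro x ⟨K', hK', hx⟩
      have hxK : x ∈ K := D.mov_le_ess hT hK' hK hx
      refine ⟨⟨x, hxK⟩, ?_, rfl⟩
      show ((α ⟨x, hxK⟩ : K) : P) ∈ N
      exact subset_closure ⟨K', hK', hno K' hK' K hK α hα ⟨x, hxK⟩ hx⟩
    obtain ⟨e', he', hee⟩ := hle he
    rw [K.subtype_injective hee] at he'
    exact mem_subgroupOf.mp he'

end Sys

end CfsgLib.SectThree
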