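import Cfsg.Agent.Lib.SectThree.Gen

/-!
Orbits of subgroups under the automisers, and the orbit of the moved orbit of the centre.
-/

set_option autoImplicit false
set_option linter.unusedSectionVars false
set_option linter.style.haveILetI false

namespace CfsgLib.SectThree

open Subgroup

variable {p : ℕ} [hpf : Fact p.Prime]

/-- Elements of `p`-groups act trivially on chief factors. -/
theorem comm_mem_of_card_le {G : Type*} [Group G] [Finite G] (hG : IsPGroup p G) {N M : Subgroup G}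
    [hN : N.Normal] [hMn : M.Normal] (hNM : N ≤ M) (hc : Nat.card M ≤ p * Nat.card N) (g : G) {m : G}
    (hm : m ∈ M) : g * m * g⁻¹ * m⁻¹ ∈ N := by
  have hpp : p.Prime := hpf.out
  by_cases hmN : m ∈ N
  · exact mul_mem (hN.conj_mem m hmN g) (inv_mem hmN)
  set q : G ⧸ N := QuotientGroup.mk m with hq
  have hq1 : q ≠ 1 := fun h => hmN ((QuotientGroup.eq_one_iff m).mp h)
  let M' := M.map (QuotientGroup.mk' N)
  haveI : M'.Normal := hMn.map _ (QuotientGroup.mk'_surjective N)
  have hqM : q ∈ M' := ⟨m, hm, rfl⟩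
  have hcard : Nat.card M' ≤ p := by
    have h1 : Nat.card M' * Nat.card N = Nat.card M := by
      have h2 := (N.subgroupOf M).card_mul_index
      rw [Nat.card_congr (subgroupOfEquivOfLe hNM).toEquiv] at h2
      have h3 : (N.subgroupOf M).index = Nat.card M' := by
        rw [show N.subgroupOf M = ((QuotientGroup.mk' N).comp M.subtype).ker by
          rw [← MonoidHom.comap_ker, QuotientGroup.ker_mk']
          rfl, Subgroup.index_ker, MonoidHom.range_comp, Subgroup.range_subtype]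
      rw [← h2, h3, mul_comm]
    exact Nat.le_of_mul_le_mul_right (h1.trans_le hc) Nat.card_pos
  have hQ : IsPGroup p (G ⧸ N) := hG.to_quotient N
  obtain ⟨n, hn⟩ := (IsPGroup.iff_orderOf.mp hQ) q
  have hn1 : n = 1 := by
    have h1 : orderOf q ≤ p := le_trans (Nat.le_of_dvd Nat.card_pos (Subgroup.orderOf_dvd_natCard M' hqM)) hcard
    rw [hn] at h1
    have h2 : n ≤ 1 := (Nat.pow_le_pow_iff_right hpp.one_lt).mp (h1.trans_eq (pow_one p).symm)
    rcases Nat.eq_zero_or_pos n with h | h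
    · rw [h, pow_zero, orderOf_eq_one_iff] at hn
      exact absurd hn hq1
    · omega
  rw [hn1, pow_one] at hn
  have hMz : M' = zpowers q := (eq_of_le_of_card_ge (zpowers_le.mpr hqM) (by rw [Nat.card_zpowers, hn]; exact hcard)).symm
  obtain ⟨k, hk⟩ := mem_powers_iff_mem_zpowers.mpr (hMz.le (‹M'.Normal›.conj_mem q hqM (QuotientGroup.mk g)))
  obtain ⟨a, ha⟩ := (IsPGroup.iff_orderOf.mp hQ) (QuotientGroup.mk g)
  have hk' : q ^ k = (QuotientGroup.mk g : G ⧸ N) * q * (QuotientGroup.mk g)⁻¹ := hk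
  have h := cyclic_fix (p := p) (G := G ⧸ N) (M := ⊥) (q := q) (f := MulAut.conj (QuotientGroup.mk g)) (k := k) (n := a)
    (by rw [← hn, pow_orderOf_eq_one]; exact one_mem _)
    (fun x hx => by rw [mem_bot] at hx ⊢; rw [hx, map_one])
    (by rw [MulAut.conj_apply, hk', inv_mul_cancel]; exact one_mem _)
    (by rw [← map_pow, ← ha, pow_orderOf_eq_one, map_one])
  rw [mem_bot, inv_mul_eq_one, MulAut.conj_apply] at h
  rw [← QuotientGroup.eq_one_iff]
  show (g : G ⧸ N) * q * (g : G ⧸ N)⁻¹ * q⁻¹ = 1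
  rw [← h, mul_inv_cancel]

/-- A proper inclusion of `p`-groups multiplies the order by at least `p`. -/
theorem mul_card_le_of_lt {G : Type*} [Group G] [Finite G] (hG : IsPGroup p G) {N M : Subgroup G} (h : N < M) :
    p * Nat.card N ≤ Nat.card M := by
  obtain ⟨a, ha⟩ := (hG.to_subgroup N).exists_card_eq
  obtain ⟨b, hb⟩ := (hG.to_subgroup M).exists_card_eq
  have h1 : Nat.card N < Nat.card M :=
    lt_of_le_of_ne (Subgroup.card_le_of_le h.le) fun e => h.ne (eq_of_le_of_card_ge h.le e.ge)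
  rw [ha, hb, Nat.pow_lt_pow_iff_right hpf.out.one_lt] at h1
  rw [ha, hb, ← pow_succ']
  exact Nat.pow_le_pow_right hpf.out.pos h1

variable {P : Type*} [Group P] [Finite P]

namespace Sys

variable (D : Sys p P) {K S : Subgroup P}

/-- The subgroup generated by the images of a subgroup under an automiser. -/
def orbit (K S : Subgroup P) : Subgroup P :=
  closure {g | ∃ α ∈ D.A K, ∃ e : K, (e : P) ∈ S ∧ ((α e : K) : P) = g}

theorem orbit_le : D.orbit K S ≤ K := by
  rw [orbit, closure_le]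
  rintro _ ⟨α, -, e, -, rfl⟩
  exact (α e).2

theorem le_orbit (hSK : S ≤ K) : S ≤ D.orbit K S := fun s hs =>
  subset_closure ⟨1, one_mem _, ⟨s, hSK hs⟩, hs, rfl⟩

theorem orbit_inv {α : MulAut K} (hα : α ∈ D.A K) {e : K} (he : (e : P) ∈ D.orbit K S) :
    ((α e : K) : P) ∈ D.orbit K S := by
  have hle : (D.orbit K S).subgroupOf K ≤ ((D.orbit K S).subgroupOf K).comap α.toMonoidHom := by
    have h1 : D.orbit K S ≤ (((D.orbit K S).subgroupOf K).comap α.toMonoidHom).map K.subtype := by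
      rw [orbit, closure_le]
      rintro _ ⟨α', hα', e', he', rfl⟩
      refine ⟨α' e', ?_, rfl⟩
      show ((α (α' e') : K) : P) ∈ D.orbit K S
      exact subset_closure ⟨α * α', (D.A K).mul_mem hα hα', e', he', rfl⟩
    exact fun x hx => (mem_map_iff_mem K.subtype_injective).mp (h1 (mem_subgroupOf.mp hx))
  exact mem_subgroupOf.mp (hle (mem_subgroupOf.mpr he))

theorem orbit_normal (hK : K ∈ D.Ess) : (D.orbit K S).Normal :=
  ⟨fun x hx g => by
    have hxK : x ∈ K := D.orbit_le hx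
    have h := D.orbit_inv (K := K) (S := S) (D.cj_mem hK g) (e := ⟨x, hxK⟩) hx
    rwa [D.coe_cj] at h⟩

/-- Translates of the orbit of the centre commute. -/
theorem comm_translates {E : Subgroup P} (hT : D.NoTv) (hE : D.IsMover E) (hK : K ∈ D.Ess) {α β : MulAut K}
    (hα : α ∈ D.A K) (hβ : β ∈ D.A K) {a b : K} (ha : (a : P) ∈ D.mov E) (hb : (b : P) ∈ D.mov E) :
    α a * β b = β b * α a := by
  by_contra hne
  refine (Pair.false (D := D) (E₁ := E) (E₂ := K) ⟨hE, hK, D.mov_le_ess hT hE hK, β⁻¹ * α,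
    (D.A K).mul_mem ((D.A K).inv_mem hβ) hα, a, b, ha, hb, fun h => hne ?_⟩)
  have h' := congrArg β h
  rwa [map_mul, map_mul, MulAut.mul_apply, MulAut.apply_inv_self] at h'

end Sys

/-- A member moving the orbit of another. -/
structure Moving (D : Sys p P) (E₁ E₂ : Subgroup P) : Prop where
  noTv : D.NoTv
  mover : D.IsMover E₁
  mem : E₂ ∈ D.Ess
  moves : ¬ D.orbit E₂ (D.mov E₁) ≤ D.mov E₁

namespace Moving

variable {D : Sys p P} {E₁ E₂ : Subgroup P} (M : Moving D E₁ E₂)

include M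

theorem le : D.mov E₁ ≤ E₂ := D.mov_le_ess M.noTv M.mover M.mem

theorem orbit_comm {a b : P} (ha : a ∈ D.orbit E₂ (D.mov E₁)) (hb : b ∈ D.orbit E₂ (D.mov E₁)) : a * b = b * a := by
  haveI := Subgroup.isMulCommutative_closure (k := {g | ∃ α ∈ D.A E₂, ∃ e : E₂, (e : P) ∈ D.mov E₁ ∧
      ((α e : E₂) : P) = g}) (by
    rintro _ ⟨α, hα, e, he, rfl⟩ _ ⟨β, hβ, f, hf, rfl⟩
    exact congrArg Subtype.val (D.comm_translates M.noTv M.mover M.mem hα hβ he hf))
  exact congrArg Subtype.val (IsMulCommutative.is_comm.comm (⟨a, ha⟩ : closure {g | ∃ α ∈ D.A E₂, ∃ e : E₂,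
    (e : P) ∈ D.mov E₁ ∧ ((α e : E₂) : P) = g}) ⟨b, hb⟩)

theorem orbit_pow {a : P} (ha : a ∈ D.orbit E₂ (D.mov E₁)) : a ^ p = 1 := by
  induction ha using Subgroup.closure_induction with
  | mem x hx =>
    obtain ⟨α, -, e, he, rfl⟩ := hx
    rw [← Subgroup.coe_pow, ← map_pow, show e ^ p = 1 from Subtype.ext (by
      rw [Subgroup.coe_pow]; exact D.mov_pow he), map_one, Subgroup.coe_one]
  | one => exact one_pow p
  | mul x x' hx hx' h1 h2 => rw [(show Commute x x' from M.orbit_comm hx hx').mul_pow, h1, h2, one_mul]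
  | inv x _ h1 => rw [inv_pow, h1, inv_one]

theorem orbit_le_E₁ : D.orbit E₂ (D.mov E₁) ≤ E₁ := fun g hg =>
  D.cen_mov M.mover fun v hv => M.orbit_comm hg (D.le_orbit M.le hv)

theorem mov_card : Nat.card (D.mov E₁) = p ^ 2 ∧ Nat.card (D.orbit E₂ (D.mov E₁)) = p ^ 3 := by
  have hpp : p.Prime := hpf.out
  have hlt : D.mov E₁ < D.orbit E₂ (D.mov E₁) := lt_of_le_of_ne (D.le_orbit M.le) fun e => M.moves e.ge
  have h1 := mul_card_le_of_lt D.pg hlt
  have h2 : Nat.card (D.orbit E₂ (D.mov E₁)) ≤ p ^ 3 :=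
    D.elementary_le (fun _ ha _ hb => M.orbit_comm ha hb) fun _ ha => M.orbit_pow ha
  obtain ⟨a, ha⟩ := (D.pg.to_subgroup (D.mov E₁)).exists_card_eq
  obtain ⟨b, hb⟩ := (D.pg.to_subgroup (D.orbit E₂ (D.mov E₁))).exists_card_eq
  have hge : 2 ≤ a := by
    by_contra h
    push Not at h
    refine M.mover.2 fun v hv => mem_center_iff.mpr fun g => ?_
    haveI := D.mov_normal M.mover.1
    have hc := comm_mem_of_card_le D.pg (N := ⊥) (M := D.mov E₁) bot_le (by
      rw [Subgroup.card_bot, mul_one, ha]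
      exact (Nat.pow_le_pow_right hpp.pos (by omega : a ≤ 1)).trans (pow_one p).le) g hv
    rw [mem_bot, mul_inv_eq_one, mul_inv_eq_iff_eq_mul] at hc
    exact hc
  rw [ha, hb, ← pow_succ', Nat.pow_le_pow_iff_right hpp.one_lt] at h1
  rw [hb, Nat.pow_le_pow_iff_right hpp.one_lt] at h2
  exact ⟨by rw [ha, show a = 2 by omega], by rw [hb, show b = 3 by omega]⟩

theorem zOne_card : Nat.card (zOne p P) = p := by
  have hpp : p.Prime := hpf.out
  haveI := D.nontrivial
  have hle := D.zOne_le_mov M.mover.1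
  have hlt : zOne p P < D.mov E₁ := lt_of_le_of_ne hle fun e => M.mover.2 (e ▸ fun _ hz => hz.1)
  have h1 := mul_card_le_of_lt D.pg hlt
  rw [M.mov_card.1, pow_two] at h1
  have h2 := mul_card_le_of_lt D.pg (bot_lt_iff_ne_bot.mpr D.zOne_ne_bot : ⊥ < zOne p P)
  rw [Subgroup.card_bot, mul_one] at h2
  exact le_antisymm (Nat.le_of_mul_le_mul_left h1 hpp.pos) h2

/-- Normal subgroups of order `p` are in the centre. -/
theorem le_zOne {L : Subgroup P} [L.Normal] (hL : Nat.card L ≤ p) : L ≤ zOne p P := by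
  intro l hl
  refine ⟨mem_center_iff.mpr fun g => ?_, ?_⟩
  · have hc := comm_mem_of_card_le D.pg (N := ⊥) (M := L) bot_le (by rw [Subgroup.card_bot, mul_one]; exact hL) g hl
    rw [mem_bot, mul_inv_eq_one, mul_inv_eq_iff_eq_mul] at hc
    exact hc
  · obtain ⟨n, hn⟩ := (IsPGroup.iff_orderOf.mp D.pg) l
    rw [← orderOf_dvd_iff_pow_eq_one, hn]
    have h1 : p ^ n ≤ p ^ 1 := by
      rw [← hn, pow_one]
      exact (Nat.le_of_dvd Nat.card_pos (Subgroup.orderOf_dvd_natCard L hl)).trans hL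
    exact (pow_dvd_pow p ((Nat.pow_le_pow_iff_right hpf.out.one_lt).mp h1)).trans (pow_one p).dvd

/-- The centre is not invariant under the first automiser. -/
theorem not_inv (h : ∀ α ∈ D.A E₁, ∀ e : E₁, (e : P) ∈ zOne p P → ((α e : E₁) : P) ∈ zOne p P) : False := by
  refine M.mover.2 ?_
  rw [Sys.mov, closure_le]
  rintro _ ⟨α, hα, e, he, rfl⟩
  exact (h α hα e he).1

theorem comm_mov (g : P) {v : P} (hv : v ∈ D.mov E₁) : g * v * g⁻¹ * v⁻¹ ∈ zOne p P := by
  haveI := D.mov_normal M.mover.1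
  haveI : (zOne p P).Normal := ⟨fun z hz g => by rwa [mem_center_iff.mp hz.1 g, mul_inv_cancel_right]⟩
  refine comm_mem_of_card_le D.pg (D.zOne_le_mov M.mover.1) ?_ g hv
  rw [M.mov_card.1, M.zOne_card, pow_two]

end Moving

end CfsgLib.SectThree
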