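import Cfsg.Agent.Lib.Fusion.Normal
import Cfsg.Agent.Lib.Fusion.SmallCentre.Transvection
import Cfsg.Agent.Lib.MaxClassEssential.Action
import Cfsg.Agent.Lib.PGroup.CyclicMax
import Cfsg.Prelude.Def_CaseTheorems

/-!
The abstract configuration of a group of sectional rank three with a family of maximal subgroups,
each with a group of automorphisms.
-/

set_option autoImplicit false
set_option linter.unusedSectionVars false
set_option linter.style.haveILetI false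

namespace CfsgLib.SectThree

open Subgroup
open MaxClassEssential (Vec vec lin)

/-- The elements of order dividing `p` of the centre. -/
def zOne (p : ℕ) (P : Type*) [Group P] : Subgroup P where
  carrier := {g | g ∈ center P ∧ g ^ p = 1}
  one_mem' := ⟨one_mem _, one_pow p⟩
  mul_mem' := fun {a b} ha hb => ⟨mul_mem ha.1 hb.1, by
    rw [(show Commute a b from mem_center_iff.mp hb.1 a).mul_pow, ha.2, hb.2, one_mul]⟩
  inv_mem' := fun {a} ha => ⟨inv_mem ha.1, by rw [inv_pow, ha.2, inv_one]⟩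

theorem mem_zOne {p : ℕ} {P : Type*} [Group P] {g : P} : g ∈ zOne p P ↔ g ∈ center P ∧ g ^ p = 1 := Iff.rfl

/-- The configuration: a set of normal maximal subgroups with automisers, and the automorphism group. -/
structure Sys (p : ℕ) (P : Type*) [Group P] where
  pg : IsPGroup p P
  odd : p ≠ 2
  rank : Cfsg.SectionalPRankLE p 3 P
  rank' : ¬ Cfsg.SectionalPRankLE p 2 P
  B : Subgroup (MulAut P)
  innB : ∀ g : P, MulAut.conj g ∈ B
  sylB : ¬ p ∣ (MulAut.conj : P →* MulAut P).range.relIndex B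
  Ess : Set (Subgroup P)
  A : ∀ K : Subgroup P, Subgroup (MulAut K)
  nrm : ∀ K ∈ Ess, K.Normal
  idx : ∀ K ∈ Ess, K.index = p
  cen : ∀ K ∈ Ess, centralizer (K : Set P) ≤ K
  conjA : ∀ K ∈ Ess, ∀ (g : P) (α : MulAut K), (∀ e : K, ((α e : K) : P) = g * e * g⁻¹) → α ∈ A K
  rad : ∀ K ∈ Ess, ∀ Q : Subgroup (MulAut K), Q ≤ A K → A K ≤ normalizer (Q : Set (MulAut K)) →
    IsPGroup p Q → Q ≤ (MulAut.conj : K →* MulAut K).range
  sylA : ∀ K ∈ Ess, ∀ Q : Subgroup (MulAut K), Q ≤ A K → IsPGroup p Q →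
    (∀ (g : P) (α : MulAut K), (∀ e : K, ((α e : K) : P) = g * e * g⁻¹) → α ∈ Q) →
    ∀ α ∈ Q, ∃ g : P, ∀ e : K, ((α e : K) : P) = g * e * g⁻¹
  extB : ∀ K ∈ Ess, ∀ α ∈ A K,
    (∀ (g : P) (c : MulAut K), (∀ e : K, ((c e : K) : P) = g * e * g⁻¹) →
      ∃ g' : P, ∀ e : K, (((α * c * α⁻¹) e : K) : P) = g' * e * g'⁻¹) →
    ∃ β ∈ B, ∀ e : K, β (e : P) = ((α e : K) : P)
  transB : ∀ β ∈ B, ∀ K ∈ Ess, ∃ K' ∈ Ess, (∀ g, g ∈ K' ↔ β⁻¹ g ∈ K) ∧ ∀ α ∈ A K, ∃ α' ∈ A K',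
    ∀ (e : K) (e' : K'), (e' : P) = β (e : P) → ((α' e' : K') : P) = β ((α e : K) : P)
  core : ∀ N : Subgroup P, N ≠ ⊥ → N.Normal → (∀ β ∈ B, ∀ g ∈ N, β g ∈ N) →
    (∀ K ∈ Ess, N ≤ K ∧ ∀ α ∈ A K, ∀ e : K, (e : P) ∈ N → ((α e : K) : P) ∈ N) → False

namespace Sys

variable {p : ℕ} [hpf : Fact p.Prime] {P : Type*} [Group P] [Finite P] (D : Sys p P)

include D

theorem three_le : 3 ≤ p := by
  have := hpf.out.two_le
  have := D.odd
  omega

variable {E : Subgroup P}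

theorem conj_mem (hE : E ∈ D.Ess) (g : P) {e : P} (he : e ∈ E) : g * e * g⁻¹ ∈ E :=
  (D.nrm E hE).conj_mem e he g

/-- Conjugation on one of the subgroups. -/
def cj (hE : E ∈ D.Ess) : P →* MulAut E :=
  haveI := D.nrm E hE
  MulAut.conjNormal

theorem coe_cj (hE : E ∈ D.Ess) (g : P) (e : E) : ((D.cj hE g e : E) : P) = g * e * g⁻¹ := rfl

theorem cj_mem (hE : E ∈ D.Ess) (g : P) : D.cj hE g ∈ D.A E := D.conjA E hE g _ fun e => D.coe_cj hE g e

theorem cj_eq (hE : E ∈ D.Ess) {g : P} {α : MulAut E} (h : ∀ e : E, ((α e : E) : P) = g * e * g⁻¹) :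
    D.cj hE g = α :=
  MulEquiv.ext fun e => Subtype.ext ((D.coe_cj hE g e).trans (h e).symm)

theorem conj_eq_cj (hE : E ∈ D.Ess) (u : E) : MulAut.conj u = D.cj hE (u : P) :=
  MulEquiv.ext fun _ => Subtype.ext rfl

theorem mem_of_inner (hE : E ∈ D.Ess) {g : P} (h : D.cj hE g ∈ (MulAut.conj : E →* MulAut E).range) : g ∈ E := by
  obtain ⟨u, hu⟩ := h
  have hc : (u : P)⁻¹ * g ∈ centralizer (E : Set P) := mem_centralizer_iff.mpr fun y hy => by
    have h1 : (u : P) * y * (u : P)⁻¹ = g * y * g⁻¹ := congrArg (fun f : MulAut E => ((f ⟨y, hy⟩ : E) : P)) hu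
    calc y * ((u : P)⁻¹ * g) = (u : P)⁻¹ * ((u : P) * y * (u : P)⁻¹) * g := by group
      _ = (u : P)⁻¹ * g * y := by rw [h1]; group
  have h2 := mul_mem u.2 (D.cen E hE hc)
  rwa [mul_inv_cancel_left] at h2

/-- An element acting inside an invariant `p`-group of automorphisms lies in the subgroup. -/
theorem mem_of_invariant (hE : E ∈ D.Ess) {Q : Subgroup (MulAut E)} (hQA : Q ≤ D.A E)
    (hQn : ∀ α ∈ D.A E, ∀ q ∈ Q, α * q * α⁻¹ ∈ Q) (hQp : IsPGroup p Q) {g : P} (hg : D.cj hE g ∈ Q) : g ∈ E := by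
  refine D.mem_of_inner hE (D.rad E hE Q hQA (fun α hα => mem_normalizer_iff.mpr fun q => ⟨hQn α hα q, fun h => ?_⟩)
    hQp hg)
  simpa [mul_assoc] using hQn α⁻¹ (inv_mem hα) _ h

/-- An element stabilising an invariant series of length three lies in the subgroup. -/
theorem mem_of_series (hE : E ∈ D.Ess) {L W : Subgroup E} (hLW : L ≤ W)
    (hL : ∀ α ∈ D.A E, ∀ x ∈ L, α x ∈ L) (hW : ∀ α ∈ D.A E, ∀ x ∈ W, α x ∈ W) {g : P}
    (h1 : ∀ x ∈ L, D.cj hE g x = x) (h2 : ∀ x ∈ W, x⁻¹ * D.cj hE g x ∈ L)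
    (h3 : ∀ x : E, x⁻¹ * D.cj hE g x ∈ W) : g ∈ E := by
  refine D.mem_of_invariant hE (Q := D.A E ⊓ Cfsg.SmallCentre.stab L W hLW) inf_le_left (fun α hα q hq => ?_)
    ((Cfsg.SmallCentre.isPGroup_stab (D.pg.to_subgroup E) hLW).to_le inf_le_right) ⟨D.cj_mem hE g, h1, h2, h3⟩
  obtain ⟨hqA, q1, q2, q3⟩ := hq
  have hback : ∀ {M : Subgroup E}, (∀ α ∈ D.A E, ∀ x ∈ M, α x ∈ M) → ∀ x ∈ M, α⁻¹ x ∈ M :=
    fun hM x hx => hM _ (inv_mem hα) x hx
  have key : ∀ {M : Subgroup E}, (∀ α ∈ D.A E, ∀ x ∈ M, α x ∈ M) → ∀ x : E, (α⁻¹ x)⁻¹ * q (α⁻¹ x) ∈ M →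
      x⁻¹ * (α * q * α⁻¹) x ∈ M := fun hM x hx => by
    have h := hM α hα _ hx
    rwa [map_mul, map_inv, MulAut.apply_inv_self] at h
  refine ⟨(D.A E).mul_mem ((D.A E).mul_mem hα hqA) ((D.A E).inv_mem hα), fun x hx => ?_, fun x hx => ?_, fun x => ?_⟩
  · rw [MulAut.mul_apply, MulAut.mul_apply, q1 _ (hback hL x hx), MulAut.apply_inv_self]
  · exact key hL x (q2 _ (hback hW x hx))
  · exact key hW x (q3 _)

/-- An element acting trivially on the Frattini quotient lies in the subgroup. -/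
theorem mem_of_frattini (hE : E ∈ D.Ess) {g : P} (h : ∀ e : E, e⁻¹ * D.cj hE g e ∈ frattini E) : g ∈ E := by
  haveI : Fact (IsPGroup p E) := ⟨D.pg.to_subgroup E⟩
  refine D.mem_of_invariant hE (Q := D.A E ⊓ (lin : MulAut E →* Module.End (ZMod p) (Vec p E)).ker) inf_le_left
    (fun α hα q hq => ⟨(D.A E).mul_mem ((D.A E).mul_mem hα hq.1) ((D.A E).inv_mem hα), MonoidHom.mem_ker.mpr ?_⟩)
    (MaxClassEssential.isPGroup_ker_lin.to_le inf_le_right) ⟨D.cj_mem hE g, MonoidHom.mem_ker.mpr ?_⟩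
  · rw [map_mul, map_mul, MonoidHom.mem_ker.mp hq.2, mul_one, ← map_mul, mul_inv_cancel, map_one]
  · refine MaxClassEssential.lin_eq_one.mpr fun e => ?_
    have h1 := (inferInstance : (frattini E).Normal).conj_mem _ (h e) e
    rwa [mul_inv_cancel_left] at h1

theorem pow_mem_E (hE : E ∈ D.Ess) (g : P) : g ^ p ∈ E := by
  haveI := D.nrm E hE
  have h := Subgroup.pow_index_mem E g
  rwa [D.idx E hE] at h

theorem comm_mem_E (hE : E ∈ D.Ess) (a b : P) : a * b * a⁻¹ * b⁻¹ ∈ E := by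
  haveI := D.nrm E hE
  haveI : IsCyclic (P ⧸ E) := isCyclic_of_prime_card (p := p) (D.idx E hE)
  rw [← QuotientGroup.eq_one_iff]
  have hc : ∀ u v : P ⧸ E, u * v = v * u := IsCyclic.isMulCommutative.is_comm.comm
  show ((a : P ⧸ E) * b * (a : P ⧸ E)⁻¹ * (b : P ⧸ E)⁻¹) = 1
  rw [hc (a : P ⧸ E) b]
  group

/-- Everything is a power of an element outside times an element of the subgroup. -/
theorem exists_pow_mul (hE : E ∈ D.Ess) {g : P} (hg : g ∉ E) (x : P) :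
    ∃ (i : ℕ) (e : P), e ∈ E ∧ x = g ^ i * e := by
  haveI := D.nrm E hE
  have hg1 : (g : P ⧸ E) ≠ 1 := fun h => hg ((QuotientGroup.eq_one_iff g).mp h)
  obtain ⟨i, hi⟩ := mem_powers_iff_mem_zpowers.mpr
    (mem_zpowers_of_prime_card (G := P ⧸ E) (D.idx E hE) (g' := (x : P ⧸ E)) hg1)
  refine ⟨i, (g ^ i)⁻¹ * x, (QuotientGroup.eq).mp ?_, by rw [mul_inv_cancel_left]⟩
  rw [QuotientGroup.mk_pow]
  exact hi

theorem zOne_le (hE : E ∈ D.Ess) : zOne p P ≤ E := fun _ hz =>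
  D.cen E hE (mem_centralizer_iff.mpr fun y _ => mem_center_iff.mp hz.1 y)

theorem center_le (hE : E ∈ D.Ess) : center P ≤ E := fun _ hz =>
  D.cen E hE (mem_centralizer_iff.mpr fun y _ => mem_center_iff.mp hz y)

/-- A section of exponent `p` with commutators below has order at most `p ^ 3`. -/
theorem section_le {U N : Subgroup P} (hNU : N ≤ U) (hn : ∀ u ∈ U, ∀ x ∈ N, u * x * u⁻¹ ∈ N)
    (hc : ∀ a ∈ U, ∀ b ∈ U, a * b * a⁻¹ * b⁻¹ ∈ N) (he : ∀ a ∈ U, a ^ p ∈ N) :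
    Nat.card U ≤ p ^ 3 * Nat.card N := by
  haveI hNn : (N.subgroupOf U).Normal := ⟨fun x hx u => hn u u.2 x hx⟩
  have h := D.rank U (N.subgroupOf U) ⊤ ⟨⟨fun a b => Subtype.ext ?_⟩⟩ fun a _ => ?_
  · rw [Subgroup.card_top, ← Subgroup.index_eq_card] at h
    have h1 := (N.subgroupOf U).card_mul_index
    rw [Nat.card_congr (subgroupOfEquivOfLe hNU).toEquiv] at h1
    rw [← h1, mul_comm]
    exact Nat.mul_le_mul_right _ h
  · obtain ⟨u, hu⟩ := QuotientGroup.mk_surjective (a : U ⧸ N.subgroupOf U)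
    obtain ⟨v, hv⟩ := QuotientGroup.mk_surjective (b : U ⧸ N.subgroupOf U)
    rw [Subgroup.coe_mul, Subgroup.coe_mul, ← hu, ← hv, ← QuotientGroup.mk_mul, ← QuotientGroup.mk_mul]
    refine (QuotientGroup.eq).mpr ?_
    have h1 := hc _ (U.inv_mem v.2) _ (U.inv_mem u.2)
    show (((u * v)⁻¹ * (v * u) : U) : P) ∈ N
    push_cast
    simpa [mul_assoc] using h1
  · obtain ⟨u, rfl⟩ := QuotientGroup.mk_surjective a
    rw [← QuotientGroup.mk_pow, QuotientGroup.eq_one_iff]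
    exact he u u.2

/-- Abelian subgroups of exponent `p` have order at most `p ^ 3`. -/
theorem elementary_le {U : Subgroup P} (hc : ∀ a ∈ U, ∀ b ∈ U, a * b = b * a) (he : ∀ a ∈ U, a ^ p = 1) :
    Nat.card U ≤ p ^ 3 := by
  have h := D.section_le (U := U) (N := ⊥) bot_le
    (fun u _ x hx => by rw [mem_bot] at hx ⊢; rw [hx, mul_one, mul_inv_cancel])
    (fun a ha b hb => by rw [mem_bot, hc a ha b hb]; group) (fun a ha => by rw [mem_bot]; exact he a ha)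
  rwa [Subgroup.card_bot, mul_one] at h

end Sys

end CfsgLib.SectThree
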