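import Cfsg.Agent.Lib.SectThree.Invariant
import Cfsg.Agent.Lib.SectThree.CyclicGen

/-!
The translates of the large orbit inside the third member.
-/

set_option autoImplicit false
set_option linter.unusedSectionVars false
set_option linter.style.haveILetI false

namespace CfsgLib.SectThree

open Subgroup
open scoped commutatorElement

variable {p : ℕ} [hpf : Fact p.Prime] {P : Type*} [Group P] [Finite P]

/-- The centre's elements of order `p` form a normal subgroup. -/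
theorem zOne_normal : (zOne p P).Normal := ⟨fun z hz g => by rwa [mem_center_iff.mp hz.1 g, mul_inv_cancel_right]⟩

/-- The data of the third member. -/
structure Third (D : Sys p P) (E₁ E₂ E₃ : Subgroup P) : Prop where
  moving : Moving D E₁ E₂
  mem : E₃ ∈ D.Ess
  fix : D.orbit E₃ (D.mov E₁) ≤ D.mov E₁
  moves : ¬ D.orbit E₃ (D.orbit E₂ (D.mov E₁)) ≤ D.orbit E₂ (D.mov E₁)

namespace Third

variable {D : Sys p P} {E₁ E₂ E₃ : Subgroup P} (T : Third D E₁ E₂ E₃)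

include T

local notation "V" => D.mov E₁
local notation "Wd" => D.orbit E₂ (D.mov E₁)
local notation "R" => D.orbit E₃ (D.orbit E₂ (D.mov E₁))

theorem V_le : V ≤ E₃ := D.mov_le_ess T.moving.noTv T.moving.mover T.mem

theorem W_le : Wd ≤ E₃ := T.moving.wd_le T.mem

theorem V_inv {α : MulAut E₃} (hα : α ∈ D.A E₃) {e : E₃} (he : (e : P) ∈ V) : ((α e : E₃) : P) ∈ V :=
  T.fix (subset_closure ⟨α, hα, e, he, rfl⟩)

theorem ne_first : E₃ ≠ E₁ := by
  rintro rfl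
  refine T.moves ?_
  rw [Sys.orbit, closure_le]
  rintro _ ⟨α, hα, e, he, rfl⟩
  exact T.moving.wd_inv hα he

theorem exists_out : ∃ y ∈ E₃, y ∉ E₁ := by
  by_contra hno
  push Not at hno
  have h1 := E₁.card_mul_index
  have h2 := E₃.card_mul_index
  rw [D.idx E₁ T.moving.mover.1] at h1
  rw [D.idx E₃ T.mem, ← h1] at h2
  exact T.ne_first (eq_of_le_of_card_ge hno (Nat.eq_of_mul_eq_mul_right hpf.out.pos h2).ge)

theorem exists_out₁ : ∃ x ∈ E₁, x ∉ E₃ := by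
  by_contra hno
  push Not at hno
  have h1 := E₁.card_mul_index
  have h2 := E₃.card_mul_index
  rw [D.idx E₁ T.moving.mover.1] at h1
  rw [D.idx E₃ T.mem, ← h1] at h2
  exact T.ne_first (eq_of_le_of_card_ge hno (Nat.eq_of_mul_eq_mul_right hpf.out.pos h2).le).symm

theorem R_le_E₁ : R ≤ E₁ := by
  rw [Sys.orbit, closure_le]
  rintro _ ⟨α, hα, e, he, rfl⟩
  refine D.cen_mov T.moving.mover fun v hv => ?_
  have hv' : ((α⁻¹ ⟨v, T.V_le hv⟩ : E₃) : P) ∈ V := T.V_inv ((D.A E₃).inv_mem hα) hv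
  have h : e * α⁻¹ ⟨v, T.V_le hv⟩ = α⁻¹ ⟨v, T.V_le hv⟩ * e :=
    Subtype.ext (T.moving.orbit_comm he (D.le_orbit T.moving.le hv'))
  have h' := congrArg α h
  rw [map_mul, map_mul, MulAut.apply_inv_self] at h'
  exact congrArg Subtype.val h'

theorem comm_VE₁ {v : P} (hv : v ∈ V) {g : P} (hg : g ∈ E₁) : Commute g v := D.mov_comm hv hg

/-- The centre's elements of order `p` are invariant. -/
theorem z_inv {α : MulAut E₃} (hα : α ∈ D.A E₃) {e : E₃} (he : (e : P) ∈ zOne p P) :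
    ((α e : E₃) : P) ∈ zOne p P := by
  have hV : ((α e : E₃) : P) ∈ V := T.V_inv hα (D.zOne_le_mov T.moving.mover.1 he)
  refine ⟨mem_center_iff.mpr fun g => ?_, D.mov_pow hV⟩
  obtain ⟨y, hy, hy1⟩ := T.exists_out
  obtain ⟨i, f, hf, rfl⟩ := D.exists_pow_mul T.moving.mover.1 hy1 g
  have h1 : Commute y ((α e : E₃) : P) := by
    have h : α⁻¹ ⟨y, hy⟩ * e = e * α⁻¹ ⟨y, hy⟩ := Subtype.ext (mem_center_iff.mp he.1 _)
    have h' := congrArg α h
    rw [map_mul, map_mul, MulAut.apply_inv_self] at h'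
    exact congrArg Subtype.val h'
  exact ((h1.pow_left i).mul_left (T.comm_VE₁ hV hf)).eq

/-- A commutator of a translate with an element of the large orbit. -/
theorem comm_translate {α : MulAut E₃} (hα : α ∈ D.A E₃) {a : E₃} (ha : (a : P) ∈ Wd) {f : P} (hf : f ∈ Wd) :
    ((α a : E₃) : P) * f * ((α a : E₃) : P)⁻¹ * f⁻¹ ∈ zOne p P := by
  haveI := D.mov_normal T.moving.mover.1
  set u : P := ((α a : E₃) : P) with hu
  have hc : u * f * u⁻¹ * f⁻¹ ∈ V := T.moving.wd_comm u hf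
  refine ⟨mem_center_iff.mpr fun g => ?_, D.mov_pow hc⟩
  obtain ⟨y, hy, hy1⟩ := T.exists_out
  obtain ⟨i, g', hg', rfl⟩ := D.exists_pow_mul T.moving.mover.1 hy1 g
  have hu1 : u ∈ E₁ := T.R_le_E₁ (subset_closure ⟨α, hα, a, ha, rfl⟩)
  have hf1 : f ∈ E₁ := T.moving.orbit_le_E₁ hf
  have h1 : Commute y (u * f * u⁻¹ * f⁻¹) := by
    have hv : y * f * y⁻¹ * f⁻¹ ∈ V := T.moving.wd_comm y hf
    have hw : y * u * y⁻¹ * u⁻¹ ∈ V := by
      have h0 : ((α⁻¹ ⟨y, hy⟩ * a * (α⁻¹ ⟨y, hy⟩)⁻¹ * a⁻¹ : E₃) : P) ∈ V := T.moving.wd_comm _ ha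
      have h := T.V_inv hα h0
      rw [map_mul, map_mul, map_mul, map_inv, map_inv, MulAut.apply_inv_self] at h
      exact h
    set v₁ := y * f * y⁻¹ * f⁻¹
    set v₂ := y * u * y⁻¹ * u⁻¹
    have e1 : y * f * y⁻¹ = v₁ * f := by simp [v₁, mul_assoc]
    have e2 : y * u * y⁻¹ = v₂ * u := by simp [v₂, mul_assoc]
    have key : y * (u * f * u⁻¹ * f⁻¹) * y⁻¹ = u * f * u⁻¹ * f⁻¹ := by
      rw [show y * (u * f * u⁻¹ * f⁻¹) * y⁻¹ = (y * u * y⁻¹) * (y * f * y⁻¹) * (y * u * y⁻¹)⁻¹ * (y * f * y⁻¹)⁻¹ by group,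
        e1, e2]
      have c1 : ∀ {g}, g ∈ E₁ → Commute g v₁ := fun h => T.comm_VE₁ hv h
      have c2 : ∀ {g}, g ∈ E₁ → Commute g v₂ := fun h => T.comm_VE₁ hw h
      calc v₂ * u * (v₁ * f) * (v₂ * u)⁻¹ * (v₁ * f)⁻¹
          = v₂ * (u * v₁) * f * u⁻¹ * v₂⁻¹ * f⁻¹ * v₁⁻¹ := by group
        _ = v₂ * (v₁ * (u * f * u⁻¹)) * v₂⁻¹ * f⁻¹ * v₁⁻¹ := by rw [(c1 hu1).eq]; group
        _ = (v₁ * (u * f * u⁻¹)) * f⁻¹ * v₁⁻¹ := by
          rw [← ((c2 (mul_mem (D.mov_le hv) (mul_mem (mul_mem hu1 hf1) (inv_mem hu1))))).eq, mul_inv_cancel_right]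
        _ = u * f * u⁻¹ * f⁻¹ := by
          rw [mul_assoc v₁, ← (c1 (mul_mem (mul_mem (mul_mem hu1 hf1) (inv_mem hu1)) (inv_mem hf1))).eq,
            mul_inv_cancel_right]
    exact mul_inv_eq_iff_eq_mul.mp key
  exact ((h1.pow_left i).mul_left (T.comm_VE₁ hc hg')).eq

theorem gen_comm {g f : P} (hg : g ∈ R) (hf : f ∈ R) : g * f * g⁻¹ * f⁻¹ ∈ zOne p P := by
  haveI := zOne_normal (p := p) (P := P)
  let π := QuotientGroup.mk' (zOne p P)
  have hgen : ∀ (α : MulAut E₃), α ∈ D.A E₃ → ∀ (a : E₃), (a : P) ∈ Wd → ∀ (β : MulAut E₃), β ∈ D.A E₃ →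
      ∀ (b : E₃), (b : P) ∈ Wd → Commute (π ((α a : E₃) : P)) (π ((β b : E₃) : P)) := by
    intro α hα a ha β hβ b hb
    have h0 : (((β⁻¹ * α) a * b * ((β⁻¹ * α) a)⁻¹ * b⁻¹ : E₃) : P) ∈ zOne p P := by
      push_cast
      exact T.comm_translate ((D.A E₃).mul_mem ((D.A E₃).inv_mem hβ) hα) ha hb
    have h1 := T.z_inv hβ h0
    rw [map_mul, map_mul, map_mul, map_inv, map_inv, MulAut.mul_apply, MulAut.apply_inv_self] at h1
    push_cast at h1
    show π _ * π _ = π _ * π _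
    rw [← map_mul, ← map_mul]
    have h2 : π (((α a : E₃) : P) * ((β b : E₃) : P) * ((α a : E₃) : P)⁻¹ * ((β b : E₃) : P)⁻¹) = 1 :=
      (QuotientGroup.eq_one_iff _).mpr h1
    rw [map_mul, map_mul, map_mul, map_inv, map_inv, mul_inv_eq_one, mul_inv_eq_iff_eq_mul] at h2
    rw [map_mul, map_mul]
    exact h2
  haveI := Subgroup.isMulCommutative_closure (k := π '' {g | ∃ α ∈ D.A E₃, ∃ e : E₃, (e : P) ∈ Wd ∧
      ((α e : E₃) : P) = g}) (by
    rintro _ ⟨_, ⟨α, hα, a, ha, rfl⟩, rfl⟩ _ ⟨_, ⟨β, hβ, b, hb, rfl⟩, rfl⟩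
    exact (hgen α hα a ha β hβ b hb).eq)
  have hmem : ∀ {x}, x ∈ R → π x ∈ closure (π '' {g | ∃ α ∈ D.A E₃, ∃ e : E₃, (e : P) ∈ Wd ∧
      ((α e : E₃) : P) = g}) := fun {x} hx => by
    rw [← MonoidHom.map_closure]
    exact mem_map_of_mem π hx
  have h := congrArg Subtype.val (IsMulCommutative.is_comm.comm (⟨π g, hmem hg⟩ : Subgroup.closure (π '' {g | ∃ α ∈ D.A E₃, ∃ e : E₃, (e : P) ∈ Wd ∧
      ((α e : E₃) : P) = g})) ⟨π f, hmem hf⟩)
  rw [← QuotientGroup.eq_one_iff]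
  show π _ = 1
  rw [map_mul, map_mul, map_mul, map_inv, map_inv, show π g * π f = π f * π g from h, mul_inv_cancel_right,
    mul_inv_cancel]

theorem R_pow {g : P} (hg : g ∈ R) : g ^ p = 1 := by
  induction hg using Subgroup.closure_induction with
  | mem x hx =>
    obtain ⟨α, -, e, he, rfl⟩ := hx
    rw [← Subgroup.coe_pow, ← map_pow, show e ^ p = 1 from Subtype.ext (by
      rw [Subgroup.coe_pow]; exact T.moving.orbit_pow he), map_one, Subgroup.coe_one]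
  | one => exact one_pow p
  | mul a b ha hb h1 h2 =>
    have hw := T.gen_comm hb ha
    rw [mul_pow_class_two D.odd (w := b * a * b⁻¹ * a⁻¹) hw.2 (mem_center_iff.mp hw.1 a) (mem_center_iff.mp hw.1 b)
      (by group), h1, h2, one_mul]
  | inv x _ h1 => rw [inv_pow, h1, inv_one]

theorem R_card : Nat.card R = p ^ 4 := by
  have hpp : p.Prime := hpf.out
  haveI := zOne_normal (p := p) (P := P)
  have hWR : Wd ≤ R := D.le_orbit T.W_le
  have hz : zOne p P ≤ R := (D.zOne_le_mov T.moving.mover.1).trans ((D.le_orbit T.moving.le).trans hWR)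
  have hle := D.section_le (U := R) (N := zOne p P) hz
    (fun g _ x hx => (inferInstance : (zOne p P).Normal).conj_mem x hx g)
    (fun a ha b hb => T.gen_comm ha hb) (fun a ha => by rw [T.R_pow ha]; exact one_mem _)
  rw [T.moving.zOne_card, ← pow_succ] at hle
  have h := mul_card_le_of_lt D.pg (lt_of_le_of_ne hWR fun e => T.moves e.ge)
  rw [T.moving.mov_card.2, ← pow_succ'] at h
  exact le_antisymm hle h

theorem exists_nc : ∃ (α : MulAut E₃) (a : E₃) (b : P), α ∈ D.A E₃ ∧ (a : P) ∈ Wd ∧ b ∈ Wd ∧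
    ((α a : E₃) : P) * b ≠ b * ((α a : E₃) : P) := by
  by_contra hno
  push Not at hno
  have hgen : ∀ (α : MulAut E₃), α ∈ D.A E₃ → ∀ (a : E₃), (a : P) ∈ Wd → ∀ (β : MulAut E₃), β ∈ D.A E₃ →
      ∀ (b : E₃), (b : P) ∈ Wd → α a * β b = β b * α a := by
    intro α hα a ha β hβ b hb
    have h : (β⁻¹ * α) a * b = b * (β⁻¹ * α) a :=
      Subtype.ext (hno (β⁻¹ * α) a b ((D.A E₃).mul_mem ((D.A E₃).inv_mem hβ) hα) ha hb)
    have h' := congrArg β h
    rwa [map_mul, map_mul, MulAut.mul_apply, MulAut.apply_inv_self] at h'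
  haveI := Subgroup.isMulCommutative_closure (k := {g | ∃ α ∈ D.A E₃, ∃ e : E₃, (e : P) ∈ Wd ∧
      ((α e : E₃) : P) = g}) (by
    rintro _ ⟨α, hα, a, ha, rfl⟩ _ ⟨β, hβ, b, hb, rfl⟩
    exact congrArg Subtype.val (hgen α hα a ha β hβ b hb))
  have hle := D.elementary_le (U := R) (fun a ha b hb => congrArg Subtype.val
    (IsMulCommutative.is_comm.comm (⟨a, ha⟩ : closure {g | ∃ α ∈ D.A E₃, ∃ e : E₃, (e : P) ∈ Wd ∧
      ((α e : E₃) : P) = g}) ⟨b, hb⟩)) fun a ha => T.R_pow ha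
  rw [T.R_card, Nat.pow_le_pow_iff_right hpf.out.one_lt] at hle
  omega

end Third

end CfsgLib.SectThree
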