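import Cfsg.Agent.Lib.SectThree.Movers
import Cfsg.Agent.Lib.SectThree.Flat

/-!
A transvection on the orbit of the centre cannot move the rest of the subgroup twice.
-/

set_option autoImplicit false
set_option linter.unusedSectionVars false
set_option linter.style.haveILetI false

namespace CfsgLib.SectThree

open Subgroup
open MaxClassEssential (Vec vec lin)

variable {p : ℕ} [hpf : Fact p.Prime] {P : Type*} [Group P] [Finite P]

namespace Sys

variable (D : Sys p P) {E : Subgroup P}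

/-- An element inducing a transvection on the orbit and moving some element into it nontrivially twice. -/
theorem false_of_orbit (hE : D.IsMover E) {u : P} (hu : u ∉ E) {z : E} (hzV : (z : P) ∈ D.mov E)
    (hz : D.cj hE.1 u z = z)
    (hmove : ∀ v : E, (v : P) ∈ D.mov E → v⁻¹ * D.cj hE.1 u v ∈ zpowers z)
    (hflag : ∀ x : E, x⁻¹ * D.cj hE.1 u x ∈ (D.mov E).subgroupOf E ⊔ frattini E)
    {x₀ c : E} (hc : c = x₀⁻¹ * D.cj hE.1 u x₀) {k : ℕ} (hck : D.cj hE.1 u c * c⁻¹ = z ^ k)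
    (hk : z ^ k ≠ 1) : False := by
  classical
  haveI : Fact (IsPGroup p E) := ⟨D.pg.to_subgroup E⟩
  set Vs := (D.mov E).subgroupOf E with hVs
  set s := D.cj hE.1 u with hs
  have hVc : ∀ v ∈ Vs, ∀ x : E, x * v = v * x := fun v hv x => Subtype.ext (D.mov_comm (mem_subgroupOf.mp hv) x.2)
  have hnc : ∀ {L : Subgroup E}, L ≤ Vs → L.Normal := fun {L} hL => ⟨fun v hv g => by
    rwa [hVc v (hL hv) g, mul_inv_cancel_right]⟩
  have hVexp : ∀ v ∈ Vs, v ^ p = 1 := fun v hv =>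
    Subtype.ext (by rw [Subgroup.coe_pow]; exact D.mov_pow (mem_subgroupOf.mp hv))
  have hVinv : ∀ α ∈ D.A E, ∀ v ∈ Vs, α v ∈ Vs := fun α hα v hv =>
    mem_subgroupOf.mpr (D.mov_inv hα (mem_subgroupOf.mp hv))
  have hzVs : z ∈ Vs := mem_subgroupOf.mpr hzV
  have hsstep : ∀ v ∈ Vs, ∃ a : ℕ, s v = v * z ^ a := fun v hv => by
    obtain ⟨a, ha⟩ := mem_powers_iff_mem_zpowers.mpr (hmove v (mem_subgroupOf.mp hv))
    refine ⟨a, ?_⟩
    have ha' : z ^ a = v⁻¹ * s v := ha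
    rw [ha', mul_inv_cancel_left]
  have hflag' : ∀ α ∈ D.A E, ∀ x ∈ Vs ⊔ frattini E, α x ∈ Vs ⊔ frattini E := fun α hα =>
    sup_inv (hVinv α hα) fun _ => frattini_inv
  -- `z` is not in the Frattini subgroup
  have hzΦ : z ∉ frattini E := fun hzΦ => hu (D.mem_of_flag1 hE.1 (L := Vs) hVinv hflag fun v hv =>
    (zpowers_le.mpr hzΦ : zpowers z ≤ frattini E) (hmove v (mem_subgroupOf.mp hv)))
  have hzne : z ≠ 1 := fun h => hk (by rw [h, one_pow])
  have hzk : ∀ a : ℕ, z ^ a ∈ frattini E → z ^ a = 1 := fun a ha => by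
    by_contra hne
    obtain ⟨m, hm⟩ := exists_pow_pow_eq (hVexp z hzVs) hne
    exact hzΦ (hm ▸ pow_mem ha m)
  -- the fixed part
  let Fx : Subgroup E := Vs ⊓ MonoidHom.eqLocus s.toMonoidHom (MonoidHom.id E)
  have hmemFx : ∀ {v : E}, v ∈ Fx ↔ v ∈ Vs ∧ s v = v := Iff.rfl
  have hzFx : z ∈ Fx := hmemFx.mpr ⟨hzVs, hz⟩
  -- an automorphism moving `z`
  obtain ⟨α, hα, hαz⟩ : ∃ α ∈ D.A E, α z ∉ Fx := by
    by_contra hno
    push Not at hno
    let M : Subgroup E := closure {x | ∃ α ∈ D.A E, α z = x}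
    have hMF : M ≤ Fx := by rw [closure_le]; rintro _ ⟨α, hα, rfl⟩; exact hno α hα
    have hMi : ∀ α ∈ D.A E, ∀ x ∈ M, α x ∈ M := by
      intro α hα x hx
      have hle : M ≤ M.comap α.toMonoidHom := by
        rw [closure_le]
        rintro _ ⟨β, hβ, rfl⟩
        exact subset_closure ⟨α * β, (D.A E).mul_mem hα hβ, rfl⟩
      exact hle hx
    refine hu (D.mem_of_flag3 hE.1 (L₁ := Vs) (L₂ := M) (L₃ := ⊥) hVinv hMi
      (fun α _ x hx => by rw [mem_bot] at hx ⊢; rw [hx, map_one]) (fun x => ?_) (fun v hv => ?_) (fun x hx => ?_)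
      fun x hx => ?_)
    · exact (sup_le (le_sup_of_le_left (le_sup_of_le_left le_sup_left)) le_sup_right :
        Vs ⊔ frattini E ≤ Vs ⊔ M ⊔ ⊥ ⊔ frattini E) (hflag x)
    · exact mem_sup_left (mem_sup_left ((zpowers_le.mpr (subset_closure ⟨1, one_mem _, rfl⟩) : zpowers z ≤ M)
        (hmove v (mem_subgroupOf.mp hv))))
    · rw [← hs, (hmemFx.mp (hMF hx)).2, inv_mul_cancel]; exact one_mem _
    · rw [mem_bot] at hx; subst hx; rw [map_one, inv_one, one_mul]; exact one_mem _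
  have hαzV : α z ∈ Vs := hVinv α hα z hzVs
  -- the opposite
  have hαiz : α⁻¹ z ∉ Fx := by
    intro hbad
    set β := α⁻¹ with hβdef
    have hβ : β ∈ D.A E := (D.A E).inv_mem hα
    set d := β z with hd
    have hdV : zpowers d ≤ Vs := zpowers_le.mpr (hmemFx.mp hbad).1
    haveI := hnc hdV
    haveI : Fx.Normal := hnc inf_le_left
    haveI : (Fx ⊔ zpowers d ⊔ frattini E).Normal := Subgroup.sup_normal _ _
    haveI : (zpowers d ⊔ frattini E).Normal := Subgroup.sup_normal _ _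
    set R := flagStab (D.A E) (D.flag Vs Fx (zpowers d)) (D.flag_antitone Vs Fx (zpowers d))
    have hR : ∀ g ∈ D.A E, (∀ x : E, x⁻¹ * g x ∈ Vs ⊔ frattini E) → (∀ v ∈ Vs, v⁻¹ * g v ∈ Fx) →
        (∀ v ∈ Fx, v⁻¹ * g v ∈ zpowers d) → g d = d → g ∈ R := by
      intro g hg h0 h1 h2 h3
      have hΦ : ∀ x ∈ frattini E, x⁻¹ * g x ∈ frattini E := fun x hx => mul_mem (inv_mem hx) (frattini_inv hx)
      have h3' : ∀ x ∈ zpowers d, x⁻¹ * g x ∈ frattini E := fun x hx => by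
        obtain ⟨j, rfl⟩ := hx
        show (d ^ j)⁻¹ * g (d ^ j) ∈ _
        rw [map_zpow, h3, inv_mul_cancel]; exact one_mem _
      refine mem_flagStab.mpr ⟨hg, fun i => ?_⟩
      match i with
      | 0 => exact fun x _ => (sup_le (le_sup_of_le_left (le_sup_of_le_left le_sup_left)) le_sup_right :
          Vs ⊔ frattini E ≤ Vs ⊔ Fx ⊔ zpowers d ⊔ frattini E) (h0 x)
      | 1 =>
        show ∀ x ∈ Vs ⊔ Fx ⊔ zpowers d ⊔ frattini E, x⁻¹ * g x ∈ Fx ⊔ zpowers d ⊔ frattini E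
        refine move_sup (move_sup (move_sup (fun v hv => ?_) fun v hv => ?_) fun v hv => ?_)
          fun x hx => mem_sup_right (hΦ x hx)
        · exact mem_sup_left (mem_sup_left (h1 v hv))
        · exact mem_sup_left (mem_sup_right (h2 v hv))
        · exact mem_sup_right (h3' v hv)
      | 2 =>
        show ∀ x ∈ Fx ⊔ zpowers d ⊔ frattini E, x⁻¹ * g x ∈ zpowers d ⊔ frattini E
        exact move_sup (move_sup (fun v hv => mem_sup_left (h2 v hv)) fun v hv => mem_sup_right (h3' v hv))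
          fun x hx => mem_sup_right (hΦ x hx)
      | 3 =>
        show ∀ x ∈ zpowers d ⊔ frattini E, x⁻¹ * g x ∈ frattini E
        exact move_sup h3' hΦ
      | _ + 4 => exact hΦ
    have hsR : s ∈ R := hR s (D.cj_mem hE.1 u) hflag
      (fun v hv => (zpowers_le.mpr hzFx : zpowers z ≤ Fx) (hmove v (mem_subgroupOf.mp hv)))
      (fun v hv => by rw [(hmemFx.mp hv).2, inv_mul_cancel]; exact one_mem _) (hmemFx.mp hbad).2
    have htmove : ∀ v ∈ Vs, v⁻¹ * (β * s * β⁻¹) v ∈ zpowers d := fun v hv => by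
      obtain ⟨a, ha⟩ := hsstep _ (hVinv β⁻¹ ((D.A E).inv_mem hβ) v hv)
      rw [MulAut.mul_apply, MulAut.mul_apply, ha, map_mul, map_pow, MulAut.apply_inv_self, inv_mul_cancel_left]
      exact pow_mem (mem_zpowers d) a
    have htR : β * s * β⁻¹ ∈ R := by
      refine hR _ ((D.A E).mul_mem ((D.A E).mul_mem hβ (D.cj_mem hE.1 u)) ((D.A E).inv_mem hβ)) (fun x => ?_)
        (fun v hv => (zpowers_le.mpr hbad : zpowers d ≤ Fx) (htmove v hv)) (fun v hv => htmove v (hmemFx.mp hv).1) ?_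
      · have h := hflag' β hβ _ (hflag (β⁻¹ x))
        rwa [map_mul, map_inv, MulAut.apply_inv_self] at h
      · rw [MulAut.mul_apply, MulAut.mul_apply, hd, MulAut.inv_apply_self, hz]
    have hallR : ∀ g : P, D.cj hE.1 g ∈ R := fun g => by
      obtain ⟨i, e, he, rfl⟩ := D.exists_pow_mul hE.1 hu g
      rw [map_mul, map_pow]
      refine R.mul_mem (R.pow_mem hsR i) ?_
      rw [← D.conj_eq_cj hE.1 ⟨e, he⟩]
      have hfix : ∀ v ∈ Vs, MulAut.conj (⟨e, he⟩ : E) v = v := fun v hv => by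
        rw [MulAut.conj_apply, hVc v hv, mul_inv_cancel_right]
      refine hR _ (D.conjA E hE.1 e _ fun x => rfl) (fun x => mem_sup_right ?_)
        (fun v hv => by rw [hfix v hv, inv_mul_cancel]; exact one_mem _)
        (fun v hv => by rw [hfix v (hmemFx.mp hv).1, inv_mul_cancel]; exact one_mem _)
        (hfix d (hmemFx.mp hbad).1)
      have h := CfsgLib.commutator_le_frattini_pGroup (D.pg.to_subgroup E)
        (commutator_mem_commutator (mem_top (x⁻¹ : E)) (mem_top (⟨e, he⟩ : E)))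
      simpa [commutatorElement_def, mul_assoc] using h
    obtain ⟨g, hg⟩ := D.sylA E hE.1 R inf_le_left
      (isPGroup_flagStab (D.pg.to_subgroup E) _ _ rfl (n := 4) le_rfl)
      (fun g c₀ hc₀ => D.cj_eq hE.1 hc₀ ▸ hallR g) _ htR
    have hsfix : ∀ i : ℕ, ∀ v ∈ Fx, (s ^ i) v = v := fun i v hv => by
      induction i with
      | zero => simp
      | succ i ih => rw [pow_succ', MulAut.mul_apply, ih, (hmemFx.mp hv).2]
    have hpres : ∀ v ∈ Fx, α v ∈ Fx := by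
      intro v hv
      have h1 : (β * s * β⁻¹) v = v := by
        rw [← D.cj_eq hE.1 hg]
        obtain ⟨i, e, he, rfl⟩ := D.exists_pow_mul hE.1 hu g
        rw [map_mul, map_pow, MulAut.mul_apply, ← D.conj_eq_cj hE.1 ⟨e, he⟩, MulAut.conj_apply,
          hVc v (hmemFx.mp hv).1, mul_inv_cancel_right, hsfix i v hv]
      rw [MulAut.mul_apply, MulAut.mul_apply, hβdef, inv_inv] at h1
      refine hmemFx.mpr ⟨hVinv α hα v (hmemFx.mp hv).1, α⁻¹.injective ?_⟩
      rw [h1, MulAut.inv_apply_self]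
    exact hαz (hpres z hzFx)
  -- the torus
  set d := α z with hd
  obtain ⟨a, ha⟩ := hsstep d hαzV
  have ha1 : z ^ a ≠ 1 := fun h0 => hαz (hmemFx.mpr ⟨hαzV, by rw [ha, h0, mul_one]⟩)
  have hzp : z ^ p = 1 := hVexp z hzVs
  obtain ⟨m, hm⟩ := exists_pow_pow_eq hzp ha1
  set d1 := d ^ m with hd1
  have hd1V : d1 ∈ Vs := pow_mem hαzV m
  have hcm : ∀ {v w : E}, v ∈ Vs → Commute v w := fun {v w} hv => (hVc v hv w).symm
  have hsd1 : s d1 = d1 * z := by rw [hd1, map_pow, ha, (hcm hαzV).mul_pow, hm]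
  set t := α * s * α⁻¹ with ht
  obtain ⟨b, hb⟩ := hsstep (α⁻¹ z) (hVinv α⁻¹ ((D.A E).inv_mem hα) z hzVs)
  have htz : t z = z * d ^ b := by
    rw [ht, MulAut.mul_apply, MulAut.mul_apply, hb, map_mul, map_pow, MulAut.apply_inv_self]
  have hdp : d ^ p = 1 := hVexp d hαzV
  have hb1 : d ^ b ≠ 1 := fun h0 => hαiz (hmemFx.mpr ⟨hVinv α⁻¹ ((D.A E).inv_mem hα) z hzVs, by
    rw [hb, show z ^ b = 1 from α.injective (by rw [map_pow, map_one]; exact h0), mul_one]⟩)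
  obtain ⟨m', hm'⟩ := exists_pow_pow_eq hdp hb1
  have htd : t d = d := by rw [ht, MulAut.mul_apply, MulAut.mul_apply, hd, MulAut.inv_apply_self, hz]
  obtain ⟨r, hr⟩ : ∃ r : ℕ, d ^ r = d1⁻¹ :=
    mem_powers_iff_mem_zpowers.mpr (inv_mem (pow_mem (mem_zpowers d) m))
  have htn : ∀ n : ℕ, (t ^ n) z = z * (d ^ b) ^ n ∧ (t ^ n) d = d ∧
      ∀ v ∈ Vs, v⁻¹ * (t ^ n) v ∈ zpowers d := by
    intro n
    induction n with
    | zero => simp
    | succ n ih =>
      obtain ⟨ih1, ih2, ih3⟩ := ih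
      refine ⟨?_, ?_, fun v hv => ?_⟩
      · rw [pow_succ', MulAut.mul_apply, ih1, map_mul, map_pow, map_pow, htd, htz, pow_succ', mul_assoc]
      · rw [pow_succ', MulAut.mul_apply, ih2, htd]
      · obtain ⟨q, hq⟩ := ih3 v hv
        have hq' : d ^ q = v⁻¹ * (t ^ n) v := hq
        obtain ⟨a', ha'⟩ := hsstep (α⁻¹ v) (hVinv α⁻¹ ((D.A E).inv_mem hα) v hv)
        have htv : t v = v * d ^ a' := by
          rw [ht, MulAut.mul_apply, MulAut.mul_apply, ha', map_mul, map_pow, MulAut.apply_inv_self]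
        rw [pow_succ', MulAut.mul_apply, show (t ^ n) v = v * d ^ q by rw [hq', mul_inv_cancel_left], map_mul,
          map_zpow, htd, htv, ← mul_assoc, inv_mul_cancel_left]
        exact mul_mem (pow_mem (mem_zpowers d) a') (zpow_mem (mem_zpowers d) q)
  obtain ⟨htz1, htd0, htmv⟩ := htn (m' * r)
  rw [pow_mul (d ^ b), hm', hr] at htz1
  set t' := t ^ (m' * r) with ht'
  have htd1 : t' d1 = d1 := by rw [hd1, map_pow, htd0]
  set w := s * t' * s with hw
  have hwz : w z = d1⁻¹ := by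
    rw [hw, MulAut.mul_apply, MulAut.mul_apply, hz, htz1, map_mul, map_inv, hz, hsd1, mul_inv_rev,
      mul_inv_cancel_left]
  have hwd : w d1 = z := by
    rw [hw, MulAut.mul_apply, MulAut.mul_apply, hsd1, map_mul, htd1, htz1, (hcm hzVs : Commute z d1⁻¹).eq,
      mul_inv_cancel_left, hz]
  set τ := w * w with hτ
  have hτz : τ z = z⁻¹ := by rw [hτ, MulAut.mul_apply, hwz, map_inv, hwd]
  have hτd : τ d1 = d1⁻¹ := by rw [hτ, MulAut.mul_apply, hwd, hwz]
  -- everything decomposes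
  have hdec : ∀ v ∈ Vs, ∃ (i j : ℕ) (v₂ : E), v₂ ∈ Vs ∧ s v₂ = v₂ ∧ τ v₂ = v₂ ∧ v = d1 ^ i * z ^ j * v₂ := by
    intro v hv
    obtain ⟨i, hi⟩ := hsstep v hv
    set v₁ := (d1 ^ i)⁻¹ * v with hv1
    have hv1V : v₁ ∈ Vs := mul_mem (inv_mem (pow_mem hd1V i)) hv
    have hsv1 : s v₁ = v₁ := by
      rw [hv1, map_mul, map_inv, map_pow, hsd1, hi, (hcm hd1V).mul_pow, mul_inv_rev,
        ((hcm hv : Commute v (z ^ i))).eq, mul_assoc, ← mul_assoc (d1 ^ i)⁻¹,
        ← (hcm (pow_mem hzVs i) : Commute (z ^ i) (d1 ^ i)⁻¹).eq, mul_assoc, inv_mul_cancel_left]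
    obtain ⟨k', hk'⟩ : ∃ k' : ℕ, d1 ^ k' = v₁⁻¹ * t' v₁ := by
      have hdd : d ∈ zpowers d1 := by
        obtain ⟨m₂, hm₂⟩ := exists_pow_pow_eq hdp (a := m) (fun h0 => by
          refine hzne ?_
          have h9 := hsd1
          rw [hd1, h0, map_one, one_mul] at h9
          exact h9.symm)
        exact hm₂ ▸ pow_mem (mem_zpowers d1) m₂
      exact mem_powers_iff_mem_zpowers.mpr ((zpowers_le.mpr hdd : zpowers d ≤ zpowers d1) (htmv v₁ hv1V))
    set v₂ := v₁ * z ^ k' with hv2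
    have hv2V : v₂ ∈ Vs := mul_mem hv1V (pow_mem hzVs k')
    have hsv2 : s v₂ = v₂ := by rw [hv2, map_mul, hsv1, map_pow, hz]
    have htv2 : t' v₂ = v₂ := by
      rw [hv2, map_mul, map_pow, htz1, (hcm hzVs).mul_pow, show t' v₁ = v₁ * d1 ^ k' by rw [hk', mul_inv_cancel_left],
        mul_assoc, inv_pow, ← mul_assoc (d1 ^ k'), ((hcm (pow_mem hd1V k') : Commute (d1 ^ k') (z ^ k'))).eq,
        mul_inv_cancel_right]
    obtain ⟨j, hj⟩ : ∃ j : ℕ, z ^ j = (z ^ k')⁻¹ := mem_powers_iff_mem_zpowers.mpr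
      (inv_mem (pow_mem (mem_zpowers z) k'))
    have hwv : w v₂ = v₂ := by rw [hw, MulAut.mul_apply, MulAut.mul_apply, hsv2, htv2, hsv2]
    refine ⟨i, j, v₂, hv2V, hsv2, by rw [hτ, MulAut.mul_apply, hwv, hwv], ?_⟩
    rw [hj, hv2, hv1, mul_assoc, (hcm hv1V : Commute v₁ (z ^ k')).eq]
    simp [hv1]
  have hcommV : ∀ v ∈ Vs, τ (s v) = s (τ v) := by
    intro v hv
    obtain ⟨i, j, v₂, hv₂, hs2, ht2, rfl⟩ := hdec v hv
    simp only [map_mul, map_pow, hsd1, hz, hs2, ht2, hτd, hτz, map_inv]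
    rw [mul_inv_rev, (hcm (inv_mem hzVs) : Commute z⁻¹ d1⁻¹).eq]
  -- the torus moves into the flag
  have hwA : w ∈ D.A E := (D.A E).mul_mem ((D.A E).mul_mem (D.cj_mem hE.1 u) ((D.A E).pow_mem
    ((D.A E).mul_mem ((D.A E).mul_mem hα (D.cj_mem hE.1 u)) ((D.A E).inv_mem hα)) _)) (D.cj_mem hE.1 u)
  haveI hVsn : Vs.Normal := hnc le_rfl
  haveI : (Vs ⊔ frattini E).Normal := Subgroup.sup_normal _ _
  have hF1 : Antitone (fun i : ℕ => if i = 0 then (⊤ : Subgroup E) else Vs ⊔ frattini E) := by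
    refine antitone_nat_of_succ_le fun i => ?_
    rcases i with _ | i <;> simp
  let G1 : Subgroup (MulAut E) :=
    flagStab (D.A E) (fun i => if i = 0 then ⊤ else Vs ⊔ frattini E) hF1
  have hG1 : ∀ g ∈ D.A E, (∀ x, x⁻¹ * g x ∈ Vs ⊔ frattini E) → g ∈ G1 := fun g hg h => mem_flagStab.mpr
    ⟨hg, fun i x hx => by
      rcases i with _ | i
      · simpa using h x
      · simpa using h x⟩
  have hsG : s ∈ G1 := hG1 s (D.cj_mem hE.1 u) hflag
  have htG : t ∈ G1 := hG1 t ((D.A E).mul_mem ((D.A E).mul_mem hα (D.cj_mem hE.1 u)) ((D.A E).inv_mem hα))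
    fun x => by
      have h := hflag' α hα _ (hflag (α⁻¹ x))
      rwa [map_mul, map_inv, MulAut.apply_inv_self] at h
  have hwG : w ∈ G1 := G1.mul_mem (G1.mul_mem hsG (G1.pow_mem htG _)) hsG
  have hτG : τ ∈ G1 := G1.mul_mem hwG hwG
  -- the commutator is inner
  set g := τ * s * τ⁻¹ * s⁻¹ with hg
  have hgG : g ∈ G1 := G1.mul_mem (G1.mul_mem (G1.mul_mem hτG hsG) (G1.inv_mem hτG)) (G1.inv_mem hsG)
  have hgV : ∀ v ∈ Vs, g v = v := fun v hv => by
    rw [hg, MulAut.mul_apply, MulAut.mul_apply, MulAut.mul_apply]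
    have h1 : ∀ {γ : MulAut E}, γ ∈ D.A E → γ v ∈ Vs := fun hγ => hVinv _ hγ v hv
    have h2 := hVinv τ⁻¹ ((D.A E).inv_mem ((D.A E).mul_mem hwA hwA)) _ (h1 ((D.A E).inv_mem (D.cj_mem hE.1 u)))
    rw [hcommV _ h2, MulAut.apply_inv_self, MulAut.apply_inv_self]
  obtain ⟨e₀, he₀⟩ := D.flag_inner hE.1 (D.flag_antitone Vs ⊥ ⊥) rfl (n := 4) le_rfl
    (fun i γ hγ => by
      have hb : ∀ x ∈ (⊥ : Subgroup E), γ x ∈ (⊥ : Subgroup E) := fun x hx => by
        rw [mem_bot] at hx ⊢; rw [hx, map_one]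
      match i with
      | 0 => exact fun x _ => mem_top _
      | 1 => exact sup_inv (sup_inv (sup_inv (hVinv γ hγ) hb) hb) fun _ => frattini_inv
      | 2 => exact sup_inv (sup_inv hb hb) fun _ => frattini_inv
      | 3 => exact sup_inv hb fun _ => frattini_inv
      | _ + 4 => exact fun _ => frattini_inv)
    (mem_flagStab.mp hgG).1 (fun i => by
      have hΦ : ∀ x ∈ frattini E, x⁻¹ * g x ∈ frattini E := fun x hx => mul_mem (inv_mem hx) (frattini_inv hx)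
      match i with
      | 0 =>
        intro x _
        show x⁻¹ * g x ∈ Vs ⊔ ⊥ ⊔ ⊥ ⊔ frattini E
        rw [sup_bot_eq, sup_bot_eq]
        simpa using (mem_flagStab.mp hgG).2 0 x (by simp)
      | 1 =>
        show ∀ x ∈ Vs ⊔ ⊥ ⊔ ⊥ ⊔ frattini E, x⁻¹ * g x ∈ ⊥ ⊔ ⊥ ⊔ frattini E
        simp only [sup_bot_eq, bot_sup_eq]
        exact move_sup (fun v hv => by rw [hgV v hv, inv_mul_cancel]; exact one_mem _) hΦ
      | 2 => simpa [Sys.flag] using hΦ
      | 3 => simpa [Sys.flag] using hΦ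
      | _ + 4 => exact hΦ)
  -- the computation modulo the Frattini subgroup
  let π := QuotientGroup.mk' (frattini E)
  have hab : ∀ a b : E, π a * π b = π b * π a := fun a b => by
    rw [← map_mul, ← map_mul]
    refine QuotientGroup.eq.mpr ?_
    have h := CfsgLib.commutator_le_frattini_pGroup (D.pg.to_subgroup E)
      (commutator_mem_commutator (mem_top (b⁻¹ : E)) (mem_top (a⁻¹ : E)))
    simpa [commutatorElement_def, mul_assoc] using h
  have hπφ : ∀ {γ : MulAut E} {φ : E}, φ ∈ frattini E → π (γ φ) = 1 := fun hφ =>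
    (QuotientGroup.eq_one_iff _).mpr (frattini_inv hφ)
  have hge : ∀ x : E, π (g x) = π x := fun x => by
    rw [← he₀, MulAut.conj_apply, map_mul, map_mul, hab (e₀) x, map_inv, mul_inv_cancel_right]
  have hsτ : π (τ (s x₀)) = π (s (τ x₀)) := by
    have h := hge (s (τ x₀))
    rwa [hg, MulAut.mul_apply, MulAut.mul_apply, MulAut.mul_apply, MulAut.inv_apply_self,
      MulAut.inv_apply_self] at h
  obtain ⟨v, hv, φ, hφ, hvφ⟩ := Subgroup.mem_sup_of_normal_left.mp (hc ▸ hflag x₀ : c ∈ Vs ⊔ frattini E)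
  obtain ⟨mv, hmv, φ', hφ', hmφ⟩ := Subgroup.mem_sup_of_normal_left.mp
    (by simpa using (mem_flagStab.mp hτG).2 0 x₀ (by simp) : x₀⁻¹ * τ x₀ ∈ Vs ⊔ frattini E)
  have hsx : s x₀ = x₀ * (v * φ) := by rw [hvφ, hc, mul_inv_cancel_left]
  have hτx : τ x₀ = x₀ * (mv * φ') := by rw [hmφ, mul_inv_cancel_left]
  obtain ⟨e, he⟩ := hsstep mv hmv
  rw [hsx, hτx] at hsτ
  simp only [map_mul, hπφ hφ, hπφ hφ', hτx, hsx, mul_one, he] at hsτ
  obtain ⟨k₂, hk₂⟩ := hsstep v hv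
  set h := v⁻¹ * τ v * (z ^ e)⁻¹ with hh
  have hhΦ : h ∈ frattini E := by
    rw [← QuotientGroup.eq_one_iff]
    show π h = 1
    have hφ1 : π φ = 1 := (QuotientGroup.eq_one_iff φ).mpr hφ
    have hφ1' : π φ' = 1 := (QuotientGroup.eq_one_iff φ').mpr hφ'
    rw [hφ1, hφ1', mul_one, mul_one, mul_assoc (π x₀) (π mv), mul_assoc (π x₀) (π v), mul_left_cancel_iff, ← mul_assoc (π v), hab v mv, mul_assoc,
      mul_left_cancel_iff] at hsτ
    rw [hh, map_mul, map_mul, map_inv, map_inv, hsτ, inv_mul_cancel_left, mul_inv_cancel]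
  have hτvV : τ v ∈ Vs := hVinv τ ((D.A E).mul_mem hwA hwA) v hv
  have hsh : s h * h⁻¹ = ((z ^ k₂) ^ 2)⁻¹ := by
    rw [hh, map_mul, map_mul, map_inv, map_inv, map_pow, hz, ← hcommV v hv, hk₂, map_mul, map_pow, hτz, inv_pow]
    have c1 : ∀ x : E, Commute (z ^ k₂) x := fun x => hcm (pow_mem hzVs k₂)
    rw [mul_inv_rev, mul_inv_rev, mul_inv_rev, inv_inv, inv_inv, pow_two, mul_inv_rev]
    calc (z ^ k₂)⁻¹ * v⁻¹ * (τ v * (z ^ k₂)⁻¹) * (z ^ e)⁻¹ * (z ^ e * ((τ v)⁻¹ * v))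
        = (z ^ k₂)⁻¹ * (v⁻¹ * (τ v * (z ^ k₂)⁻¹ * (τ v)⁻¹) * v) := by group
      _ = (z ^ k₂)⁻¹ * (z ^ k₂)⁻¹ := by
          rw [← ((c1 (τ v)).inv_left).eq, mul_inv_cancel_right, ← ((c1 v⁻¹).inv_left).eq, inv_mul_cancel_right]
  have h2 : z ^ (k₂ * 2) = 1 := hzk _ (by
    rw [pow_mul, ← inv_inv ((z ^ k₂) ^ 2), ← hsh]
    exact inv_mem (mul_mem (frattini_inv hhΦ) (inv_mem hhΦ)))
  have hk20 : z ^ k₂ = 1 := by
    have hd2 : orderOf z ∣ k₂ * 2 := orderOf_dvd_of_pow_eq_one h2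
    rw [← orderOf_dvd_iff_pow_eq_one]
    rw [orderOf_eq_prime hzp hzne] at hd2 ⊢
    exact ((Nat.coprime_primes hpf.out Nat.prime_two).mpr D.odd).dvd_of_dvd_mul_right hd2
  rw [hk20, mul_one] at hk₂
  refine hk (hzk k ?_)
  rw [← hck, ← hvφ, map_mul, hk₂, mul_inv_rev, show v * s φ * (φ⁻¹ * v⁻¹) = v * (s φ * φ⁻¹) * v⁻¹ by group]
  exact (inferInstance : (frattini E).Normal).conj_mem _ (mul_mem (frattini_inv hφ) (inv_mem hφ)) v

end Sys

end CfsgLib.SectThree
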