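import Cfsg.Agent.Lib.SectThree.Orbit

/-!
The orbit of the moved orbit of the centre is the only one of its kind.
-/

set_option autoImplicit false
set_option linter.unusedSectionVars false
set_option linter.style.haveILetI false

namespace CfsgLib.SectThree

open Subgroup

variable {p : ℕ} [hpf : Fact p.Prime] {P : Type*} [Group P] [Finite P]

namespace Moving

variable {D : Sys p P} {E₁ E₂ : Subgroup P} (M : Moving D E₁ E₂)

include M

theorem wd_normal : (D.orbit E₂ (D.mov E₁)).Normal := D.orbit_normal M.mem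

theorem wd_comm (g : P) {w : P} (hw : w ∈ D.orbit E₂ (D.mov E₁)) : g * w * g⁻¹ * w⁻¹ ∈ D.mov E₁ := by
  haveI := D.mov_normal M.mover.1
  haveI := M.wd_normal
  refine comm_mem_of_card_le D.pg (D.le_orbit M.le) ?_ g hw
  rw [M.mov_card.1, M.mov_card.2, ← pow_succ']

/-- The elements of order `p` of the first member that are central modulo the orbit. -/
theorem exists_core : ∃ N₀ : Subgroup E₁, (∀ α ∈ D.A E₁, ∀ x ∈ N₀, α x ∈ N₀) ∧ Nat.card N₀ ≤ p ^ 3 ∧
    (∀ g : E₁, (∀ x : E₁, g * x * g⁻¹ * x⁻¹ ∈ (D.mov E₁).subgroupOf E₁) → g ^ p = 1 → g ∈ N₀) := by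
  classical
  have hpp : p.Prime := hpf.out
  have hE := M.mover.1
  set Vs := (D.mov E₁).subgroupOf E₁ with hVs
  have hVc : ∀ v ∈ Vs, ∀ x : E₁, Commute x v := fun v hv x =>
    Subtype.ext (D.mov_comm (mem_subgroupOf.mp hv) x.2)
  have hVp : ∀ v ∈ Vs, v ^ p = 1 := fun v hv =>
    Subtype.ext (by rw [Subgroup.coe_pow]; exact D.mov_pow (mem_subgroupOf.mp hv))
  have hVi : ∀ α ∈ D.A E₁, ∀ v ∈ Vs, α v ∈ Vs := fun α hα v hv =>
    mem_subgroupOf.mpr (D.mov_inv hα (mem_subgroupOf.mp hv))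
  have hVcard : Nat.card Vs = p ^ 2 := by
    rw [Nat.card_congr (subgroupOfEquivOfLe (D.mov_le : D.mov E₁ ≤ E₁)).toEquiv, M.mov_card.1]
  let N₀ : Subgroup E₁ :=
    { carrier := {g | (∀ x : E₁, g * x * g⁻¹ * x⁻¹ ∈ Vs) ∧ g ^ p = 1}
      one_mem' := ⟨fun x => by rw [one_mul, inv_one, mul_one, mul_inv_cancel]; exact one_mem _, one_pow p⟩
      mul_mem' := fun {a b} ha hb => ⟨fun x => by
        rw [show a * b * x * (a * b)⁻¹ * x⁻¹ = a * (b * x * b⁻¹ * x⁻¹) * a⁻¹ * (a * x * a⁻¹ * x⁻¹) by group]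
        refine mul_mem ?_ (ha.1 x)
        rw [(hVc _ (hb.1 x) a).eq, mul_inv_cancel_right]
        exact hb.1 x, by
        rw [mul_pow_class_two D.odd (w := b * a * b⁻¹ * a⁻¹) (hVp _ (hb.1 a)) (hVc _ (hb.1 a) a) (hVc _ (hb.1 a) b)
          (by group), ha.2, hb.2, one_mul]⟩
      inv_mem' := fun {a} ha => ⟨fun x => by
        have h := ha.1 x
        rw [show a⁻¹ * x * a⁻¹⁻¹ * x⁻¹ = a⁻¹ * (a * x * a⁻¹ * x⁻¹)⁻¹ * a by group,
          (hVc _ (inv_mem h) a⁻¹).eq, inv_mul_cancel_right]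
        exact inv_mem h, by rw [inv_pow, ha.2, inv_one]⟩ }
  have hN₀i : ∀ α ∈ D.A E₁, ∀ x ∈ N₀, α x ∈ N₀ := fun α hα g hg => ⟨fun x => by
    have h := hVi α hα _ (hg.1 (α⁻¹ x))
    rwa [map_mul, map_mul, map_mul, map_inv, map_inv, MulAut.apply_inv_self] at h,
    by rw [← map_pow, hg.2, map_one]⟩
  refine ⟨N₀, hN₀i, ?_, fun g h1 h2 => ⟨h1, h2⟩⟩
  -- the commutator subgroup
  let κ : E₁ → E₁ → E₁ := fun a b => a * b * a⁻¹ * b⁻¹
  let Cm : Subgroup E₁ := closure {x | ∃ a ∈ N₀, ∃ b ∈ N₀, κ a b = x}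
  have hCmV : Cm ≤ Vs := by rw [closure_le]; rintro _ ⟨a, ha, b, -, rfl⟩; exact ha.1 b
  have helem : ∀ U : Subgroup E₁, U ≤ N₀ → (∀ a ∈ U, ∀ b ∈ U, a * b = b * a) → Nat.card U ≤ p ^ 3 := fun U hU hc => by
    rw [← card_map_of_injective E₁.subtype_injective]
    refine D.elementary_le ?_ ?_
    · rintro _ ⟨a, ha, rfl⟩ _ ⟨b, hb, rfl⟩
      exact congrArg Subtype.val (hc a ha b hb)
    · rintro _ ⟨a, ha, rfl⟩
      exact congrArg Subtype.val (hU ha).2
  by_cases hCm : Cm = ⊥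
  · refine helem N₀ le_rfl fun a ha b hb => ?_
    have h : κ a b ∈ Cm := subset_closure ⟨a, ha, b, hb, rfl⟩
    rwa [hCm, mem_bot, mul_inv_eq_one, mul_inv_eq_iff_eq_mul] at h
  -- the commutator subgroup is the whole orbit
  have hCmi : ∀ α ∈ D.A E₁, ∀ x ∈ Cm, α x ∈ Cm := by
    intro α hα x hx
    have hle : Cm ≤ Cm.comap α.toMonoidHom := by
      rw [closure_le]
      rintro _ ⟨a, ha, b, hb, rfl⟩
      refine subset_closure ⟨α a, hN₀i α hα a ha, α b, hN₀i α hα b hb, ?_⟩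
      show α a * α b * (α a)⁻¹ * (α b)⁻¹ = α (a * b * a⁻¹ * b⁻¹)
      rw [map_mul, map_mul, map_mul, map_inv, map_inv]
    exact hle hx
  have hbig : ∀ c ∈ Vs, ¬ Cm ≤ zpowers c := by
    intro c hc hle
    haveI : (Cm.map E₁.subtype).Normal := ⟨fun x hx g => by
      obtain ⟨e, he, rfl⟩ := hx
      exact ⟨D.cj hE g e, hCmi _ (D.cj_mem hE g) e he, D.coe_cj hE g e⟩⟩
    have hcard : Nat.card (Cm.map E₁.subtype) ≤ p := by
      rw [card_map_of_injective E₁.subtype_injective]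
      refine (Subgroup.card_le_of_le hle).trans ?_
      rw [Nat.card_zpowers]
      exact orderOf_le_of_pow_eq_one hpp.pos (hVp c hc)
    have hz : Cm.map E₁.subtype ≤ zOne p P := M.le_zOne hcard
    have heq : Cm.map E₁.subtype = zOne p P := by
      refine eq_of_le_of_card_ge hz ?_
      rw [M.zOne_card]
      have h1 := mul_card_le_of_lt D.pg (bot_lt_iff_ne_bot.mpr
        (fun h => hCm ((Subgroup.map_eq_bot_iff_of_injective _ E₁.subtype_injective).mp h)) :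
          ⊥ < Cm.map E₁.subtype)
      rwa [Subgroup.card_bot, mul_one] at h1
    refine M.not_inv fun α hα e he => ?_
    rw [← heq] at he ⊢
    exact ⟨α e, hCmi α hα e ((mem_map_iff_mem E₁.subtype_injective).mp he), rfl⟩
  obtain ⟨g, hg, h, hh, hgh⟩ : ∃ g ∈ N₀, ∃ h ∈ N₀, κ g h ≠ 1 := by
    by_contra hno
    push Not at hno
    refine hCm ((eq_bot_iff).mpr ?_)
    rw [closure_le]
    rintro _ ⟨a, ha, b, hb, rfl⟩
    exact mem_bot.mpr (hno a ha b hb)
  set c := κ g h with hc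
  have hcV : c ∈ Vs := hg.1 h
  set S := Vs ⊔ zpowers g ⊔ zpowers h with hS
  obtain ⟨b, hb, hbS⟩ : ∃ b ∈ N₀, b ∉ S := by
    by_contra hno
    push Not at hno
    haveI : (zpowers c).Normal := ⟨fun x hx e => by
      rwa [(hVc x (zpowers_le.mpr hcV hx) e).eq, mul_inv_cancel_right]⟩
    refine hbig c hcV ?_
    rw [closure_le]
    rintro _ ⟨x, hx, y, hy, rfl⟩
    let π := QuotientGroup.mk' (zpowers c)
    have hπc : Commute (π g) (π h) := by
      have e : π c = 1 := (QuotientGroup.eq_one_iff _).mpr (mem_zpowers c)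
      show π g * π h = π h * π g
      rw [← map_mul, show g * h = c * (h * g) by simp [hc, κ, mul_assoc], map_mul, e, one_mul, map_mul]
    have hπV : ∀ v ∈ Vs, ∀ e, Commute (π e) (π v) := fun v hv e => (hVc v hv e).map π
    have hgen : ∀ e : E₁, Commute (π e) (π g) → Commute (π e) (π h) →
        ∀ s ∈ S, Commute (π e) (π s) := fun e h1 h2 s hs =>
      (mem_centralizer_singleton_iff.mp ((sup_le (sup_le
        (fun v hv => mem_centralizer_singleton_iff.mpr (hπV v hv e).symm)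
        (zpowers_le.mpr (mem_centralizer_singleton_iff.mpr h1.symm)))
        (zpowers_le.mpr (mem_centralizer_singleton_iff.mpr h2.symm)) :
          S ≤ (centralizer ({π e} : Set _)).comap π) hs)).symm
    have hx' := hgen x ?_ ?_ y (hno y hy)
    · show x * y * x⁻¹ * y⁻¹ ∈ zpowers c
      rw [← QuotientGroup.eq_one_iff]
      show π _ = 1
      rw [map_mul, map_mul, map_mul, hx'.eq, map_inv, map_inv, mul_inv_cancel_right, mul_inv_cancel]
    · exact (hgen g (Commute.refl _) hπc x (hno x hx)).symm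
    · exact (hgen h hπc.symm (Commute.refl _) x (hno x hx)).symm
  -- bilinearity
  have κr : ∀ {a x y : E₁}, a ∈ N₀ → κ a (x * y) = κ a x * κ a y := fun {a x y} ha => by
    show a * (x * y) * a⁻¹ * (x * y)⁻¹ = _
    rw [show a * (x * y) * a⁻¹ * (x * y)⁻¹ = κ a x * (x * κ a y * x⁻¹) by simp [κ, mul_assoc],
      (hVc _ (ha.1 y) x).eq, mul_inv_cancel_right]
  have κl : ∀ {x y b : E₁}, y ∈ N₀ → κ (x * y) b = κ y b * κ x b := fun {x y b} hy => by
    show x * y * b * (x * y)⁻¹ * b⁻¹ = _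
    rw [show x * y * b * (x * y)⁻¹ * b⁻¹ = (x * κ y b * x⁻¹) * κ x b by simp [κ, mul_assoc],
      (hVc _ (hy.1 b) x).eq, mul_inv_cancel_right]
  have κone : ∀ a : E₁, κ a 1 = 1 := fun a => by simp [κ]
  have κpow : ∀ {a x : E₁}, a ∈ N₀ → ∀ n : ℕ, κ a (x ^ n) = κ a x ^ n := fun {a x} ha n => by
    induction n with
    | zero => simp [κone]
    | succ n ih => rw [pow_succ, κr ha, ih, pow_succ]
  have κswap : ∀ a b : E₁, κ b a = (κ a b)⁻¹ := fun a b => by simp [κ, mul_assoc]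
  have κpowl : ∀ {a x : E₁}, x ∈ N₀ → a ∈ N₀ → ∀ n : ℕ, κ (x ^ n) a = κ x a ^ n := fun {a x} _ ha n => by
    rw [κswap, κpow ha, κswap a x, inv_pow]
  have κself : ∀ a : E₁, κ a a = 1 := fun a => by simp [κ]
  -- a commuting pair
  suffices hpair : ∃ a ∈ N₀, ∃ b' ∈ N₀, κ a b' = 1 ∧ a ∉ Vs ∧ b' ∉ Vs ⊔ zpowers a by
    obtain ⟨a, ha, b', hb', hab, haV, hb'S⟩ := hpair
    exfalso
    have hVN : Vs ≤ N₀ := fun v hv => ⟨fun x => by
      rw [← (hVc v hv x).eq, mul_inv_cancel_right, mul_inv_cancel]; exact one_mem _, hVp v hv⟩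
    have hle := helem (Vs ⊔ zpowers a ⊔ zpowers b') (sup_le (sup_le hVN (zpowers_le.mpr ha)) (zpowers_le.mpr hb'))
      (by
        have hcm : Commute a b' := by
          show a * b' = b' * a
          have h' : a * b' * a⁻¹ * b'⁻¹ = 1 := hab
          rwa [mul_inv_eq_one, mul_inv_eq_iff_eq_mul] at h'
        have hgen : ∀ e : E₁, Commute e a → Commute e b' → ∀ s ∈ Vs ⊔ zpowers a ⊔ zpowers b', Commute e s :=
          fun e h1 h2 s hs =>
          (mem_centralizer_singleton_iff.mp ((sup_le (sup_le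
            (fun v hv => mem_centralizer_singleton_iff.mpr (hVc v hv e).symm)
            (zpowers_le.mpr (mem_centralizer_singleton_iff.mpr h1.symm)))
            (zpowers_le.mpr (mem_centralizer_singleton_iff.mpr h2.symm)) :
              Vs ⊔ zpowers a ⊔ zpowers b' ≤ centralizer ({e} : Set E₁)) hs)).symm
        exact fun x hx y hy => hgen x (hgen a (Commute.refl a) hcm x hx).symm
          (hgen b' hcm.symm (Commute.refl b') x hx).symm y hy)
    have h1 := mul_card_le_of_lt (D.pg.to_subgroup E₁) (lt_of_le_of_ne le_sup_left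
      (fun e => haV (e.ge (mem_sup_right (mem_zpowers a)))) : Vs < Vs ⊔ zpowers a)
    have h2 := mul_card_le_of_lt (D.pg.to_subgroup E₁) (lt_of_le_of_ne le_sup_left
      (fun e => hb'S (e.ge (mem_sup_right (mem_zpowers b')))) : Vs ⊔ zpowers a < Vs ⊔ zpowers a ⊔ zpowers b')
    rw [hVcard] at h1
    have h3 : p ^ 4 ≤ p ^ 3 := le_trans (le_trans (by
      calc p ^ 4 = p * (p * p ^ 2) := by ring
        _ ≤ p * Nat.card (Vs ⊔ zpowers a : Subgroup E₁) := Nat.mul_le_mul_left p h1) h2) hle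
    rw [Nat.pow_le_pow_iff_right hpp.one_lt] at h3
    omega
  have hgV : g ∉ Vs := fun h' => hgh (by
    show g * h * g⁻¹ * h⁻¹ = 1
    rw [← (hVc g h' h).eq, mul_inv_cancel_right, mul_inv_cancel])
  have hgS : g ∈ S := mem_sup_left (mem_sup_right (mem_zpowers g))
  have hhS : h ∈ S := mem_sup_right (mem_zpowers h)
  by_cases hB : κ g b ∈ zpowers c
  · obtain ⟨k, hk⟩ := mem_powers_iff_mem_zpowers.mpr hB
    have hk' : c ^ k = κ g b := hk
    refine ⟨g, hg, b * (h ^ k)⁻¹, mul_mem hb (inv_mem (pow_mem hh k)), ?_, hgV, fun hm => hbS ?_⟩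
    · have h0 : κ g b = κ g (b * (h ^ k)⁻¹) * κ g (h ^ k) := by rw [← κr hg, inv_mul_cancel_right]
      rw [κpow hg, ← hc, hk', right_eq_mul] at h0
      exact h0
    · have h0 := S.mul_mem ((le_sup_left : Vs ⊔ zpowers g ≤ S) hm) (S.pow_mem hhS k)
      rwa [inv_mul_cancel_right] at h0
  obtain ⟨i, j, hij⟩ : ∃ i j : ℕ, κ h b = κ g b ^ i * c ^ j := by
    haveI : (zpowers c).Normal := ⟨fun x hx e => by
      rwa [(hVc x (zpowers_le.mpr hcV hx) e).eq, mul_inv_cancel_right]⟩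
    have hle : zpowers (κ g b) ⊔ zpowers c ≤ Vs := sup_le (zpowers_le.mpr (hg.1 b)) (zpowers_le.mpr hcV)
    have heq : zpowers (κ g b) ⊔ zpowers c = Vs := by
      refine eq_of_le_of_card_ge hle ?_
      have h1 := mul_card_le_of_lt (D.pg.to_subgroup E₁)
        (bot_lt_iff_ne_bot.mpr (fun e => hgh (zpowers_eq_bot.mp e)) : ⊥ < zpowers c)
      have h2 := mul_card_le_of_lt (D.pg.to_subgroup E₁) (lt_of_le_of_ne le_sup_right
        (fun e => hB (e.ge (mem_sup_left (mem_zpowers _)))) : zpowers c < zpowers (κ g b) ⊔ zpowers c)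
      rw [Subgroup.card_bot, mul_one] at h1
      rw [hVcard, pow_two]
      exact (Nat.mul_le_mul_left p h1).trans h2
    obtain ⟨x, hx, y, hy, hxy⟩ := Subgroup.mem_sup_of_normal_right.mp (heq.ge (hh.1 b) : κ h b ∈ _)
    obtain ⟨i, rfl⟩ := mem_powers_iff_mem_zpowers.mpr hx
    obtain ⟨j, rfl⟩ := mem_powers_iff_mem_zpowers.mpr hy
    exact ⟨i, j, hxy.symm⟩
  obtain ⟨e, he⟩ : ∃ e : ℕ, κ g b ^ e = (κ g b ^ i)⁻¹ :=
    mem_powers_iff_mem_zpowers.mpr (inv_mem (pow_mem (mem_zpowers _) i))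
  refine ⟨h * g ^ e, mul_mem hh (pow_mem hg e), b * g ^ j, mul_mem hb (pow_mem hg j), ?_, fun hm => hgh ?_,
    fun hm => hbS ?_⟩
  · rw [κl (pow_mem hg e), κpowl hg (mul_mem hb (pow_mem hg j)), κr hg, κpow hg, κself, one_pow, mul_one, κr hh,
      κpow hh, κswap g h, ← hc, hij, he, mul_assoc, inv_pow, mul_inv_cancel, mul_one, inv_mul_cancel]
  · have h0 : κ g (h * g ^ e) = 1 := by
      show g * (h * g ^ e) * g⁻¹ * (h * g ^ e)⁻¹ = 1
      rw [(hVc _ hm g).eq, mul_inv_cancel_right, mul_inv_cancel]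
    rwa [κr hg, κpow hg, κself, one_pow, mul_one] at h0
  · have hsub : Vs ⊔ zpowers (h * g ^ e) ≤ S :=
      sup_le (le_sup_of_le_left le_sup_left) (zpowers_le.mpr (mul_mem hhS (pow_mem hgS e)))
    have h0 := S.mul_mem (hsub hm) (S.inv_mem (S.pow_mem hgS j))
    rwa [mul_inv_cancel_right] at h0

/-- A normal elementary abelian subgroup properly containing the orbit is the orbit's orbit. -/
theorem unique {W' : Subgroup P} [W'.Normal] (hc : ∀ a ∈ W', ∀ b ∈ W', a * b = b * a) (he : ∀ a ∈ W', a ^ p = 1)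
    (hV : D.mov E₁ ≤ W') (hne : ¬ W' ≤ D.mov E₁) : W' = D.orbit E₂ (D.mov E₁) := by
  haveI := D.mov_normal M.mover.1
  obtain ⟨N₀, -, hcard, hN₀⟩ := M.exists_core
  have hcW : Nat.card W' = p ^ 3 := by
    refine le_antisymm (D.elementary_le hc he) ?_
    have h := mul_card_le_of_lt D.pg (lt_of_le_of_ne hV fun e => hne e.ge)
    rw [M.mov_card.1, ← pow_succ'] at h
    exact h
  have hsub : ∀ {X : Subgroup P}, X ≤ E₁ → (∀ g, ∀ w ∈ X, g * w * g⁻¹ * w⁻¹ ∈ D.mov E₁) →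
      (∀ a ∈ X, a ^ p = 1) → X ≤ N₀.map E₁.subtype := fun {X} hX hcm hp w hw =>
    ⟨⟨w, hX hw⟩, hN₀ _ (fun x => mem_subgroupOf.mpr (by
      have h := inv_mem (hcm (x : P) w hw)
      push_cast
      rw [show w * (x : P) * w⁻¹ * (x : P)⁻¹ = ((x : P) * w * (x : P)⁻¹ * w⁻¹)⁻¹ by group]
      exact h)) (Subtype.ext (hp w hw)), rfl⟩
  have h1 : W' ≤ N₀.map E₁.subtype := hsub
    (fun w hw => D.cen_mov M.mover fun v hv => hc w hw v (hV hv))
    (fun g w hw => comm_mem_of_card_le D.pg hV (by rw [M.mov_card.1, hcW, ← pow_succ']) g hw) he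
  have h2 : D.orbit E₂ (D.mov E₁) ≤ N₀.map E₁.subtype := hsub M.orbit_le_E₁ (fun g w hw => M.wd_comm g hw)
    fun a ha => M.orbit_pow ha
  have hcardM : Nat.card (N₀.map E₁.subtype) ≤ p ^ 3 := by rwa [card_map_of_injective E₁.subtype_injective]
  rw [eq_of_le_of_card_ge h1 (hcardM.trans hcW.ge), eq_of_le_of_card_ge h2 (hcardM.trans M.mov_card.2.ge)]

theorem wd_inv {α : MulAut E₁} (hα : α ∈ D.A E₁) {e : E₁} (he : (e : P) ∈ D.orbit E₂ (D.mov E₁)) :
    ((α e : E₁) : P) ∈ D.orbit E₂ (D.mov E₁) := by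
  obtain ⟨N₀, hi, hcard, hN₀⟩ := M.exists_core
  have hle : D.orbit E₂ (D.mov E₁) ≤ N₀.map E₁.subtype := fun w hw =>
    ⟨⟨w, M.orbit_le_E₁ hw⟩, hN₀ _ (fun x => mem_subgroupOf.mpr (by
      have h := inv_mem (M.wd_comm (x : P) hw)
      push_cast
      rw [show w * (x : P) * w⁻¹ * (x : P)⁻¹ = ((x : P) * w * (x : P)⁻¹ * w⁻¹)⁻¹ by group]
      exact h)) (Subtype.ext (M.orbit_pow hw)), rfl⟩
  have heq := eq_of_le_of_card_ge hle (by rw [card_map_of_injective E₁.subtype_injective, M.mov_card.2]; exact hcard)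
  rw [heq] at he ⊢
  exact ⟨α e, hi α hα e ((mem_map_iff_mem E₁.subtype_injective).mp he), rfl⟩

end Moving

end CfsgLib.SectThree
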